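/-
Coordinates of the 693 points of `XU`: isotropic vectors of `F_4^6` for the form `∑ uᵢ vᵢ²`.
The field elements are coded `a + 2b ↦ a + b ω` with `ω² = ω + 1` (so `0,1,2,3 ↦ 0,1,ω,ω²`); every vector is normalised
(first non-zero coordinate `1`).  The transvection of `a` is `v ↦ v + h(v,a) a`.
Generators (points `0..7`, letters c d e f g h i x):
[[0, 0, 0, 0, 1, 1], [0, 0, 0, 1, 0, 1], [0, 0, 1, 1, 0, 0], [0, 1, 1, 0, 0, 0], [0, 0, 1, 1, 1, 1], [1, 1, 1, 1, 0, 0], [1, 2, 2, 2, 2, 2], [1, 1, 2, 2, 2, 2]]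
-/
import Cfsg.Agent.Fi.BT
set_option autoImplicit false
namespace CA.TC
/-- Coordinate `i < 6` of the point `p < 693`. -/
noncomputable def uvec (p i : Nat) : Nat :=
  Nat.land (Nat.shiftRight (nat_lit 0x864294dc4a14264d344a44894f486173134da050f5291dc1c1d9bd6edf508947c4129e79a50dd0bd9fa55551f4189d31f44429891c4d4f1a44f9928531dc35734c743717c1261624b79849d993159e51a46f94a160970d7ad6b5c459ed4d1310a5da110dd50d6bd9e9171b81e6de217d0ed97692c9690be58390adffd9091a17993741f1da5b6d4cd340d0d345009f14069d698859b5c711d1349d05cd469d684f690b9819225335471cc514d3d1f59f419246214c5249c156e5d907b98c99d9ed09f9e09e59dadc51ca1304a75c10b21c199b96e9af9da9eadefda4107da7d531e81990e9d2e1ee5239bb582d5a9921b597a5c403193d4b9d43d9001cd7058e1d117903517a97090210995e982599dbadeb9cd1c491c5361e5098468121966dd847e90e99793c544d11d7d9f114359d0f650d5e65db9c256d9bd0c89ec4b099ad95d3a1c04cf4ad50d00d96b9e69aedbfdadd5c1ac1eb52b122d88d96998165db65d0084032513d8b1d41b50711b694c9784d09721081a810a55b996dbb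9ee9135c616d03919c4e447e5e95de9c85679d24c29e34f0541ddd9779075e90f950950e5f90975389bc44646ad59d0c43f4090079a79e99abdfbdaf5a3128d669999b95675240810815385de5741b99439b441c94e1801b112f4724d21781a215adbe9b90c916c4934e147b5bd58c51e49d5329b3449476d05dd79e84065ad00b55b5f8416406da6d56d034f34084ad9ea59a5feda0d699e11ed52c54e42018f48546d5210215804845b05db5ba51b423d09d174a24f9dbf565513942db41b141e14b12a1364d81a09fa9b84e248d16342d479d425b75835d953b4194d6d0595f9ac45e5f24524024a9d579fc4ae56a5ff9a59485e058718a1c64e412d14b48d4125e75235795cb4254e552042452a48519f5d9def5bdd4742cd81d2e41d483df6da34534fd9a84fb595512d48d3941b12899c1afdb2441927433db5dd653e49145edf0d5d9584ab5fc1fd0a6555d449b551854916f521d84dc942718896c18e4119874c3df55e5d765ce46146058a42512f19dd8cd5bdeddb7d4d4e0d7ed2b4d140bdf795c4fe5031ff5a9059518d229931ebda553a43cddd5d59944f315f5590a9557d5750054610fd149905191e316dd7bdb0dded8b471424d829631bbdca4ccd7d57596446118f197dc8d0ed00de7dc547f9d440c15d0565fddfd590deed6953f1d759505dd5d5011ec11610a9509911b3167d38ddbd354df974460dbed995cf1775650641cb1c2d0f95596fdc01d50f7df75541ef9665d5dd55041bc1521fad9413b132d9fd301750bf996575d755ce1c39f5dba97fd7f5511659401581f81fb95a53e1339ea9dfddf5959101cc97dd5059a9151454f21fe9ae95993c9ddd6a945115477d145104f09ab9569a69514d7d445404115110aad5fda99544044415410140aa5aa9055550014050440500)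 (Nat.add (Nat.mul (nat_lit 12) p) (Nat.mul (nat_lit 2) i))) (nat_lit 3)
end CA.TC
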