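import Cfsg.Agent.Fi.Cent
import Cfsg.Agent.Fi.K23
set_option autoImplicit false
set_option maxRecDepth 100000
namespace CA.TC
theorem ce23_p : chkPins X23 10 [[1, 2, 3, 4, 11, 10, 0, 1, 2, 3, 4, 11], [2, 3, 4, 11, 10, 1, 2, 3, 4, 11], [3, 4, 11, 10, 2, 3, 4, 11], [4, 11, 10, 3, 4, 11], [11, 10, 4, 11], [1, 2, 3, 4, 11, 10, 5, 1, 2, 3, 4, 11], [7, 3, 4, 11, 10, 6, 7, 3, 4, 11], [3, 4, 11, 10, 7, 3, 4, 11], [9, 0, 1, 2, 3, 4, 11, 10, 8, 9, 0, 1, 2, 3, 4, 11], [0, 1, 2, 3, 4, 11, 10, 9, 0, 1, 2, 3, 4, 11], [], [10, 11]] qs23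
  [[], [0], [1], [2], [9, 8, 0, 9, 1, 2, 3, 7, 4, 3, 2, 1, 0, 1, 2, 3, 4, 7, 3, 2, 1, 9, 0, 8, 9], [6], [2, 3, 7, 5, 4, 3, 2, 3, 4, 3, 7, 3, 4, 10], [8], [], [4], [3], [], [1], [2], [], [6], [2, 3, 7, 5, 4, 3, 2, 3, 4, 3, 7, 3, 4, 10], [8], [9], [4], [3], [], [2], [5], [6], [2, 3, 7, 5, 4, 3, 2, 3, 4, 3, 7, 3, 4, 10], [8], [9], [4], [3], [], [5], [6], [], [8], [9], [4], [3], [5], [6], [7], [8], [9], [4], [], [5, 6, 1, 5, 1, 2, 1, 0, 1, 2, 3, 4, 5, 2, 1, 2, 5, 3, 6, 5, 2, 1, 2, 5, 3, 7, 2, 1, 5, 3, 2, 1, 0, 1, 2, 3, 5, 1, 2, 4, 5, 6, 1, 5, 2, 1, 0, 1, 2, 5, 1, 6, 5, 7, 3, 5, 6, 1, 5, 2, 1, 0, 1, 2, 5, 1, 6, 5], [2, 3, 7, 5, 4, 3, 2, 3, 4, 3, 7, 3, 4, 10], [8], [9], [4], [3], [], [8], [9], [4], [3], [8], [9], [4], [3],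 [], [4], [3], [4], [3], [], [1, 5, 6, 7, 3, 4, 6, 5, 2, 1, 2, 5, 3, 7, 6, 5, 2, 1, 2, 5, 4, 7, 3, 4, 6, 7, 3, 10], [0, 1, 5, 6, 1, 2, 3, 7, 4, 3, 2, 0, 4, 3, 7, 6, 2, 1, 0, 1, 2, 3, 4, 7, 3, 2, 1, 0, 1, 2, 3, 5, 6, 1, 5, 2, 1, 0, 1, 2, 5, 1, 6, 5, 7, 3, 4, 5, 6, 1, 5, 2, 1, 0, 1, 2, 5, 1, 6, 5, 3, 7, 3, 8, 10], [7, 6, 5, 2, 1, 7, 6, 5, 2, 1, 2, 5], [1, 0, 9, 8, 5, 1, 0, 9, 6, 2, 3, 7, 4, 3, 2, 4, 3, 7, 6, 2, 1, 0, 1, 2, 3, 4, 7, 3, 2, 1, 0, 1, 2, 3, 5, 6, 1, 5, 2, 1, 0, 1, 2, 5, 1, 6, 5, 7, 3, 4, 5, 6, 1, 5, 2, 1, 0, 1, 2, 5, 1, 6, 5, 3, 7, 3, 6, 10], [1, 5, 6, 7, 3, 1, 2, 1, 3, 5, 2, 1, 2, 5, 6, 7, 3, 5, 2, 1, 2, 5, 3, 7, 3], [0], [0], [0], [9, 8, 0, 9, 1, 2, 3, 7, 4, 3, 2, 1, 0, 1, 2, 3, 4, 7, 3, 2, 1, 9, 0, 8, 9],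 [0], [0], [8], [0], [0], [1], [1], [1], [1], [9], [9], [1], [1], [2], [5], [2, 3, 7, 5, 4, 3, 2, 3, 4, 3, 7, 3, 4, 10], [2, 3, 7, 5, 4, 3, 2, 3, 4, 3, 7, 3, 4, 10], [0], [0], [2], [2], [1], [6], [1], [1], [3], [3], [2], [7], [7], [2], [2], [4], [5], [9, 8, 0, 9, 1, 2, 3, 7, 4, 3, 2, 1, 0, 1, 2, 3, 4, 7, 3, 2, 1, 9, 0, 8, 9], [9, 8, 0, 9, 1, 2, 3, 7, 4, 3, 2, 1, 0, 1, 2, 3, 4, 7, 3, 2, 1, 9, 0, 8, 9], [5], [5], [6], [6], [6], [6], [2, 3, 7, 5, 4, 3, 2, 3, 4, 3, 7, 3, 4, 10], [2, 3, 7, 5, 4, 3, 2, 3, 4, 3, 7, 3, 4, 10], [7], [7], [8], [8], [9], [9], [10], [10], [10], [10], [10], [10], [10], [10], [10], [10], [10], [10]] = true := by decide +kernel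
theorem ce23_z : ∀ g < 12, X23.actw [9, 0, 1, 2, 3, 4, 5, 9, 0, 1, 2, 3, 4, 5, 9, 0, 1, 2, 3, 4, 5, 9, 0, 1, 2, 3, 4, 5, 9, 0, 1, 2, 3, 4, 5, 9, 0, 1, 2, 3, 4, 5, 9, 0, 1, 2, 3, 4, 5, 9, 0, 1, 2, 3, 4, 5, 9, 0, 1, 2, 3, 4, 5] (X23.pt g) = X23.actw [10] (X23.pt g) := by decide +kernel
theorem ce23_f0 : rng (chkFar X22 X23 [0, 1, 2, 3, 5, 6, 7, 8, 9]) 0 31671 9 = true := by decide +kernel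
theorem ce23_m : ∀ g ∈ [0, 1, 2, 3, 5, 6, 7, 8, 9], g < X22.ng ∧ X23.act g (X22.n + 1) = X22.n + 1 := by decide +kernel
end CA.TC
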