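import Cfsg.Agent.Fi.C24
import Cfsg.Agent.Fi.Nest
import Cfsg.Agent.Fi.X23
import Cfsg.Agent.Fi.K24_00
import Cfsg.Agent.Fi.K24_01
import Cfsg.Agent.Fi.K24_02
import Cfsg.Agent.Fi.K24_03
import Cfsg.Agent.Fi.K24_04
import Cfsg.Agent.Fi.K24_05
import Cfsg.Agent.Fi.K24_06
import Cfsg.Agent.Fi.K24_07
import Cfsg.Agent.Fi.K24_08
import Cfsg.Agent.Fi.K24_09
import Cfsg.Agent.Fi.K24_10
import Cfsg.Agent.Fi.K24_11
import Cfsg.Agent.Fi.K24_12
import Cfsg.Agent.Fi.K24_13
import Cfsg.Agent.Fi.K24_14
import Cfsg.Agent.Fi.K24_15
import Cfsg.Agent.Fi.K24_16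
import Cfsg.Agent.Fi.K23
set_option autoImplicit false
namespace CA.TC
theorem k24_c : ∀ p < 306936, C24.chk p = true := by
  intro p hp
  by_cases h : p < 4096
  · exact rng_spec k24_c_0 p (by omega) h
  by_cases h : p < 8192
  · exact rng_spec k24_c_1 p (by omega) h
  by_cases h : p < 12288
  · exact rng_spec k24_c_2 p (by omega) h
  by_cases h : p < 16384
  · exact rng_spec k24_c_3 p (by omega) h
  by_cases h : p < 20480
  · exact rng_spec k24_c_4 p (by omega) h
  by_cases h : p < 24576
  · exact rng_spec k24_c_5 p (by omega) h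
  by_cases h : p < 28672
  · exact rng_spec k24_c_6 p (by omega) h
  by_cases h : p < 32768
  · exact rng_spec k24_c_7 p (by omega) h
  by_cases h : p < 36864
  · exact rng_spec k24_c_8 p (by omega) h
  by_cases h : p < 40960
  · exact rng_spec k24_c_9 p (by omega) h
  by_cases h : p < 45056
  · exact rng_spec k24_c_10 p (by omega) h
  by_cases h : p < 49152
  · exact rng_spec k24_c_11 p (by omega) h
  by_cases h : p < 53248
  · exact rng_spec k24_c_12 p (by omega) h
  by_cases h : p < 57344
  · exact rng_spec k24_c_13 p (by omega) h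
  by_cases h : p < 61440
  · exact rng_spec k24_c_14 p (by omega) h
  by_cases h : p < 65536
  · exact rng_spec k24_c_15 p (by omega) h
  by_cases h : p < 69632
  · exact rng_spec k24_c_16 p (by omega) h
  by_cases h : p < 73728
  · exact rng_spec k24_c_17 p (by omega) h
  by_cases h : p < 77824
  · exact rng_spec k24_c_18 p (by omega) h
  by_cases h : p < 81920
  · exact rng_spec k24_c_19 p (by omega) h
  by_cases h : p < 86016
  · exact rng_spec k24_c_20 p (by omega) h
  by_cases h : p < 90112
  · exact rng_spec k24_c_21 p (by omega) h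
  by_cases h : p < 94208
  · exact rng_spec k24_c_22 p (by omega) h
  by_cases h : p < 98304
  · exact rng_spec k24_c_23 p (by omega) h
  by_cases h : p < 102400
  · exact rng_spec k24_c_24 p (by omega) h
  by_cases h : p < 106496
  · exact rng_spec k24_c_25 p (by omega) h
  by_cases h : p < 110592
  · exact rng_spec k24_c_26 p (by omega) h
  by_cases h : p < 114688
  · exact rng_spec k24_c_27 p (by omega) h
  by_cases h : p < 118784
  · exact rng_spec k24_c_28 p (by omega) h
  by_cases h : p < 122880
  · exact rng_spec k24_c_29 p (by omega) h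
  by_cases h : p < 126976
  · exact rng_spec k24_c_30 p (by omega) h
  by_cases h : p < 131072
  · exact rng_spec k24_c_31 p (by omega) h
  by_cases h : p < 135168
  · exact rng_spec k24_c_32 p (by omega) h
  by_cases h : p < 139264
  · exact rng_spec k24_c_33 p (by omega) h
  by_cases h : p < 143360
  · exact rng_spec k24_c_34 p (by omega) h
  by_cases h : p < 147456
  · exact rng_spec k24_c_35 p (by omega) h
  by_cases h : p < 151552
  · exact rng_spec k24_c_36 p (by omega) h
  by_cases h : p < 155648
  · exact rng_spec k24_c_37 p (by omega) h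
  by_cases h : p < 159744
  · exact rng_spec k24_c_38 p (by omega) h
  by_cases h : p < 163840
  · exact rng_spec k24_c_39 p (by omega) h
  by_cases h : p < 167936
  · exact rng_spec k24_c_40 p (by omega) h
  by_cases h : p < 172032
  · exact rng_spec k24_c_41 p (by omega) h
  by_cases h : p < 176128
  · exact rng_spec k24_c_42 p (by omega) h
  by_cases h : p < 180224
  · exact rng_spec k24_c_43 p (by omega) h
  by_cases h : p < 184320
  · exact rng_spec k24_c_44 p (by omega) h
  by_cases h : p < 188416
  · exact rng_spec k24_c_45 p (by omega) h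
  by_cases h : p < 192512
  · exact rng_spec k24_c_46 p (by omega) h
  by_cases h : p < 196608
  · exact rng_spec k24_c_47 p (by omega) h
  by_cases h : p < 200704
  · exact rng_spec k24_c_48 p (by omega) h
  by_cases h : p < 204800
  · exact rng_spec k24_c_49 p (by omega) h
  by_cases h : p < 208896
  · exact rng_spec k24_c_50 p (by omega) h
  by_cases h : p < 212992
  · exact rng_spec k24_c_51 p (by omega) h
  by_cases h : p < 217088
  · exact rng_spec k24_c_52 p (by omega) h
  by_cases h : p < 221184
  · exact rng_spec k24_c_53 p (by omega) h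
  by_cases h : p < 225280
  · exact rng_spec k24_c_54 p (by omega) h
  by_cases h : p < 229376
  · exact rng_spec k24_c_55 p (by omega) h
  by_cases h : p < 233472
  · exact rng_spec k24_c_56 p (by omega) h
  by_cases h : p < 237568
  · exact rng_spec k24_c_57 p (by omega) h
  by_cases h : p < 241664
  · exact rng_spec k24_c_58 p (by omega) h
  by_cases h : p < 245760
  · exact rng_spec k24_c_59 p (by omega) h
  by_cases h : p < 249856
  · exact rng_spec k24_c_60 p (by omega) h
  by_cases h : p < 253952
  · exact rng_spec k24_c_61 p (by omega) h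
  by_cases h : p < 258048
  · exact rng_spec k24_c_62 p (by omega) h
  by_cases h : p < 262144
  · exact rng_spec k24_c_63 p (by omega) h
  by_cases h : p < 266240
  · exact rng_spec k24_c_64 p (by omega) h
  by_cases h : p < 270336
  · exact rng_spec k24_c_65 p (by omega) h
  by_cases h : p < 274432
  · exact rng_spec k24_c_66 p (by omega) h
  by_cases h : p < 278528
  · exact rng_spec k24_c_67 p (by omega) h
  by_cases h : p < 282624
  · exact rng_spec k24_c_68 p (by omega) h
  by_cases h : p < 286720
  · exact rng_spec k24_c_69 p (by omega) h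
  by_cases h : p < 290816
  · exact rng_spec k24_c_70 p (by omega) h
  by_cases h : p < 294912
  · exact rng_spec k24_c_71 p (by omega) h
  by_cases h : p < 299008
  · exact rng_spec k24_c_72 p (by omega) h
  by_cases h : p < 303104
  · exact rng_spec k24_c_73 p (by omega) h
  exact rng_spec k24_c_74 p (by omega) hp
theorem k24_p : ∀ p < 306936, X24.chkP p = true := by
  intro p hp
  by_cases h : p < 32768
  · exact rng_spec k24_p_0 p (by omega) h
  by_cases h : p < 65536
  · exact rng_spec k24_p_1 p (by omega) h
  by_cases h : p < 98304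
  · exact rng_spec k24_p_2 p (by omega) h
  by_cases h : p < 131072
  · exact rng_spec k24_p_3 p (by omega) h
  by_cases h : p < 163840
  · exact rng_spec k24_p_4 p (by omega) h
  by_cases h : p < 196608
  · exact rng_spec k24_p_5 p (by omega) h
  by_cases h : p < 229376
  · exact rng_spec k24_p_6 p (by omega) h
  by_cases h : p < 262144
  · exact rng_spec k24_p_7 p (by omega) h
  by_cases h : p < 294912
  · exact rng_spec k24_p_8 p (by omega) h
  exact rng_spec k24_p_9 p (by omega) hp
theorem k24_l : ∀ p < 31671, chkLo X23 X24 p = true := by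
  intro p hp
  by_cases h : p < 8192
  · exact rng_spec k24_l_0 p (by omega) h
  by_cases h : p < 16384
  · exact rng_spec k24_l_1 p (by omega) h
  by_cases h : p < 24576
  · exact rng_spec k24_l_2 p (by omega) h
  exact rng_spec k24_l_3 p (by omega) hp
theorem k24_h : ∀ p < 306936, chkHi X23 X24 ag24 p = true := by
  intro p hp
  by_cases h : p < 32768
  · exact rng_spec k24_h_0 p (by omega) h
  by_cases h : p < 65536
  · exact rng_spec k24_h_1 p (by omega) h
  by_cases h : p < 98304
  · exact rng_spec k24_h_2 p (by omega) h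
  by_cases h : p < 131072
  · exact rng_spec k24_h_3 p (by omega) h
  by_cases h : p < 163840
  · exact rng_spec k24_h_4 p (by omega) h
  by_cases h : p < 196608
  · exact rng_spec k24_h_5 p (by omega) h
  by_cases h : p < 229376
  · exact rng_spec k24_h_6 p (by omega) h
  by_cases h : p < 262144
  · exact rng_spec k24_h_7 p (by omega) h
  by_cases h : p < 294912
  · exact rng_spec k24_h_8 p (by omega) h
  exact rng_spec k24_h_9 p (by omega) hp
theorem X24_n : X24.n = 306936 := rfl
theorem X24_ng : X24.ng = 14 := rfl
theorem k24_r : C24.chkR = true := by decide +kernel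
theorem k24_g : X24.chkG = true := by decide +kernel
theorem k24_q : ∀ q ∈ qs24, q.1 < X24.ng ∧ X24.Val q.2.1 ∧ q.2.2 < X24.ng := by decide +kernel
theorem ok24 : X24.Ok :=
  X24.ok_of (fun _ hg _ hp => C24.act_lt k24_c hg hp) (fun _ hg _ hp => C24.act_inv k24_c hg hp) k24_p k24_g
/-- Todd–Coxeter: involutions satisfying the relations `qs24` realise the table. -/
theorem qreal24 {G : Type*} [Group G] (s : ℕ → G) (hs : ∀ g < 14, s g * s g = 1) (h : QRel s qs24) :
    QReal X24 (X24.el s) :=
  X24.qreal_of_cert ok24 k24_q k24_r k24_c s hs h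
theorem trans24 : X24.Trans := by
  refine ok24.trans_of fun g hg => ⟨([[9, 8, 13, 12, 0, 9, 8, 13], [2, 3, 7, 13, 12, 1, 2, 3, 7, 13], [3, 7, 13, 12, 2, 3, 7, 13], [7, 13, 12, 3, 7, 13], [3, 7, 13, 12, 4, 3, 7, 13], [6, 7, 13, 12, 5, 6, 7, 13], [7, 13, 12, 6, 7, 13], [13, 12, 7, 13], [13, 12, 8, 13], [8, 13, 12, 9, 8, 13], [11, 4, 3, 7, 13, 12, 10, 11, 4, 3, 7, 13], [4, 3, 7, 13, 12, 11, 4, 3, 7, 13], [], [12, 13]] : List (List ℕ)).getD g [], ?_⟩
  revert g
  decide +kernel
theorem nest24 : Nest X23 X24 := nest_of ok23 ok24 (by decide +kernel) k24_l k24_h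
end CA.TC
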