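import Cfsg.Agent.Fi.Cent
import Cfsg.Agent.Fi.K24
set_option autoImplicit false
set_option maxRecDepth 100000
namespace CA.TC
theorem ce24_p : chkPins X24 12 [[9, 8, 13, 12, 0, 9, 8, 13], [2, 3, 7, 13, 12, 1, 2, 3, 7, 13], [3, 7, 13, 12, 2, 3, 7, 13], [7, 13, 12, 3, 7, 13], [3, 7, 13, 12, 4, 3, 7, 13], [6, 7, 13, 12, 5, 6, 7, 13], [7, 13, 12, 6, 7, 13], [13, 12, 7, 13], [13, 12, 8, 13], [8, 13, 12, 9, 8, 13], [11, 4, 3, 7, 13, 12, 10, 11, 4, 3, 7, 13], [4, 3, 7, 13, 12, 11, 4, 3, 7, 13], [], [12, 13]] qs24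
  [[3, 2, 1, 0, 9, 8, 7, 3, 2, 1, 0, 9, 1, 5, 1, 0, 1, 5, 3, 2, 1, 5, 3, 2, 1, 0, 1, 2, 3, 5, 1, 2], [2], [3], [4], [5], [6], [3, 7, 2, 1, 5, 3, 2, 1, 0, 1, 2, 3, 5, 1, 2, 7, 3], [0], [], [10], [11], [8], [9], [], [1], [2, 3, 7, 5, 4, 3, 2, 3, 4, 3, 7, 3, 4, 10, 12], [9, 8, 0, 9, 0, 1, 5, 6, 7, 3, 1, 2, 1, 3, 5, 2, 1, 2, 5, 6, 7, 3, 5, 2, 1, 2, 5, 3, 7, 3, 8, 12], [8, 9, 0, 1, 5, 6, 7, 3, 2, 3, 7, 6, 5, 1, 0, 9, 8], [2], [3, 7, 2, 1, 5, 3, 2, 1, 0, 1, 2, 3, 5, 1, 2, 7, 3], [9], [10], [11], [7], [3], [], [2, 3, 7, 5, 4, 3, 2, 3, 4, 3, 7, 3, 4, 10, 12], [5], [8, 9, 0, 1, 5, 6, 7, 3, 2, 3, 7, 6, 5, 1, 0, 9, 8], [2], [3, 7, 2, 1, 5, 3, 2, 1, 0, 1, 2, 3, 5, 1, 2, 7, 3], [9], [10], [11], [7], [3], [], [5], [8, 9, 0, 1, 5,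 6, 7, 3, 2, 3, 7, 6, 5, 1, 0, 9, 8], [], [3, 7, 2, 1, 5, 3, 2, 1, 0, 1, 2, 3, 5, 1, 2, 7, 3], [9], [10], [11], [7], [3], [5], [8, 9, 0, 1, 5, 6, 7, 3, 2, 3, 7, 6, 5, 1, 0, 9, 8], [4], [3, 7, 2, 1, 5, 3, 2, 1, 0, 1, 2, 3, 5, 1, 2, 7, 3], [9], [10], [], [7], [3], [], [5], [3, 7, 2, 1, 5, 3, 2, 1, 0, 1, 2, 3, 5, 1, 2, 7, 3], [9], [10], [11], [7], [6], [], [3, 7, 2, 1, 5, 3, 2, 1, 0, 1, 2, 3, 5, 1, 2, 7, 3], [9], [10], [11], [7], [6], [3, 7, 2, 1, 5, 3, 2, 1, 0, 1, 2, 3, 5, 1, 2, 7, 3], [9], [10], [11], [7], [], [], [10], [11], [8], [], [10], [11], [8], [9], [], [7], [3], [7], [3], [], [9, 8, 0, 1, 5, 6, 7, 3, 2, 1, 0, 9, 1, 2, 5, 2, 1, 2, 5, 3, 6, 5, 2, 1, 2, 5, 3, 5, 6, 1, 5, 2, 1, 0, 1, 2, 5, 1, 6, 5, 7, 3, 2, 1, 5, 3,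 2, 1, 0, 1, 2, 3, 5, 1, 2, 6, 8, 12], [6, 7, 3, 2, 0, 6, 2, 1, 5, 3, 2, 1, 0, 1, 2, 3, 5, 1, 2, 6, 7, 2, 1, 5, 3, 2, 1, 0, 1, 2, 3, 5, 1, 2, 8, 12], [1, 0, 9, 6, 7, 2, 1, 5, 6, 3, 2, 0, 1, 5, 4, 3, 2, 1, 0, 9, 5, 6, 5, 1, 2, 3, 7, 6, 2, 1, 5, 4, 3, 2, 0, 1, 6, 7, 6, 5, 2, 1, 2, 5, 3, 4, 6, 7, 3, 6, 5, 2, 1, 2, 5, 4, 3, 7, 3, 4, 10, 12], [5, 6, 1, 5, 1, 7, 6, 5, 1, 0, 1, 5, 6, 7, 6, 8], [3, 4, 11, 10, 2, 3, 4, 11, 9, 1, 5, 6, 7, 2, 1, 5, 6, 3, 7, 0, 1, 5, 4, 3, 2, 1, 0, 9, 7, 0, 1, 5, 6, 3, 7, 1, 5, 4, 3, 2, 0, 1, 5, 1, 0, 1, 5, 6, 7, 3, 4, 5, 2, 1, 2, 5, 6, 7, 3, 2, 1, 0, 1, 2, 3, 6, 7, 2, 1, 5, 3, 2, 1, 0, 1, 2, 3, 5, 1, 2, 4, 6, 7, 2, 1, 5, 3, 2, 1, 0, 1, 2, 3, 5, 1, 2, 7, 5, 6, 1, 5, 2, 1, 0, 1, 2, 5, 1, 6, 5], [9,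 0, 1, 5, 2, 1, 0, 9, 5, 6, 1, 5, 2, 0, 1, 7, 6, 5, 1, 0, 1, 5, 6, 7, 5, 6, 1, 5, 2, 1, 0, 1, 2, 5, 1, 6, 5, 8], [7, 3, 4, 11, 6, 5, 1, 2, 3, 7, 6, 1, 5, 4, 3, 2, 1, 0, 1, 2, 3, 4, 5, 1, 6, 7, 3, 2, 1, 5, 6, 11, 4, 3, 7], [0], [0], [0], [0], [0], [0], [0], [0], [0], [0], [0], [1], [1], [1], [1], [1], [1], [1], [1], [1], [1], [2, 3, 7, 5, 4, 3, 2, 3, 4, 3, 7, 3, 4, 10, 12], [2], [2], [2], [2], [2], [2, 3, 7, 5, 4, 3, 2, 3, 4, 3, 7, 3, 4, 10, 12], [2, 3, 7, 5, 4, 3, 2, 3, 4, 3, 7, 3, 4, 10, 12], [2], [2], [8, 9, 0, 1, 5, 6, 7, 3, 2, 3, 7, 6, 5, 1, 0, 9, 8], [8, 9, 0, 1, 5, 6, 7, 3, 2, 3, 7, 6, 5, 1, 0, 9, 8], [3], [3], [11], [11], [3], [3], [4], [4], [4], [4], [4], [10], [4], [4], [5], [5], [5], [5], [5], [5], [5], [6],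 [6], [8, 9, 0, 1, 5, 6, 7, 3, 2, 3, 7, 6, 5, 1, 0, 9, 8], [8, 9, 0, 1, 5, 6, 7, 3, 2, 3, 7, 6, 5, 1, 0, 9, 8], [6], [6], [3, 7, 2, 1, 5, 3, 2, 1, 0, 1, 2, 3, 5, 1, 2, 7, 3], [3, 7, 2, 1, 5, 3, 2, 1, 0, 1, 2, 3, 5, 1, 2, 7, 3], [4], [4], [7], [3, 7, 2, 1, 5, 3, 2, 1, 0, 1, 2, 3, 5, 1, 2, 7, 3], [3, 7, 2, 1, 5, 3, 2, 1, 0, 1, 2, 3, 5, 1, 2, 7, 3], [8], [9], [9], [9], [9], [10], [10], [11], [11], [12], [12], [12], [12], [12], [12], [12], [12], [12], [12], [12], [12], [12], [12]] = true := by decide +kernel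
theorem ce24_z : ∀ g < 14, X24.actw [8, 9, 0, 1, 2, 3, 5, 8, 9, 0, 1, 2, 3, 5, 8, 9, 0, 1, 2, 3, 5, 8, 9, 0, 1, 2, 3, 5, 8, 9, 0, 1, 2, 3, 5, 8, 9, 0, 1, 2, 3, 5, 8, 9, 0, 1, 2, 3, 5, 8, 9, 0, 1, 2, 3, 5, 8, 9, 0, 1, 2, 3, 5] (X24.pt g) = X24.actw [12] (X24.pt g) := by decide +kernel
theorem ce24_f0 : rng (chkFar X23 X24 [0, 1, 2, 3, 4, 5, 6, 9, 10, 11]) 0 80000 11 = true := by decide +kernel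
theorem ce24_f1 : rng (chkFar X23 X24 [0, 1, 2, 3, 4, 5, 6, 9, 10, 11]) 80000 160000 11 = true := by decide +kernel
theorem ce24_f2 : rng (chkFar X23 X24 [0, 1, 2, 3, 4, 5, 6, 9, 10, 11]) 160000 240000 11 = true := by decide +kernel
theorem ce24_f3 : rng (chkFar X23 X24 [0, 1, 2, 3, 4, 5, 6, 9, 10, 11]) 240000 306936 11 = true := by decide +kernel
theorem ce24_m : ∀ g ∈ [0, 1, 2, 3, 4, 5, 6, 9, 10, 11], g < X23.ng ∧ X24.act g (X23.n + 1) = X23.n + 1 := by decide +kernel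
end CA.TC
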