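import Cfsg.Agent.Fi.C24d_00
import Cfsg.Agent.Fi.C24d_01
import Cfsg.Agent.Fi.C24d_10
import Cfsg.Agent.Fi.C24d_11
import Cfsg.Agent.Fi.Real
import Cfsg.Agent.Fi.X24
set_option autoImplicit false
set_option maxRecDepth 100000
namespace CA.TC
noncomputable def u24 : BT Nat := (.node (.node u24_00 u24_01) (.node u24_10 u24_11))
noncomputable def v24 (p : Nat) : Nat :=
  Nat.land (Nat.shiftRight (frc (Nat.shiftRight p (nat_lit 5)) (BT.sel u24)) (Nat.mul (nat_lit 238) (Nat.land p (nat_lit 31)))) (nat_lit 0x3fffffffffffffffffffffffffffffffffffffffffffffffffffffffffff)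
noncomputable def rk24 (g p : Nat) : Nat := Nat.land (Nat.shiftRight (v24 p) (Nat.mul (nat_lit 17) g)) (nat_lit 127)
noncomputable def ru24 (g p : Nat) : Nat := Nat.land (Nat.shiftRight (v24 p) (Nat.add (Nat.mul (nat_lit 17) g) (nat_lit 7))) (nat_lit 1023)
noncomputable def rules24 : BT Rule := (.node (.node (.node (.node (.node (.node (.node (.node (.node (.node (.leaf (.cyc (nat_lit 1) [(nat_lit 9), (nat_lit 1), (nat_lit 9)] (nat_lit 20) (nat_lit 3))) (.leaf (.cyc (nat_lit 10) [(nat_lit 4), (nat_lit 10), (nat_lit 4)] (nat_lit 51) (nat_lit 0)))) (.node (.leaf (.cyc (nat_lit 12) [(nat_lit 4), (nat_lit 12), (nat_lit 4)] (nat_lit 53) (nat_lit 2))) (.leaf (.cyc (nat_lit 1) [(nat_lit 9), (nat_lit 1), (nat_lit 9)] (nat_lit 20) (nat_lit 3))))) (.node (.node (.leaf (.cyc (nat_lit 13) [(nat_lit 12), (nat_lit 13), (nat_lit 12), (nat_lit 13), (nat_lit 12)] (nat_lit 90) (nat_lit 3))) (.leaf (.cyc (nat_lit 1) [(nat_lit 9), (nat_lit 1), (nat_lit 9)] (nat_lit 20) (nat_lit 3)))) (.node (.leaf (.pin (nat_lit 2) (nat_lit 0) [] [] (nat_lit 0) (nat_lit 127))) (.leaf (.cyc (nat_lit 1) [(nat_lit 9), (nat_lit 1), (nat_lit 9)] (nat_lit 20) (nat_lit 3)))))) (.node (.node (.node (.leaf (.cyc (nat_lit 6) [(nat_lit 9), (nat_lit 6), (nat_lit 9)] (nat_lit 65) (nat_lit 1))) (.leaf (.cyc (nat_lit 11) [(nat_lit 10), (nat_lit 11), (nat_lit 10), (nat_lit 11), (nat_lit 10)] (nat_lit 85) (nat_lit 1)))) (.node (.leaf (.pin (nat_lit 12) (nat_lit 8) [] [] (nat_lit 8) (nat_lit 61))) (.leaf (.cyc (nat_lit 1) [(nat_lit 9), (nat_lit 1), (nat_lit 9)] (nat_lit 20) (nat_lit 3))))) (.node (.node (.leaf (.cyc (nat_lit 11) [(nat_lit 5), (nat_lit 11), (nat_lit 5)] (nat_lit 60) (nat_lit 2))) (.leaf (.cyc (nat_lit 1) [(nat_lit 9), (nat_lit 1), (nat_lit 9)] (nat_lit 20) (nat_lit 3)))) (.node (.leaf (.cyc (nat_lit 7) [(nat_lit 0), (nat_lit 7), (nat_lit 0)] (nat_lit 6) (nat_lit 0))) (.leaf (.cyc (nat_lit 1) [(nat_lit 9), (nat_lit 1), (nat_lit 9)] (nat_lit 20) (nat_lit 3))))))) (.node (.node (.node (.node (.leaf (.cyc (nat_lit 4) [(nat_lit 12), (nat_lit 4), (nat_lit 12)] (nat_lit 53) (nat_lit 1))) (.leaf (.cyc (nat_lit 10) [(nat_lit 9), (nat_lit 10), (nat_lit 9)] (nat_lit 81) (nat_lit 0)))) (.node (.leaf (.pin (nat_lit 7) (nat_lit 5) [] [] (nat_lit 5) (nat_lit 29))) (.leaf (.cyc (nat_lit 1) [(nat_lit 9), (nat_lit 1), (nat_lit 9)] (nat_lit 20) (nat_lit 3))))) (.node (.node (.leaf (.cyc (nat_lit 9) [(nat_lit 0), (nat_lit 9), (nat_lit 0), (nat_lit 9), (nat_lit 0)] (nat_lit 8) (nat_lit 3))) (.leaf (.cyc (nat_lit 1) [(nat_lit 9), (nat_lit 1), (nat_lit 9)] (nat_lit 20) (nat_lit 3)))) (.node (.leaf (.pin (nat_lit 7) (nat_lit 696) [] [] (nat_lit 696) (nat_lit 159))) (.leaf (.cyc (nat_lit 1) [(nat_lit 9), (nat_lit 1), (nat_lit 9)] (nat_lit 20) (nat_lit 3)))))) (.node (.node (.node (.leaf (.cyc (nat_lit 8) [(nat_lit 11), (nat_lit 8), (nat_lit 11)] (nat_lit 78) (nat_lit 3))) (.leaf (.cyc (nat_lit 1) [(nat_lit 9), (nat_lit 1), (nat_lit 9)] (nat_lit 20) (nat_lit 3)))) (.node (.leaf (.pin (nat_lit 8) (nat_lit 3) [(nat_lit 1), (nat_lit 2), (nat_lit 5), (nat_lit 1), (nat_lit 6), (nat_lit 5), (nat_lit 9), (nat_lit 0)] [(nat_lit 9), (nat_lit 7), (nat_lit 6), (nat_lit 1), (nat_lit 5), (nat_lit 2), (nat_lit 1)] (nat_lit 3) (nat_lit 94))) (.leaf (.cyc (nat_lit 1) [(nat_lit 9), (nat_lit 1), (nat_lit 9)] (nat_lit 20) (nat_lit 3))))) (.node (.node (.leaf (.cyc (nat_lit 13) [(nat_lit 10), (nat_lit 13), (nat_lit 10)] (nat_lit 87) (nat_lit 2))) (.leaf (.cyc (nat_lit 1) [(nat_lit 9), (nat_lit 1), (nat_lit 9)] (nat_lit 20) (nat_lit 3)))) (.node (.leaf (.cyc (nat_lit 6) [(nat_lit 3), (nat_lit 6), (nat_lit 3)] (nat_lit 38) (nat_lit 0))) (.leaf (.cyc (nat_lit 1) [(nat_lit 9), (nat_lit 1), (nat_lit 9)] (nat_lit 20) (nat_lit 3)))))))) (.node (.node (.node (.node (.node (.leaf (.cyc (nat_lit 6) [(nat_lit 9), (nat_lit 6), (nat_lit 9)] (nat_lit 65) (nat_lit 3))) (.leaf (.cyc (nat_lit 5) [(nat_lit 0), (nat_lit 5), (nat_lit 0)] (nat_lit 4) (nat_lit 0)))) (.node (.leaf (.pin (nat_lit 1) (nat_lit 4) [(nat_lit 2)] [] (nat_lit 5) (nat_lit 13))) (.leaf (.cyc (nat_lit 1) [(nat_lit 9), (nat_lit 1), (nat_lit 9)] (nat_lit 20) (nat_lit 3))))) (.node (.node (.leaf (.cyc (nat_lit 0) [(nat_lit 11), (nat_lit 0), (nat_lit 11)] (nat_lit 10) (nat_lit 3))) (.leaf (.cyc (nat_lit 1) [(nat_lit 9), (nat_lit 1), (nat_lit 9)] (nat_lit 20) (nat_lit 3)))) (.node (.leaf (.pin (nat_lit 4) (nat_lit 0) [] [] (nat_lit 0) (nat_lit 143))) (.leaf (.cyc (nat_lit 1) [(nat_lit 9), (nat_lit 1), (nat_lit 9)] (nat_lit 20) (nat_lit 3)))))) (.node (.node (.node (.leaf (.cyc (nat_lit 5) [(nat_lit 10), (nat_lit 5), (nat_lit 10)] (nat_lit 59) (nat_lit 1))) (.leaf (.cyc (nat_lit 1) [(nat_lit 9), (nat_lit 1), (nat_lit 9)] (nat_lit 20) (nat_lit 3)))) (.node (.leaf (.pin (nat_lit 10) (nat_lit 2) [] [] (nat_lit 2) (nat_lit 77))) (.leaf (.cyc (nat_lit 1) [(nat_lit 9), (nat_lit 1), (nat_lit 9)] (nat_lit 20) (nat_lit 3))))) (.node (.node (.leaf (.cyc (nat_lit 9) [(nat_lit 1), (nat_lit 9), (nat_lit 1)] (nat_lit 20) (nat_lit 2))) (.leaf (.cyc (nat_lit 1) [(nat_lit 9), (nat_lit 1), (nat_lit 9)] (nat_lit 20) (nat_lit 3)))) (.node (.leaf (.cyc (nat_lit 12) [(nat_lit 1), (nat_lit 12), (nat_lit 1)] (nat_lit 23) (nat_lit 0))) (.leaf (.cyc (nat_lit 1) [(nat_lit 9), (nat_lit 1), (nat_lit 9)] (nat_lit 20) (nat_lit 3))))))) (.node (.node (.node (.node (.leaf (.cyc (nat_lit 4) [(nat_lit 7), (nat_lit 4), (nat_lit 7)] (nat_lit 48) (nat_lit 1))) (.leaf (.cyc (nat_lit 3) [(nat_lit 2), (nat_lit 3), (nat_lit 2), (nat_lit 3), (nat_lit 2)] (nat_lit 25) (nat_lit 1)))) (.node (.leaf (.pin (nat_lit 13) (nat_lit 6) [] [] (nat_lit 6) (nat_lit 45))) (.leaf (.cyc (nat_lit 1) [(nat_lit 9), (nat_lit 1), (nat_lit 9)] (nat_lit 20) (nat_lit 3))))) (.node (.node (.leaf (.cyc (nat_lit 0) [(nat_lit 6), (nat_lit 0), (nat_lit 6)] (nat_lit 5) (nat_lit 1))) (.leaf (.cyc (nat_lit 1) [(nat_lit 9), (nat_lit 1), (nat_lit 9)] (nat_lit 20) (nat_lit 3)))) (.node (.leaf (.pin (nat_lit 1) (nat_lit 4) [] [] (nat_lit 4) (nat_lit 175))) (.leaf (.cyc (nat_lit 1) [(nat_lit 9), (nat_lit 1), (nat_lit 9)] (nat_lit 20) (nat_lit 3)))))) (.node (.node (.node (.leaf (.cyc (nat_lit 13) [(nat_lit 7), (nat_lit 13), (nat_lit 7), (nat_lit 13), (nat_lit 7)] (nat_lit 75) (nat_lit 3))) (.leaf (.cyc (nat_lit 1) [(nat_lit 9), (nat_lit 1), (nat_lit 9)] (nat_lit 20) (nat_lit 3)))) (.node (.leaf (.pin (nat_lit 1) (nat_lit 9) [] [] (nat_lit 9) (nat_lit 111))) (.leaf (.cyc (nat_lit 1) [(nat_lit 9), (nat_lit 1), (nat_lit 9)] (nat_lit 20) (nat_lit 3))))) (.node (.node (.leaf (.cyc (nat_lit 2) [(nat_lit 1), (nat_lit 2), (nat_lit 1), (nat_lit 2), (nat_lit 1)] (nat_lit 13) (nat_lit 1))) (.leaf (.cyc (nat_lit 1) [(nat_lit 9), (nat_lit 1), (nat_lit 9)] (nat_lit 20) (nat_lit 3)))) (.node (.leaf (.cyc (nat_lit 13) [(nat_lit 5), (nat_lit 13), (nat_lit 5)] (nat_lit 62) (nat_lit 0))) (.leaf (.cyc (nat_lit 1) [(nat_lit 9), (nat_lit 1), (nat_lit 9)] (nat_lit 20) (nat_lit 3))))))))) (.node (.node (.node (.node (.node (.node (.leaf (.cyc (nat_lit 2) [(nat_lit 6), (nat_lit 2), (nat_lit 6)] (nat_lit 28) (nat_lit 1))) (.leaf (.cyc (nat_lit 1) [(nat_lit 5), (nat_lit 1), (nat_lit 5), (nat_lit 1), (nat_lit 5)] (nat_lit 16) (nat_lit 0)))) (.node (.leaf (.pin (nat_lit 6) (nat_lit 3) [] [] (nat_lit 3) (nat_lit 5))) (.leaf (.cyc (nat_lit 1) [(nat_lit 9), (nat_lit 1), (nat_lit 9)] (nat_lit 20) (nat_lit 3))))) (.node (.node (.leaf (.cyc (nat_lit 6) [(nat_lit 1), (nat_lit 6), (nat_lit 1)] (nat_lit 17) (nat_lit 2))) (.leaf (.cyc (nat_lit 1) [(nat_lit 9), (nat_lit 1), (nat_lit 9)] (nat_lit 20) (nat_lit 3)))) (.node (.leaf (.pin (nat_lit 3) (nat_lit 0) [] [] (nat_lit 0) (nat_lit 135))) (.leaf (.cyc (nat_lit 1) [(nat_lit 9), (nat_lit 1), (nat_lit 9)] (nat_lit 20) (nat_lit 3)))))) (.node (.node (.node (.leaf (.cyc (nat_lit 3) [(nat_lit 13), (nat_lit 3), (nat_lit 13)] (nat_lit 45) (nat_lit 1))) (.leaf (.cyc (nat_lit 1) [(nat_lit 9), (nat_lit 1), (nat_lit 9)] (nat_lit 20) (nat_lit 3)))) (.node (.leaf (.pin (nat_lit 13) (nat_lit 9) [] [] (nat_lit 9) (nat_lit 69))) (.leaf (.cyc (nat_lit 1) [(nat_lit 9), (nat_lit 1), (nat_lit 9)] (nat_lit 20) (nat_lit 3))))) (.node (.node (.leaf (.cyc (nat_lit 11) [(nat_lit 0), (nat_lit 11), (nat_lit 0)] (nat_lit 10) (nat_lit 2))) (.leaf (.cyc (nat_lit 1) [(nat_lit 9), (nat_lit 1), (nat_lit 9)] (nat_lit 20) (nat_lit 3)))) (.node (.leaf (.cyc (nat_lit 1) [(nat_lit 5), (nat_lit 1), (nat_lit 5), (nat_lit 1), (nat_lit 5)] (nat_lit 16) (nat_lit 4))) (.leaf (.cyc (nat_lit 1) [(nat_lit 9), (nat_lit 1), (nat_lit 9)] (nat_lit 20) (nat_lit 3))))))) (.node (.node (.node (.node (.leaf (.cyc (nat_lit 3) [(nat_lit 8), (nat_lit 3), (nat_lit 8)] (nat_lit 40) (nat_lit 1))) (.leaf (.cyc (nat_lit 5) [(nat_lit 1), (nat_lit 5), (nat_lit 1), (nat_lit 5), (nat_lit 1)] (nat_lit 16) (nat_lit 1)))) (.node (.leaf (.pin (nat_lit 5) (nat_lit 6) [] [] (nat_lit 6) (nat_lit 37))) (.leaf (.cyc (nat_lit 1) [(nat_lit 9), (nat_lit 1), (nat_lit 9)] (nat_lit 20) (nat_lit 3))))) (.node (.node (.leaf (.cyc (nat_lit 13) [(nat_lit 3), (nat_lit 13), (nat_lit 3)] (nat_lit 45) (nat_lit 2))) (.leaf (.cyc (nat_lit 1) [(nat_lit 9), (nat_lit 1), (nat_lit 9)] (nat_lit 20) (nat_lit 3)))) (.node (.leaf (.pin (nat_lit 9) (nat_lit 3512) [] [] (nat_lit 3512) (nat_lit 167))) (.leaf (.cyc (nat_lit 1) [(nat_lit 9), (nat_lit 1), (nat_lit 9)] (nat_lit 20) (nat_lit 3)))))) (.node (.node (.node (.leaf (.cyc (nat_lit 1) [(nat_lit 4), (nat_lit 1), (nat_lit 4)] (nat_lit 15) (nat_lit 1))) (.leaf (.cyc (nat_lit 1) [(nat_lit 9), (nat_lit 1), (nat_lit 9)] (nat_lit 20) (nat_lit 3)))) (.node (.leaf (.pin (nat_lit 0) (nat_lit 10) [] [] (nat_lit 10) (nat_lit 103))) (.leaf (.cyc (nat_lit 1) [(nat_lit 9), (nat_lit 1), (nat_lit 9)] (nat_lit 20) (nat_lit 3))))) (.node (.node (.leaf (.cyc (nat_lit 8) [(nat_lit 6), (nat_lit 8), (nat_lit 6)] (nat_lit 64) (nat_lit 2))) (.leaf (.cyc (nat_lit 1) [(nat_lit 9), (nat_lit 1), (nat_lit 9)] (nat_lit 20) (nat_lit 3)))) (.node (.leaf (.cyc (nat_lit 7) [(nat_lit 13), (nat_lit 7), (nat_lit 13), (nat_lit 7), (nat_lit 13)] (nat_lit 75) (nat_lit 4))) (.leaf (.cyc (nat_lit 1) [(nat_lit 9), (nat_lit 1), (nat_lit 9)] (nat_lit 20) (nat_lit 3)))))))) (.node (.node (.node (.node (.node (.leaf (.cyc (nat_lit 2) [(nat_lit 7), (nat_lit 2), (nat_lit 7)] (nat_lit 29) (nat_lit 1))) (.leaf (.cyc (nat_lit 9) [(nat_lit 7), (nat_lit 9), (nat_lit 7)] (nat_lit 71) (nat_lit 0)))) (.node (.leaf (.pin (nat_lit 10) (nat_lit 4) [] [] (nat_lit 4) (nat_lit 21))) (.leaf (.cyc (nat_lit 1) [(nat_lit 9), (nat_lit 1), (nat_lit 9)] (nat_lit 20) (nat_lit 3))))) (.node (.node (.leaf (.cyc (nat_lit 10) [(nat_lit 13), (nat_lit 10), (nat_lit 13)] (nat_lit 87) (nat_lit 1))) (.leaf (.cyc (nat_lit 1) [(nat_lit 9), (nat_lit 1), (nat_lit 9)] (nat_lit 20) (nat_lit 3)))) (.node (.leaf (.pin (nat_lit 5) (nat_lit 31672) [] [] (nat_lit 31672) (nat_lit 151))) (.leaf (.cyc (nat_lit 1) [(nat_lit 9), (nat_lit 1), (nat_lit 9)] (nat_lit 20) (nat_lit 3)))))) (.node (.node (.node (.leaf (.cyc (nat_lit 1) [(nat_lit 13), (nat_lit 1), (nat_lit 13)] (nat_lit 24) (nat_lit 3))) (.leaf (.cyc (nat_lit 1) [(nat_lit 9), (nat_lit 1), (nat_lit 9)] (nat_lit 20) (nat_lit 3)))) (.node (.leaf (.pin (nat_lit 10) (nat_lit 1) [(nat_lit 11)] [] (nat_lit 3512) (nat_lit 85))) (.leaf (.cyc (nat_lit 1) [(nat_lit 9), (nat_lit 1), (nat_lit 9)] (nat_lit 20) (nat_lit 3))))) (.node (.node (.leaf (.cyc (nat_lit 0) [(nat_lit 6), (nat_lit 0), (nat_lit 6)] (nat_lit 5) (nat_lit 3))) (.leaf (.cyc (nat_lit 1) [(nat_lit 9), (nat_lit 1), (nat_lit 9)] (nat_lit 20) (nat_lit 3)))) (.node (.leaf (.cyc (nat_lit 10) [(nat_lit 2), (nat_lit 10), (nat_lit 2)] (nat_lit 32) (nat_lit 0))) (.leaf (.cyc (nat_lit 1) [(nat_lit 9), (nat_lit 1), (nat_lit 9)] (nat_lit 20) (nat_lit 3))))))) (.node (.node (.node (.node (.leaf (.cyc (nat_lit 10) [(nat_lit 13), (nat_lit 10), (nat_lit 13)] (nat_lit 87) (nat_lit 3))) (.leaf (.cyc (nat_lit 2) [(nat_lit 3), (nat_lit 2), (nat_lit 3), (nat_lit 2), (nat_lit 3)] (nat_lit 25) (nat_lit 0)))) (.node (.leaf (.pin (nat_lit 12) (nat_lit 7) [] [] (nat_lit 7) (nat_lit 53))) (.leaf (.cyc (nat_lit 1) [(nat_lit 9), (nat_lit 1), (nat_lit 9)] (nat_lit 20) (nat_lit 3))))) (.node (.node (.leaf (.cyc (nat_lit 1) [(nat_lit 2), (nat_lit 1), (nat_lit 2), (nat_lit 1), (nat_lit 2)] (nat_lit 13) (nat_lit 2))) (.leaf (.cyc (nat_lit 1) [(nat_lit 9), (nat_lit 1), (nat_lit 9)] (nat_lit 20) (nat_lit 3)))) (.node (.leaf (.pin (nat_lit 9) (nat_lit 696) [] [] (nat_lit 696) (nat_lit 183))) (.leaf (.cyc (nat_lit 1) [(nat_lit 9), (nat_lit 1), (nat_lit 9)] (nat_lit 20) (nat_lit 3)))))) (.node (.node (.node (.leaf (.cyc (nat_lit 4) [(nat_lit 0), (nat_lit 4), (nat_lit 0)] (nat_lit 3) (nat_lit 2))) (.leaf (.cyc (nat_lit 1) [(nat_lit 9), (nat_lit 1), (nat_lit 9)] (nat_lit 20) (nat_lit 3)))) (.node (.leaf (.pin (nat_lit 2) (nat_lit 7) [] [] (nat_lit 7) (nat_lit 119))) (.leaf (.cyc (nat_lit 1) [(nat_lit 9), (nat_lit 1), (nat_lit 9)] (nat_lit 20) (nat_lit 3))))) (.node (.node (.leaf (.cyc (nat_lit 12) [(nat_lit 5), (nat_lit 12), (nat_lit 5)] (nat_lit 61) (nat_lit 2))) (.leaf (.cyc (nat_lit 1) [(nat_lit 9), (nat_lit 1), (nat_lit 9)] (nat_lit 20) (nat_lit 3)))) (.node (.leaf (.cyc (nat_lit 11) [(nat_lit 8), (nat_lit 11), (nat_lit 8)] (nat_lit 78) (nat_lit 0))) (.leaf (.cyc (nat_lit 1) [(nat_lit 9), (nat_lit 1), (nat_lit 9)] (nat_lit 20) (nat_lit 3)))))))))) (.node (.node (.node (.node (.node (.node (.node (.leaf (.cyc (nat_lit 2) [(nat_lit 9), (nat_lit 2), (nat_lit 9)] (nat_lit 31) (nat_lit 3))) (.leaf (.cyc (nat_lit 8) [(nat_lit 9), (nat_lit 8), (nat_lit 9), (nat_lit 8), (nat_lit 9)] (nat_lit 76) (nat_lit 4)))) (.node (.leaf (.pin (nat_lit 2) (nat_lit 3) [] [] (nat_lit 3) (nat_lit 1))) (.leaf (.cyc (nat_lit 1) [(nat_lit 9), (nat_lit 1), (nat_lit 9)] (nat_lit 20) (nat_lit 3))))) (.node (.node (.leaf (.cyc (nat_lit 8) [(nat_lit 10), (nat_lit 8), (nat_lit 10)] (nat_lit 77) (nat_lit 1))) (.leaf (.cyc (nat_lit 1) [(nat_lit 9), (nat_lit 1), (nat_lit 9)] (nat_lit 20) (nat_lit 3)))) (.node (.leaf (.pin (nat_lit 3) (nat_lit 2) [] [] (nat_lit 2) (nat_lit 131))) (.leaf (.cyc (nat_lit 1) [(nat_lit 9), (nat_lit 1), (nat_lit 9)] (nat_lit 20) (nat_lit 3)))))) (.node (.node (.node (.leaf (.cyc (nat_lit 1) [(nat_lit 7), (nat_lit 1), (nat_lit 7)] (nat_lit 18) (nat_lit 3))) (.leaf (.cyc (nat_lit 9) [(nat_lit 8), (nat_lit 9), (nat_lit 8), (nat_lit 9), (nat_lit 8)] (nat_lit 76) (nat_lit 5)))) (.node (.leaf (.pin (nat_lit 9) (nat_lit 9) [] [] (nat_lit 9) (nat_lit 65))) (.leaf (.cyc (nat_lit 1) [(nat_lit 9), (nat_lit 1), (nat_lit 9)] (nat_lit 20) (nat_lit 3))))) (.node (.node (.leaf (.cyc (nat_lit 6) [(nat_lit 7), (nat_lit 6), (nat_lit 7), (nat_lit 6), (nat_lit 7)] (nat_lit 63) (nat_lit 2))) (.leaf (.cyc (nat_lit 1) [(nat_lit 9), (nat_lit 1), (nat_lit 9)] (nat_lit 20) (nat_lit 3)))) (.node (.leaf (.cyc (nat_lit 11) [(nat_lit 0), (nat_lit 11), (nat_lit 0)] (nat_lit 10) (nat_lit 0))) (.leaf (.cyc (nat_lit 1) [(nat_lit 9), (nat_lit 1), (nat_lit 9)] (nat_lit 20) (nat_lit 3))))))) (.node (.node (.node (.node (.leaf (.cyc (nat_lit 7) [(nat_lit 9), (nat_lit 7), (nat_lit 9)] (nat_lit 71) (nat_lit 3))) (.leaf (.cyc (nat_lit 0) [(nat_lit 1), (nat_lit 0), (nat_lit 1), (nat_lit 0), (nat_lit 1)] (nat_lit 0) (nat_lit 0)))) (.node (.leaf (.pin (nat_lit 11) (nat_lit 5) [] [] (nat_lit 5) (nat_lit 33))) (.leaf (.cyc (nat_lit 1) [(nat_lit 9), (nat_lit 1), (nat_lit 9)] (nat_lit 20) (nat_lit 3))))) (.node (.node (.leaf (.cyc (nat_lit 9) [(nat_lit 6), (nat_lit 9), (nat_lit 6)] (nat_lit 65) (nat_lit 2))) (.leaf (.cyc (nat_lit 1) [(nat_lit 9), (nat_lit 1), (nat_lit 9)] (nat_lit 20) (nat_lit 3)))) (.node (.leaf (.pin (nat_lit 8) (nat_lit 1) [] [] (nat_lit 1) (nat_lit 163))) (.leaf (.cyc (nat_lit 1) [(nat_lit 9), (nat_lit 1), (nat_lit 9)] (nat_lit 20) (nat_lit 3)))))) (.node (.node (.node (.leaf (.cyc (nat_lit 2) [(nat_lit 6), (nat_lit 2), (nat_lit 6)] (nat_lit 28) (nat_lit 3))) (.leaf (.cyc (nat_lit 1) [(nat_lit 9), (nat_lit 1), (nat_lit 9)] (nat_lit 20) (nat_lit 3)))) (.node (.leaf (.pin (nat_lit 0) (nat_lit 6) [] [] (nat_lit 6) (nat_lit 99))) (.leaf (.cyc (nat_lit 1) [(nat_lit 9), (nat_lit 1), (nat_lit 9)] (nat_lit 20) (nat_lit 3))))) (.node (.node (.leaf (.cyc (nat_lit 1) [(nat_lit 0), (nat_lit 1), (nat_lit 0), (nat_lit 1), (nat_lit 0)] (nat_lit 0) (nat_lit 3))) (.leaf (.cyc (nat_lit 1) [(nat_lit 9), (nat_lit 1), (nat_lit 9)] (nat_lit 20) (nat_lit 3)))) (.node (.leaf (.cyc (nat_lit 12) [(nat_lit 3), (nat_lit 12), (nat_lit 3)] (nat_lit 44) (nat_lit 0))) (.leaf (.cyc (nat_lit 1) [(nat_lit 9), (nat_lit 1), (nat_lit 9)] (nat_lit 20) (nat_lit 3)))))))) (.node (.node (.node (.node (.node (.leaf (.cyc (nat_lit 1) [(nat_lit 13), (nat_lit 1), (nat_lit 13)] (nat_lit 24) (nat_lit 1))) (.leaf (.cyc (nat_lit 2) [(nat_lit 0), (nat_lit 2), (nat_lit 0)] (nat_lit 1) (nat_lit 0)))) (.node (.leaf (.pin (nat_lit 6) (nat_lit 4) [] [] (nat_lit 4) (nat_lit 17))) (.leaf (.cyc (nat_lit 1) [(nat_lit 9), (nat_lit 1), (nat_lit 9)] (nat_lit 20) (nat_lit 3))))) (.node (.node (.leaf (.cyc (nat_lit 4) [(nat_lit 8), (nat_lit 4), (nat_lit 8)] (nat_lit 49) (nat_lit 3))) (.leaf (.cyc (nat_lit 1) [(nat_lit 9), (nat_lit 1), (nat_lit 9)] (nat_lit 20) (nat_lit 3)))) (.node (.leaf (.pin (nat_lit 5) (nat_lit 696) [] [] (nat_lit 696) (nat_lit 147))) (.leaf (.cyc (nat_lit 1) [(nat_lit 9), (nat_lit 1), (nat_lit 9)] (nat_lit 20) (nat_lit 3)))))) (.node (.node (.node (.leaf (.cyc (nat_lit 3) [(nat_lit 12), (nat_lit 3), (nat_lit 12)] (nat_lit 44) (nat_lit 1))) (.leaf (.cyc (nat_lit 1) [(nat_lit 9), (nat_lit 1), (nat_lit 9)] (nat_lit 20) (nat_lit 3)))) (.node (.leaf (.pin (nat_lit 10) (nat_lit 696) [] [] (nat_lit 696) (nat_lit 81))) (.leaf (.cyc (nat_lit 1) [(nat_lit 9), (nat_lit 1), (nat_lit 9)] (nat_lit 20) (nat_lit 3))))) (.node (.node (.leaf (.cyc (nat_lit 13) [(nat_lit 5), (nat_lit 13), (nat_lit 5)] (nat_lit 62) (nat_lit 2))) (.leaf (.cyc (nat_lit 1) [(nat_lit 9), (nat_lit 1), (nat_lit 9)] (nat_lit 20) (nat_lit 3)))) (.node (.leaf (.cyc (nat_lit 5) [(nat_lit 2), (nat_lit 5), (nat_lit 2)] (nat_lit 27) (nat_lit 0))) (.leaf (.cyc (nat_lit 1) [(nat_lit 9), (nat_lit 1), (nat_lit 9)] (nat_lit 20) (nat_lit 3))))))) (.node (.node (.node (.node (.leaf (.cyc (nat_lit 3) [(nat_lit 13), (nat_lit 3), (nat_lit 13)] (nat_lit 45) (nat_lit 3))) (.leaf (.pin (nat_lit 7) (nat_lit 3) [(nat_lit 1), (nat_lit 2), (nat_lit 5), (nat_lit 1), (nat_lit 6), (nat_lit 5), (nat_lit 7), (nat_lit 3), (nat_lit 6)] [(nat_lit 2), (nat_lit 1), (nat_lit 5), (nat_lit 3), (nat_lit 2), (nat_lit 1)] (nat_lit 3) (nat_lit 92)))) (.node (.leaf (.pin (nat_lit 8) (nat_lit 7) [] [] (nat_lit 7) (nat_lit 49))) (.leaf (.cyc (nat_lit 1) [(nat_lit 9), (nat_lit 1), (nat_lit 9)] (nat_lit 20) (nat_lit 3))))) (.node (.node (.leaf (.cyc (nat_lit 1) [(nat_lit 5), (nat_lit 1), (nat_lit 5), (nat_lit 1), (nat_lit 5)] (nat_lit 16) (nat_lit 2))) (.leaf (.cyc (nat_lit 1) [(nat_lit 9), (nat_lit 1), (nat_lit 9)] (nat_lit 20) (nat_lit 3)))) (.node (.leaf (.pin (nat_lit 5) (nat_lit 8) [] [] (nat_lit 8) (nat_lit 179))) (.leaf (.cyc (nat_lit 1) [(nat_lit 9), (nat_lit 1), (nat_lit 9)] (nat_lit 20) (nat_lit 3)))))) (.node (.node (.node (.leaf (.cyc (nat_lit 4) [(nat_lit 3), (nat_lit 4), (nat_lit 3), (nat_lit 4), (nat_lit 3)] (nat_lit 36) (nat_lit 3))) (.leaf (.cyc (nat_lit 1) [(nat_lit 9), (nat_lit 1), (nat_lit 9)] (nat_lit 20) (nat_lit 3)))) (.node (.leaf (.pin (nat_lit 1) (nat_lit 1) [] [] (nat_lit 1) (nat_lit 115))) (.leaf (.cyc (nat_lit 1) [(nat_lit 9), (nat_lit 1), (nat_lit 9)] (nat_lit 20) (nat_lit 3))))) (.node (.node (.leaf (.cyc (nat_lit 5) [(nat_lit 6), (nat_lit 5), (nat_lit 6), (nat_lit 5), (nat_lit 6)] (nat_lit 55) (nat_lit 2))) (.leaf (.cyc (nat_lit 1) [(nat_lit 9), (nat_lit 1), (nat_lit 9)] (nat_lit 20) (nat_lit 3)))) (.node (.leaf (.cyc (nat_lit 10) [(nat_lit 6), (nat_lit 10), (nat_lit 6)] (nat_lit 66) (nat_lit 0))) (.leaf (.cyc (nat_lit 1) [(nat_lit 9), (nat_lit 1), (nat_lit 9)] (nat_lit 20) (nat_lit 3))))))))) (.node (.node (.node (.node (.node (.node (.leaf (.cyc (nat_lit 4) [(nat_lit 13), (nat_lit 4), (nat_lit 13)] (nat_lit 54) (nat_lit 1))) (.leaf (.cyc (nat_lit 12) [(nat_lit 11), (nat_lit 12), (nat_lit 11)] (nat_lit 88) (nat_lit 2)))) (.node (.leaf (.pin (nat_lit 10) (nat_lit 3) [] [] (nat_lit 3) (nat_lit 9))) (.leaf (.cyc (nat_lit 1) [(nat_lit 9), (nat_lit 1), (nat_lit 9)] (nat_lit 20) (nat_lit 3))))) (.node (.node (.leaf (.cyc (nat_lit 5) [(nat_lit 4), (nat_lit 5), (nat_lit 4)] (nat_lit 46) (nat_lit 2))) (.leaf (.cyc (nat_lit 1) [(nat_lit 9), (nat_lit 1), (nat_lit 9)] (nat_lit 20) (nat_lit 3)))) (.node (.leaf (.pin (nat_lit 4) (nat_lit 10) [] [] (nat_lit 10) (nat_lit 139))) (.leaf (.cyc (nat_lit 1) [(nat_lit 9), (nat_lit 1), (nat_lit 9)] (nat_lit 20) (nat_lit 3)))))) (.node (.node (.node (.leaf (.cyc (nat_lit 1) [(nat_lit 6), (nat_lit 1), (nat_lit 6)] (nat_lit 17) (nat_lit 1))) (.leaf (.cyc (nat_lit 1) [(nat_lit 9), (nat_lit 1), (nat_lit 9)] (nat_lit 20) (nat_lit 3)))) (.node (.leaf (.pin (nat_lit 11) (nat_lit 10) [] [] (nat_lit 10) (nat_lit 73))) (.leaf (.cyc (nat_lit 1) [(nat_lit 9), (nat_lit 1), (nat_lit 9)] (nat_lit 20) (nat_lit 3))))) (.node (.node (.leaf (.cyc (nat_lit 6) [(nat_lit 3), (nat_lit 6), (nat_lit 3)] (nat_lit 38) (nat_lit 2))) (.leaf (.cyc (nat_lit 1) [(nat_lit 9), (nat_lit 1), (nat_lit 9)] (nat_lit 20) (nat_lit 3)))) (.node (.leaf (.cyc (nat_lit 8) [(nat_lit 1), (nat_lit 8), (nat_lit 1)] (nat_lit 19) (nat_lit 0))) (.leaf (.cyc (nat_lit 1) [(nat_lit 9), (nat_lit 1), (nat_lit 9)] (nat_lit 20) (nat_lit 3))))))) (.node (.node (.node (.node (.leaf (.cyc (nat_lit 7) [(nat_lit 12), (nat_lit 7), (nat_lit 12)] (nat_lit 74) (nat_lit 3))) (.leaf (.cyc (nat_lit 11) [(nat_lit 10), (nat_lit 11), (nat_lit 10), (nat_lit 11), (nat_lit 10)] (nat_lit 85) (nat_lit 5)))) (.node (.leaf (.pin (nat_lit 9) (nat_lit 6) [] [] (nat_lit 6) (nat_lit 41))) (.leaf (.cyc (nat_lit 1) [(nat_lit 9), (nat_lit 1), (nat_lit 9)] (nat_lit 20) (nat_lit 3))))) (.node (.node (.leaf (.cyc (nat_lit 0) [(nat_lit 13), (nat_lit 0), (nat_lit 13)] (nat_lit 12) (nat_lit 1))) (.leaf (.cyc (nat_lit 1) [(nat_lit 9), (nat_lit 1), (nat_lit 9)] (nat_lit 20) (nat_lit 3)))) (.node (.leaf (.pin (nat_lit 10) (nat_lit 31672) [] [] (nat_lit 31672) (nat_lit 171))) (.leaf (.cyc (nat_lit 1) [(nat_lit 9), (nat_lit 1), (nat_lit 9)] (nat_lit 20) (nat_lit 3)))))) (.node (.node (.node (.leaf (.cyc (nat_lit 5) [(nat_lit 2), (nat_lit 5), (nat_lit 2)] (nat_lit 27) (nat_lit 2))) (.leaf (.cyc (nat_lit 1) [(nat_lit 9), (nat_lit 1), (nat_lit 9)] (nat_lit 20) (nat_lit 3)))) (.node (.leaf (.pin (nat_lit 0) (nat_lit 0) [] [] (nat_lit 0) (nat_lit 107))) (.leaf (.cyc (nat_lit 1) [(nat_lit 9), (nat_lit 1), (nat_lit 9)] (nat_lit 20) (nat_lit 3))))) (.node (.node (.leaf (.cyc (nat_lit 7) [(nat_lit 10), (nat_lit 7), (nat_lit 10)] (nat_lit 72) (nat_lit 3))) (.leaf (.cyc (nat_lit 1) [(nat_lit 9), (nat_lit 1), (nat_lit 9)] (nat_lit 20) (nat_lit 3)))) (.node (.leaf (.cyc (nat_lit 9) [(nat_lit 5), (nat_lit 9), (nat_lit 5)] (nat_lit 58) (nat_lit 0))) (.leaf (.cyc (nat_lit 1) [(nat_lit 9), (nat_lit 1), (nat_lit 9)] (nat_lit 20) (nat_lit 3)))))))) (.node (.node (.node (.node (.node (.leaf (.cyc (nat_lit 4) [(nat_lit 5), (nat_lit 4), (nat_lit 5)] (nat_lit 46) (nat_lit 1))) (.leaf (.cyc (nat_lit 1) [(nat_lit 2), (nat_lit 1), (nat_lit 2), (nat_lit 1), (nat_lit 2)] (nat_lit 13) (nat_lit 0)))) (.node (.leaf (.pin (nat_lit 2) (nat_lit 5) [(nat_lit 3)] [] (nat_lit 6) (nat_lit 25))) (.leaf (.cyc (nat_lit 1) [(nat_lit 9), (nat_lit 1), (nat_lit 9)] (nat_lit 20) (nat_lit 3))))) (.node (.node (.leaf (.cyc (nat_lit 13) [(nat_lit 8), (nat_lit 13), (nat_lit 8), (nat_lit 13), (nat_lit 8)] (nat_lit 80) (nat_lit 3))) (.leaf (.cyc (nat_lit 1) [(nat_lit 9), (nat_lit 1), (nat_lit 9)] (nat_lit 20) (nat_lit 3)))) (.node (.leaf (.pin (nat_lit 6) (nat_lit 3512) [] [] (nat_lit 3512) (nat_lit 155))) (.leaf (.cyc (nat_lit 1) [(nat_lit 9), (nat_lit 1), (nat_lit 9)] (nat_lit 20) (nat_lit 3)))))) (.node (.node (.node (.leaf (.cyc (nat_lit 11) [(nat_lit 9), (nat_lit 11), (nat_lit 9)] (nat_lit 82) (nat_lit 2))) (.leaf (.cyc (nat_lit 1) [(nat_lit 9), (nat_lit 1), (nat_lit 9)] (nat_lit 20) (nat_lit 3)))) (.node (.leaf (.pin (nat_lit 13) (nat_lit 3512) [] [] (nat_lit 3512) (nat_lit 89))) (.leaf (.cyc (nat_lit 1) [(nat_lit 9), (nat_lit 1), (nat_lit 9)] (nat_lit 20) (nat_lit 3))))) (.node (.node (.leaf (.cyc (nat_lit 0) [(nat_lit 7), (nat_lit 0), (nat_lit 7)] (nat_lit 6) (nat_lit 3))) (.leaf (.cyc (nat_lit 1) [(nat_lit 9), (nat_lit 1), (nat_lit 9)] (nat_lit 20) (nat_lit 3)))) (.node (.leaf (.cyc (nat_lit 3) [(nat_lit 4), (nat_lit 3), (nat_lit 4), (nat_lit 3), (nat_lit 4)] (nat_lit 36) (nat_lit 4))) (.leaf (.cyc (nat_lit 1) [(nat_lit 9), (nat_lit 1), (nat_lit 9)] (nat_lit 20) (nat_lit 3))))))) (.node (.node (.node (.node (.leaf (.cyc (nat_lit 5) [(nat_lit 7), (nat_lit 5), (nat_lit 7)] (nat_lit 56) (nat_lit 1))) (.leaf (.cyc (nat_lit 6) [(nat_lit 7), (nat_lit 6), (nat_lit 7), (nat_lit 6), (nat_lit 7)] (nat_lit 63) (nat_lit 0)))) (.node (.leaf (.pin (nat_lit 8) (nat_lit 8) [] [] (nat_lit 8) (nat_lit 57))) (.leaf (.cyc (nat_lit 1) [(nat_lit 9), (nat_lit 1), (nat_lit 9)] (nat_lit 20) (nat_lit 3))))) (.node (.node (.leaf (.cyc (nat_lit 9) [(nat_lit 2), (nat_lit 9), (nat_lit 2)] (nat_lit 31) (nat_lit 2))) (.leaf (.cyc (nat_lit 1) [(nat_lit 9), (nat_lit 1), (nat_lit 9)] (nat_lit 20) (nat_lit 3)))) (.node (.leaf (.pin (nat_lit 13) (nat_lit 31672) [] [] (nat_lit 31672) (nat_lit 187))) (.leaf (.cyc (nat_lit 1) [(nat_lit 9), (nat_lit 1), (nat_lit 9)] (nat_lit 20) (nat_lit 3)))))) (.node (.node (.node (.leaf (.cyc (nat_lit 11) [(nat_lit 3), (nat_lit 11), (nat_lit 3)] (nat_lit 43) (nat_lit 2))) (.leaf (.cyc (nat_lit 1) [(nat_lit 9), (nat_lit 1), (nat_lit 9)] (nat_lit 20) (nat_lit 3)))) (.node (.leaf (.pin (nat_lit 2) (nat_lit 2) [] [] (nat_lit 2) (nat_lit 123))) (.leaf (.cyc (nat_lit 1) [(nat_lit 9), (nat_lit 1), (nat_lit 9)] (nat_lit 20) (nat_lit 3))))) (.node (.node (.leaf (.cyc (nat_lit 12) [(nat_lit 3), (nat_lit 12), (nat_lit 3)] (nat_lit 44) (nat_lit 2))) (.leaf (.cyc (nat_lit 1) [(nat_lit 9), (nat_lit 1), (nat_lit 9)] (nat_lit 20) (nat_lit 3)))) (.node (.leaf (.cyc (nat_lit 9) [(nat_lit 10), (nat_lit 9), (nat_lit 10)] (nat_lit 81) (nat_lit 3))) (.leaf (.cyc (nat_lit 1) [(nat_lit 9), (nat_lit 1), (nat_lit 9)] (nat_lit 20) (nat_lit 3))))))))))) (.node (.node (.node (.node (.node (.node (.node (.node (.leaf (.cyc (nat_lit 4) [(nat_lit 7), (nat_lit 4), (nat_lit 7)] (nat_lit 48) (nat_lit 3))) (.leaf (.cyc (nat_lit 0) [(nat_lit 1), (nat_lit 0), (nat_lit 1), (nat_lit 0), (nat_lit 1)] (nat_lit 0) (nat_lit 4)))) (.node (.leaf (.cyc (nat_lit 12) [(nat_lit 2), (nat_lit 12), (nat_lit 2)] (nat_lit 34) (nat_lit 2))) (.leaf (.cyc (nat_lit 1) [(nat_lit 9), (nat_lit 1), (nat_lit 9)] (nat_lit 20) (nat_lit 3))))) (.node (.node (.leaf (.cyc (nat_lit 6) [(nat_lit 11), (nat_lit 6), (nat_lit 11)] (nat_lit 67) (nat_lit 1))) (.leaf (.cyc (nat_lit 1) [(nat_lit 9), (nat_lit 1), (nat_lit 9)] (nat_lit 20) (nat_lit 3)))) (.node (.leaf (.pin (nat_lit 3) (nat_lit 8) [] [] (nat_lit 8) (nat_lit 129))) (.leaf (.cyc (nat_lit 1) [(nat_lit 9), (nat_lit 1), (nat_lit 9)] (nat_lit 20) (nat_lit 3)))))) (.node (.node (.node (.leaf (.cyc (nat_lit 9) [(nat_lit 11), (nat_lit 9), (nat_lit 11)] (nat_lit 82) (nat_lit 3))) (.leaf (.cyc (nat_lit 4) [(nat_lit 11), (nat_lit 4), (nat_lit 11), (nat_lit 4), (nat_lit 11)] (nat_lit 52) (nat_lit 0)))) (.node (.leaf (.pin (nat_lit 6) (nat_lit 9) [(nat_lit 7)] [] (nat_lit 10) (nat_lit 63))) (.leaf (.cyc (nat_lit 1) [(nat_lit 9), (nat_lit 1), (nat_lit 9)] (nat_lit 20) (nat_lit 3))))) (.node (.node (.leaf (.cyc (nat_lit 13) [(nat_lit 4), (nat_lit 13), (nat_lit 4)] (nat_lit 54) (nat_lit 2))) (.leaf (.cyc (nat_lit 1) [(nat_lit 9), (nat_lit 1), (nat_lit 9)] (nat_lit 20) (nat_lit 3)))) (.node (.leaf (.cyc (nat_lit 0) [(nat_lit 9), (nat_lit 0), (nat_lit 9), (nat_lit 0), (nat_lit 9)] (nat_lit 8) (nat_lit 4))) (.leaf (.cyc (nat_lit 1) [(nat_lit 9), (nat_lit 1), (nat_lit 9)] (nat_lit 20) (nat_lit 3))))))) (.node (.node (.node (.node (.leaf (.cyc (nat_lit 9) [(nat_lit 12), (nat_lit 9), (nat_lit 12)] (nat_lit 83) (nat_lit 3))) (.leaf (.cyc (nat_lit 13) [(nat_lit 6), (nat_lit 13), (nat_lit 6)] (nat_lit 69) (nat_lit 0)))) (.node (.leaf (.pin (nat_lit 9) (nat_lit 5) [] [] (nat_lit 5) (nat_lit 31))) (.leaf (.cyc (nat_lit 1) [(nat_lit 9), (nat_lit 1), (nat_lit 9)] (nat_lit 20) (nat_lit 3))))) (.node (.node (.leaf (.cyc (nat_lit 9) [(nat_lit 3), (nat_lit 9), (nat_lit 3)] (nat_lit 41) (nat_lit 2))) (.leaf (.cyc (nat_lit 1) [(nat_lit 9), (nat_lit 1), (nat_lit 9)] (nat_lit 20) (nat_lit 3)))) (.node (.leaf (.pin (nat_lit 7) (nat_lit 3512) [] [] (nat_lit 3512) (nat_lit 161))) (.leaf (.cyc (nat_lit 1) [(nat_lit 9), (nat_lit 1), (nat_lit 9)] (nat_lit 20) (nat_lit 3)))))) (.node (.node (.node (.leaf (.cyc (nat_lit 9) [(nat_lit 10), (nat_lit 9), (nat_lit 10)] (nat_lit 81) (nat_lit 1))) (.leaf (.cyc (nat_lit 1) [(nat_lit 9), (nat_lit 1), (nat_lit 9)] (nat_lit 20) (nat_lit 3)))) (.node (.leaf (.pin (nat_lit 13) (nat_lit 3) [(nat_lit 1), (nat_lit 2), (nat_lit 5), (nat_lit 1), (nat_lit 6), (nat_lit 7)] [(nat_lit 8), (nat_lit 12), (nat_lit 13), (nat_lit 7), (nat_lit 6)] (nat_lit 8) (nat_lit 96))) (.leaf (.cyc (nat_lit 1) [(nat_lit 9), (nat_lit 1), (nat_lit 9)] (nat_lit 20) (nat_lit 3))))) (.node (.node (.leaf (.cyc (nat_lit 8) [(nat_lit 7), (nat_lit 8), (nat_lit 7)] (nat_lit 70) (nat_lit 2))) (.leaf (.cyc (nat_lit 1) [(nat_lit 9), (nat_lit 1), (nat_lit 9)] (nat_lit 20) (nat_lit 3)))) (.node (.leaf (.cyc (nat_lit 9) [(nat_lit 3), (nat_lit 9), (nat_lit 3)] (nat_lit 41) (nat_lit 0))) (.leaf (.cyc (nat_lit 1) [(nat_lit 9), (nat_lit 1), (nat_lit 9)] (nat_lit 20) (nat_lit 3)))))))) (.node (.node (.node (.node (.node (.leaf (.cyc (nat_lit 2) [(nat_lit 8), (nat_lit 2), (nat_lit 8)] (nat_lit 30) (nat_lit 1))) (.leaf (.cyc (nat_lit 12) [(nat_lit 10), (nat_lit 12), (nat_lit 10)] (nat_lit 86) (nat_lit 2)))) (.node (.leaf (.pin (nat_lit 4) (nat_lit 4) [] [] (nat_lit 4) (nat_lit 15))) (.leaf (.cyc (nat_lit 1) [(nat_lit 9), (nat_lit 1), (nat_lit 9)] (nat_lit 20) (nat_lit 3))))) (.node (.node (.leaf (.cyc (nat_lit 0) [(nat_lit 8), (nat_lit 0), (nat_lit 8)] (nat_lit 7) (nat_lit 1))) (.leaf (.cyc (nat_lit 1) [(nat_lit 9), (nat_lit 1), (nat_lit 9)] (nat_lit 20) (nat_lit 3)))) (.node (.leaf (.pin (nat_lit 5) (nat_lit 10) [] [] (nat_lit 10) (nat_lit 145))) (.leaf (.cyc (nat_lit 1) [(nat_lit 9), (nat_lit 1), (nat_lit 9)] (nat_lit 20) (nat_lit 3)))))) (.node (.node (.node (.leaf (.cyc (nat_lit 2) [(nat_lit 13), (nat_lit 2), (nat_lit 13)] (nat_lit 35) (nat_lit 3))) (.leaf (.cyc (nat_lit 1) [(nat_lit 9), (nat_lit 1), (nat_lit 9)] (nat_lit 20) (nat_lit 3)))) (.node (.leaf (.pin (nat_lit 12) (nat_lit 2) [] [] (nat_lit 2) (nat_lit 79))) (.leaf (.cyc (nat_lit 1) [(nat_lit 9), (nat_lit 1), (nat_lit 9)] (nat_lit 20) (nat_lit 3))))) (.node (.node (.leaf (.cyc (nat_lit 0) [(nat_lit 2), (nat_lit 0), (nat_lit 2)] (nat_lit 1) (nat_lit 1))) (.leaf (.cyc (nat_lit 1) [(nat_lit 9), (nat_lit 1), (nat_lit 9)] (nat_lit 20) (nat_lit 3)))) (.node (.leaf (.cyc (nat_lit 2) [(nat_lit 3), (nat_lit 2), (nat_lit 3), (nat_lit 2), (nat_lit 3)] (nat_lit 25) (nat_lit 4))) (.leaf (.cyc (nat_lit 1) [(nat_lit 9), (nat_lit 1), (nat_lit 9)] (nat_lit 20) (nat_lit 3))))))) (.node (.node (.node (.node (.leaf (.cyc (nat_lit 7) [(nat_lit 3), (nat_lit 7), (nat_lit 3), (nat_lit 7), (nat_lit 3)] (nat_lit 39) (nat_lit 3))) (.leaf (.cyc (nat_lit 8) [(nat_lit 13), (nat_lit 8), (nat_lit 13), (nat_lit 8), (nat_lit 13)] (nat_lit 80) (nat_lit 0)))) (.node (.leaf (.pin (nat_lit 6) (nat_lit 7) [] [] (nat_lit 7) (nat_lit 47))) (.leaf (.cyc (nat_lit 1) [(nat_lit 9), (nat_lit 1), (nat_lit 9)] (nat_lit 20) (nat_lit 3))))) (.node (.node (.leaf (.cyc (nat_lit 10) [(nat_lit 2), (nat_lit 10), (nat_lit 2)] (nat_lit 32) (nat_lit 2))) (.leaf (.cyc (nat_lit 1) [(nat_lit 9), (nat_lit 1), (nat_lit 9)] (nat_lit 20) (nat_lit 3)))) (.node (.leaf (.pin (nat_lit 3) (nat_lit 6) [] [] (nat_lit 6) (nat_lit 177))) (.leaf (.cyc (nat_lit 1) [(nat_lit 9), (nat_lit 1), (nat_lit 9)] (nat_lit 20) (nat_lit 3)))))) (.node (.node (.node (.leaf (.cyc (nat_lit 7) [(nat_lit 4), (nat_lit 7), (nat_lit 4)] (nat_lit 48) (nat_lit 2))) (.leaf (.cyc (nat_lit 1) [(nat_lit 9), (nat_lit 1), (nat_lit 9)] (nat_lit 20) (nat_lit 3)))) (.node (.leaf (.pin (nat_lit 1) (nat_lit 2) [] [] (nat_lit 2) (nat_lit 113))) (.leaf (.cyc (nat_lit 1) [(nat_lit 9), (nat_lit 1), (nat_lit 9)] (nat_lit 20) (nat_lit 3))))) (.node (.node (.leaf (.cyc (nat_lit 8) [(nat_lit 2), (nat_lit 8), (nat_lit 2)] (nat_lit 30) (nat_lit 2))) (.leaf (.cyc (nat_lit 1) [(nat_lit 9), (nat_lit 1), (nat_lit 9)] (nat_lit 20) (nat_lit 3)))) (.node (.leaf (.cyc (nat_lit 8) [(nat_lit 6), (nat_lit 8), (nat_lit 6)] (nat_lit 64) (nat_lit 0))) (.leaf (.cyc (nat_lit 1) [(nat_lit 9), (nat_lit 1), (nat_lit 9)] (nat_lit 20) (nat_lit 3))))))))) (.node (.node (.node (.node (.node (.node (.leaf (.cyc (nat_lit 4) [(nat_lit 6), (nat_lit 4), (nat_lit 6)] (nat_lit 47) (nat_lit 1))) (.leaf (.cyc (nat_lit 13) [(nat_lit 11), (nat_lit 13), (nat_lit 11)] (nat_lit 89) (nat_lit 0)))) (.node (.leaf (.pin (nat_lit 8) (nat_lit 3) [] [] (nat_lit 3) (nat_lit 7))) (.leaf (.cyc (nat_lit 1) [(nat_lit 9), (nat_lit 1), (nat_lit 9)] (nat_lit 20) (nat_lit 3))))) (.node (.node (.leaf (.cyc (nat_lit 5) [(nat_lit 0), (nat_lit 5), (nat_lit 0)] (nat_lit 4) (nat_lit 2))) (.leaf (.cyc (nat_lit 1) [(nat_lit 9), (nat_lit 1), (nat_lit 9)] (nat_lit 20) (nat_lit 3)))) (.node (.leaf (.pin (nat_lit 4) (nat_lit 8) [] [] (nat_lit 8) (nat_lit 137))) (.leaf (.cyc (nat_lit 1) [(nat_lit 9), (nat_lit 1), (nat_lit 9)] (nat_lit 20) (nat_lit 3)))))) (.node (.node (.node (.leaf (.cyc (nat_lit 1) [(nat_lit 3), (nat_lit 1), (nat_lit 3)] (nat_lit 14) (nat_lit 1))) (.leaf (.cyc (nat_lit 1) [(nat_lit 9), (nat_lit 1), (nat_lit 9)] (nat_lit 20) (nat_lit 3)))) (.node (.leaf (.pin (nat_lit 9) (nat_lit 10) [] [] (nat_lit 10) (nat_lit 71))) (.leaf (.cyc (nat_lit 1) [(nat_lit 9), (nat_lit 1), (nat_lit 9)] (nat_lit 20) (nat_lit 3))))) (.node (.node (.leaf (.cyc (nat_lit 2) [(nat_lit 7), (nat_lit 2), (nat_lit 7)] (nat_lit 29) (nat_lit 3))) (.leaf (.cyc (nat_lit 1) [(nat_lit 9), (nat_lit 1), (nat_lit 9)] (nat_lit 20) (nat_lit 3)))) (.node (.leaf (.cyc (nat_lit 6) [(nat_lit 1), (nat_lit 6), (nat_lit 1)] (nat_lit 17) (nat_lit 0))) (.leaf (.cyc (nat_lit 1) [(nat_lit 9), (nat_lit 1), (nat_lit 9)] (nat_lit 20) (nat_lit 3))))))) (.node (.node (.node (.node (.leaf (.cyc (nat_lit 5) [(nat_lit 13), (nat_lit 5), (nat_lit 13)] (nat_lit 62) (nat_lit 1))) (.leaf (.cyc (nat_lit 13) [(nat_lit 8), (nat_lit 13), (nat_lit 8), (nat_lit 13), (nat_lit 8)] (nat_lit 80) (nat_lit 5)))) (.node (.leaf (.pin (nat_lit 3) (nat_lit 6) [(nat_lit 7)] [] (nat_lit 10) (nat_lit 39))) (.leaf (.cyc (nat_lit 1) [(nat_lit 9), (nat_lit 1), (nat_lit 9)] (nat_lit 20) (nat_lit 3))))) (.node (.node (.leaf (.cyc (nat_lit 0) [(nat_lit 3), (nat_lit 0), (nat_lit 3)] (nat_lit 2) (nat_lit 1))) (.leaf (.cyc (nat_lit 1) [(nat_lit 9), (nat_lit 1), (nat_lit 9)] (nat_lit 20) (nat_lit 3)))) (.node (.leaf (.pin (nat_lit 9) (nat_lit 31672) [] [] (nat_lit 31672) (nat_lit 169))) (.leaf (.cyc (nat_lit 1) [(nat_lit 9), (nat_lit 1), (nat_lit 9)] (nat_lit 20) (nat_lit 3)))))) (.node (.node (.node (.leaf (.cyc (nat_lit 4) [(nat_lit 12), (nat_lit 4), (nat_lit 12)] (nat_lit 53) (nat_lit 3))) (.leaf (.cyc (nat_lit 1) [(nat_lit 9), (nat_lit 1), (nat_lit 9)] (nat_lit 20) (nat_lit 3)))) (.node (.leaf (.pin (nat_lit 0) (nat_lit 1) [] [] (nat_lit 1) (nat_lit 105))) (.leaf (.cyc (nat_lit 1) [(nat_lit 9), (nat_lit 1), (nat_lit 9)] (nat_lit 20) (nat_lit 3))))) (.node (.node (.leaf (.cyc (nat_lit 8) [(nat_lit 11), (nat_lit 8), (nat_lit 11)] (nat_lit 78) (nat_lit 1))) (.leaf (.cyc (nat_lit 1) [(nat_lit 9), (nat_lit 1), (nat_lit 9)] (nat_lit 20) (nat_lit 3)))) (.node (.leaf (.cyc (nat_lit 13) [(nat_lit 4), (nat_lit 13), (nat_lit 4)] (nat_lit 54) (nat_lit 0))) (.leaf (.cyc (nat_lit 1) [(nat_lit 9), (nat_lit 1), (nat_lit 9)] (nat_lit 20) (nat_lit 3)))))))) (.node (.node (.node (.node (.node (.leaf (.cyc (nat_lit 11) [(nat_lit 13), (nat_lit 11), (nat_lit 13)] (nat_lit 89) (nat_lit 3))) (.leaf (.cyc (nat_lit 6) [(nat_lit 4), (nat_lit 6), (nat_lit 4)] (nat_lit 47) (nat_lit 0)))) (.node (.leaf (.pin (nat_lit 12) (nat_lit 4) [] [] (nat_lit 4) (nat_lit 23))) (.leaf (.cyc (nat_lit 1) [(nat_lit 9), (nat_lit 1), (nat_lit 9)] (nat_lit 20) (nat_lit 3))))) (.node (.node (.leaf (.cyc (nat_lit 7) [(nat_lit 0), (nat_lit 7), (nat_lit 0)] (nat_lit 6) (nat_lit 2))) (.leaf (.cyc (nat_lit 1) [(nat_lit 9), (nat_lit 1), (nat_lit 9)] (nat_lit 20) (nat_lit 3)))) (.node (.leaf (.pin (nat_lit 6) (nat_lit 696) [] [] (nat_lit 696) (nat_lit 153))) (.leaf (.cyc (nat_lit 1) [(nat_lit 9), (nat_lit 1), (nat_lit 9)] (nat_lit 20) (nat_lit 3)))))) (.node (.node (.node (.leaf (.cyc (nat_lit 10) [(nat_lit 8), (nat_lit 10), (nat_lit 8)] (nat_lit 77) (nat_lit 2))) (.leaf (.cyc (nat_lit 1) [(nat_lit 9), (nat_lit 1), (nat_lit 9)] (nat_lit 20) (nat_lit 3)))) (.node (.leaf (.pin (nat_lit 13) (nat_lit 1) [] [] (nat_lit 1) (nat_lit 87))) (.leaf (.cyc (nat_lit 1) [(nat_lit 9), (nat_lit 1), (nat_lit 9)] (nat_lit 20) (nat_lit 3))))) (.node (.node (.leaf (.cyc (nat_lit 10) [(nat_lit 5), (nat_lit 10), (nat_lit 5)] (nat_lit 59) (nat_lit 2))) (.leaf (.cyc (nat_lit 1) [(nat_lit 9), (nat_lit 1), (nat_lit 9)] (nat_lit 20) (nat_lit 3)))) (.node (.leaf (.cyc (nat_lit 12) [(nat_lit 2), (nat_lit 12), (nat_lit 2)] (nat_lit 34) (nat_lit 0))) (.leaf (.cyc (nat_lit 1) [(nat_lit 9), (nat_lit 1), (nat_lit 9)] (nat_lit 20) (nat_lit 3))))))) (.node (.node (.node (.node (.leaf (.cyc (nat_lit 11) [(nat_lit 8), (nat_lit 11), (nat_lit 8)] (nat_lit 78) (nat_lit 2))) (.leaf (.cyc (nat_lit 13) [(nat_lit 7), (nat_lit 13), (nat_lit 7), (nat_lit 13), (nat_lit 7)] (nat_lit 75) (nat_lit 1)))) (.node (.leaf (.pin (nat_lit 5) (nat_lit 8) [(nat_lit 6)] [] (nat_lit 9) (nat_lit 55))) (.leaf (.cyc (nat_lit 1) [(nat_lit 9), (nat_lit 1), (nat_lit 9)] (nat_lit 20) (nat_lit 3))))) (.node (.node (.leaf (.cyc (nat_lit 2) [(nat_lit 3), (nat_lit 2), (nat_lit 3), (nat_lit 2), (nat_lit 3)] (nat_lit 25) (nat_lit 2))) (.leaf (.cyc (nat_lit 1) [(nat_lit 9), (nat_lit 1), (nat_lit 9)] (nat_lit 20) (nat_lit 3)))) (.node (.leaf (.pin (nat_lit 11) (nat_lit 3512) [] [] (nat_lit 3512) (nat_lit 185))) (.leaf (.cyc (nat_lit 1) [(nat_lit 9), (nat_lit 1), (nat_lit 9)] (nat_lit 20) (nat_lit 3)))))) (.node (.node (.node (.leaf (.cyc (nat_lit 3) [(nat_lit 8), (nat_lit 3), (nat_lit 8)] (nat_lit 40) (nat_lit 3))) (.leaf (.cyc (nat_lit 1) [(nat_lit 9), (nat_lit 1), (nat_lit 9)] (nat_lit 20) (nat_lit 3)))) (.node (.leaf (.pin (nat_lit 2) (nat_lit 9) [] [] (nat_lit 9) (nat_lit 121))) (.leaf (.cyc (nat_lit 1) [(nat_lit 9), (nat_lit 1), (nat_lit 9)] (nat_lit 20) (nat_lit 3))))) (.node (.node (.leaf (.cyc (nat_lit 7) [(nat_lit 6), (nat_lit 7), (nat_lit 6), (nat_lit 7), (nat_lit 6)] (nat_lit 63) (nat_lit 1))) (.leaf (.cyc (nat_lit 1) [(nat_lit 9), (nat_lit 1), (nat_lit 9)] (nat_lit 20) (nat_lit 3)))) (.node (.leaf (.cyc (nat_lit 8) [(nat_lit 13), (nat_lit 8), (nat_lit 13), (nat_lit 8), (nat_lit 13)] (nat_lit 80) (nat_lit 4))) (.leaf (.cyc (nat_lit 1) [(nat_lit 9), (nat_lit 1), (nat_lit 9)] (nat_lit 20) (nat_lit 3)))))))))) (.node (.node (.node (.node (.node (.node (.node (.leaf (.cyc (nat_lit 1) [(nat_lit 8), (nat_lit 1), (nat_lit 8)] (nat_lit 19) (nat_lit 1))) (.leaf (.cyc (nat_lit 10) [(nat_lit 11), (nat_lit 10), (nat_lit 11), (nat_lit 10), (nat_lit 11)] (nat_lit 85) (nat_lit 4)))) (.node (.leaf (.pin (nat_lit 4) (nat_lit 3) [] [] (nat_lit 3) (nat_lit 3))) (.leaf (.cyc (nat_lit 1) [(nat_lit 9), (nat_lit 1), (nat_lit 9)] (nat_lit 20) (nat_lit 3))))) (.node (.node (.leaf (.cyc (nat_lit 2) [(nat_lit 0), (nat_lit 2), (nat_lit 0)] (nat_lit 1) (nat_lit 2))) (.leaf (.cyc (nat_lit 1) [(nat_lit 9), (nat_lit 1), (nat_lit 9)] (nat_lit 20) (nat_lit 3)))) (.node (.leaf (.pin (nat_lit 3) (nat_lit 1) [] [] (nat_lit 1) (nat_lit 133))) (.leaf (.cyc (nat_lit 1) [(nat_lit 9), (nat_lit 1), (nat_lit 9)] (nat_lit 20) (nat_lit 3)))))) (.node (.node (.node (.leaf (.cyc (nat_lit 7) [(nat_lit 8), (nat_lit 7), (nat_lit 8)] (nat_lit 70) (nat_lit 1))) (.leaf (.cyc (nat_lit 0) [(nat_lit 9), (nat_lit 0), (nat_lit 9), (nat_lit 0), (nat_lit 9)] (nat_lit 8) (nat_lit 0)))) (.node (.leaf (.pin (nat_lit 11) (nat_lit 9) [] [] (nat_lit 9) (nat_lit 67))) (.leaf (.cyc (nat_lit 1) [(nat_lit 9), (nat_lit 1), (nat_lit 9)] (nat_lit 20) (nat_lit 3))))) (.node (.node (.leaf (.cyc (nat_lit 8) [(nat_lit 12), (nat_lit 8), (nat_lit 12)] (nat_lit 79) (nat_lit 1))) (.leaf (.cyc (nat_lit 1) [(nat_lit 9), (nat_lit 1), (nat_lit 9)] (nat_lit 20) (nat_lit 3)))) (.node (.leaf (.cyc (nat_lit 13) [(nat_lit 0), (nat_lit 13), (nat_lit 0)] (nat_lit 12) (nat_lit 0))) (.leaf (.cyc (nat_lit 1) [(nat_lit 9), (nat_lit 1), (nat_lit 9)] (nat_lit 20) (nat_lit 3))))))) (.node (.node (.node (.node (.leaf (.cyc (nat_lit 1) [(nat_lit 6), (nat_lit 1), (nat_lit 6)] (nat_lit 17) (nat_lit 3))) (.leaf (.cyc (nat_lit 5) [(nat_lit 1), (nat_lit 5), (nat_lit 1), (nat_lit 5), (nat_lit 1)] (nat_lit 16) (nat_lit 5)))) (.node (.leaf (.pin (nat_lit 13) (nat_lit 5) [] [] (nat_lit 5) (nat_lit 35))) (.leaf (.cyc (nat_lit 1) [(nat_lit 9), (nat_lit 1), (nat_lit 9)] (nat_lit 20) (nat_lit 3))))) (.node (.node (.leaf (.cyc (nat_lit 11) [(nat_lit 4), (nat_lit 11), (nat_lit 4), (nat_lit 11), (nat_lit 4)] (nat_lit 52) (nat_lit 3))) (.leaf (.cyc (nat_lit 1) [(nat_lit 9), (nat_lit 1), (nat_lit 9)] (nat_lit 20) (nat_lit 3)))) (.node (.leaf (.pin (nat_lit 8) (nat_lit 0) [] [] (nat_lit 0) (nat_lit 165))) (.leaf (.cyc (nat_lit 1) [(nat_lit 9), (nat_lit 1), (nat_lit 9)] (nat_lit 20) (nat_lit 3)))))) (.node (.node (.node (.leaf (.cyc (nat_lit 6) [(nat_lit 0), (nat_lit 6), (nat_lit 0)] (nat_lit 5) (nat_lit 2))) (.leaf (.cyc (nat_lit 1) [(nat_lit 9), (nat_lit 1), (nat_lit 9)] (nat_lit 20) (nat_lit 3)))) (.node (.leaf (.pin (nat_lit 0) (nat_lit 8) [] [] (nat_lit 8) (nat_lit 101))) (.leaf (.cyc (nat_lit 1) [(nat_lit 9), (nat_lit 1), (nat_lit 9)] (nat_lit 20) (nat_lit 3))))) (.node (.node (.leaf (.cyc (nat_lit 13) [(nat_lit 0), (nat_lit 13), (nat_lit 0)] (nat_lit 12) (nat_lit 2))) (.leaf (.cyc (nat_lit 1) [(nat_lit 9), (nat_lit 1), (nat_lit 9)] (nat_lit 20) (nat_lit 3)))) (.node (.leaf (.cyc (nat_lit 11) [(nat_lit 3), (nat_lit 11), (nat_lit 3)] (nat_lit 43) (nat_lit 0))) (.leaf (.cyc (nat_lit 1) [(nat_lit 9), (nat_lit 1), (nat_lit 9)] (nat_lit 20) (nat_lit 3)))))))) (.node (.node (.node (.node (.node (.leaf (.cyc (nat_lit 5) [(nat_lit 7), (nat_lit 5), (nat_lit 7)] (nat_lit 56) (nat_lit 3))) (.leaf (.cyc (nat_lit 8) [(nat_lit 4), (nat_lit 8), (nat_lit 4)] (nat_lit 49) (nat_lit 0)))) (.node (.leaf (.pin (nat_lit 8) (nat_lit 4) [] [] (nat_lit 4) (nat_lit 19))) (.leaf (.cyc (nat_lit 1) [(nat_lit 9), (nat_lit 1), (nat_lit 9)] (nat_lit 20) (nat_lit 3))))) (.node (.node (.leaf (.cyc (nat_lit 2) [(nat_lit 8), (nat_lit 2), (nat_lit 8)] (nat_lit 30) (nat_lit 3))) (.leaf (.cyc (nat_lit 1) [(nat_lit 9), (nat_lit 1), (nat_lit 9)] (nat_lit 20) (nat_lit 3)))) (.node (.leaf (.pin (nat_lit 5) (nat_lit 3512) [] [] (nat_lit 3512) (nat_lit 149))) (.leaf (.cyc (nat_lit 1) [(nat_lit 9), (nat_lit 1), (nat_lit 9)] (nat_lit 20) (nat_lit 3)))))) (.node (.node (.node (.leaf (.cyc (nat_lit 3) [(nat_lit 11), (nat_lit 3), (nat_lit 11)] (nat_lit 43) (nat_lit 1))) (.leaf (.cyc (nat_lit 1) [(nat_lit 9), (nat_lit 1), (nat_lit 9)] (nat_lit 20) (nat_lit 3)))) (.node (.leaf (.pin (nat_lit 12) (nat_lit 696) [] [] (nat_lit 696) (nat_lit 83))) (.leaf (.cyc (nat_lit 1) [(nat_lit 9), (nat_lit 1), (nat_lit 9)] (nat_lit 20) (nat_lit 3))))) (.node (.node (.leaf (.cyc (nat_lit 11) [(nat_lit 10), (nat_lit 11), (nat_lit 10), (nat_lit 11), (nat_lit 10)] (nat_lit 85) (nat_lit 3))) (.leaf (.cyc (nat_lit 1) [(nat_lit 9), (nat_lit 1), (nat_lit 9)] (nat_lit 20) (nat_lit 3)))) (.node (.leaf (.cyc (nat_lit 8) [(nat_lit 2), (nat_lit 8), (nat_lit 2)] (nat_lit 30) (nat_lit 0))) (.leaf (.cyc (nat_lit 1) [(nat_lit 9), (nat_lit 1), (nat_lit 9)] (nat_lit 20) (nat_lit 3))))))) (.node (.node (.node (.node (.leaf (.cyc (nat_lit 3) [(nat_lit 11), (nat_lit 3), (nat_lit 11)] (nat_lit 43) (nat_lit 3))) (.leaf (.cyc (nat_lit 5) [(nat_lit 6), (nat_lit 5), (nat_lit 6), (nat_lit 5), (nat_lit 6)] (nat_lit 55) (nat_lit 0)))) (.node (.leaf (.pin (nat_lit 10) (nat_lit 7) [] [] (nat_lit 7) (nat_lit 51))) (.leaf (.cyc (nat_lit 1) [(nat_lit 9), (nat_lit 1), (nat_lit 9)] (nat_lit 20) (nat_lit 3))))) (.node (.node (.leaf (.cyc (nat_lit 11) [(nat_lit 1), (nat_lit 11), (nat_lit 1)] (nat_lit 22) (nat_lit 2))) (.leaf (.cyc (nat_lit 1) [(nat_lit 9), (nat_lit 1), (nat_lit 9)] (nat_lit 20) (nat_lit 3)))) (.node (.leaf (.pin (nat_lit 7) (nat_lit 10) [] [] (nat_lit 10) (nat_lit 181))) (.leaf (.cyc (nat_lit 1) [(nat_lit 9), (nat_lit 1), (nat_lit 9)] (nat_lit 20) (nat_lit 3)))))) (.node (.node (.node (.leaf (.cyc (nat_lit 6) [(nat_lit 4), (nat_lit 6), (nat_lit 4)] (nat_lit 47) (nat_lit 2))) (.leaf (.cyc (nat_lit 1) [(nat_lit 9), (nat_lit 1), (nat_lit 9)] (nat_lit 20) (nat_lit 3)))) (.node (.leaf (.pin (nat_lit 1) (nat_lit 0) [] [] (nat_lit 0) (nat_lit 117))) (.leaf (.cyc (nat_lit 1) [(nat_lit 9), (nat_lit 1), (nat_lit 9)] (nat_lit 20) (nat_lit 3))))) (.node (.node (.leaf (.cyc (nat_lit 1) [(nat_lit 3), (nat_lit 1), (nat_lit 3)] (nat_lit 14) (nat_lit 3))) (.leaf (.cyc (nat_lit 1) [(nat_lit 9), (nat_lit 1), (nat_lit 9)] (nat_lit 20) (nat_lit 3)))) (.node (.leaf (.cyc (nat_lit 12) [(nat_lit 6), (nat_lit 12), (nat_lit 6)] (nat_lit 68) (nat_lit 0))) (.leaf (.cyc (nat_lit 1) [(nat_lit 9), (nat_lit 1), (nat_lit 9)] (nat_lit 20) (nat_lit 3))))))))) (.node (.node (.node (.node (.node (.node (.leaf (.cyc (nat_lit 9) [(nat_lit 12), (nat_lit 9), (nat_lit 12)] (nat_lit 83) (nat_lit 1))) (.leaf (.cyc (nat_lit 2) [(nat_lit 1), (nat_lit 2), (nat_lit 1), (nat_lit 2), (nat_lit 1)] (nat_lit 13) (nat_lit 5)))) (.node (.leaf (.pin (nat_lit 12) (nat_lit 3) [] [] (nat_lit 3) (nat_lit 11))) (.leaf (.cyc (nat_lit 1) [(nat_lit 9), (nat_lit 1), (nat_lit 9)] (nat_lit 20) (nat_lit 3))))) (.node (.node (.leaf (.cyc (nat_lit 2) [(nat_lit 10), (nat_lit 2), (nat_lit 10)] (nat_lit 32) (nat_lit 1))) (.leaf (.cyc (nat_lit 1) [(nat_lit 9), (nat_lit 1), (nat_lit 9)] (nat_lit 20) (nat_lit 3)))) (.node (.leaf (.pin (nat_lit 4) (nat_lit 696) [] [] (nat_lit 696) (nat_lit 141))) (.leaf (.cyc (nat_lit 1) [(nat_lit 9), (nat_lit 1), (nat_lit 9)] (nat_lit 20) (nat_lit 3)))))) (.node (.node (.node (.leaf (.cyc (nat_lit 5) [(nat_lit 3), (nat_lit 5), (nat_lit 3)] (nat_lit 37) (nat_lit 2))) (.leaf (.cyc (nat_lit 1) [(nat_lit 9), (nat_lit 1), (nat_lit 9)] (nat_lit 20) (nat_lit 3)))) (.node (.leaf (.pin (nat_lit 7) (nat_lit 10) [(nat_lit 13)] [] (nat_lit 31672) (nat_lit 75))) (.leaf (.cyc (nat_lit 1) [(nat_lit 9), (nat_lit 1), (nat_lit 9)] (nat_lit 20) (nat_lit 3))))) (.node (.node (.leaf (.cyc (nat_lit 13) [(nat_lit 9), (nat_lit 13), (nat_lit 9)] (nat_lit 84) (nat_lit 2))) (.leaf (.cyc (nat_lit 1) [(nat_lit 9), (nat_lit 1), (nat_lit 9)] (nat_lit 20) (nat_lit 3)))) (.node (.leaf (.cyc (nat_lit 10) [(nat_lit 1), (nat_lit 10), (nat_lit 1)] (nat_lit 21) (nat_lit 0))) (.leaf (.cyc (nat_lit 1) [(nat_lit 9), (nat_lit 1), (nat_lit 9)] (nat_lit 20) (nat_lit 3))))))) (.node (.node (.node (.node (.leaf (.cyc (nat_lit 5) [(nat_lit 11), (nat_lit 5), (nat_lit 11)] (nat_lit 60) (nat_lit 3))) (.leaf (.cyc (nat_lit 9) [(nat_lit 0), (nat_lit 9), (nat_lit 0), (nat_lit 9), (nat_lit 0)] (nat_lit 8) (nat_lit 1)))) (.node (.leaf (.pin (nat_lit 11) (nat_lit 6) [] [] (nat_lit 6) (nat_lit 43))) (.leaf (.cyc (nat_lit 1) [(nat_lit 9), (nat_lit 1), (nat_lit 9)] (nat_lit 20) (nat_lit 3))))) (.node (.node (.leaf (.cyc (nat_lit 0) [(nat_lit 10), (nat_lit 0), (nat_lit 10)] (nat_lit 9) (nat_lit 1))) (.leaf (.cyc (nat_lit 1) [(nat_lit 9), (nat_lit 1), (nat_lit 9)] (nat_lit 20) (nat_lit 3)))) (.node (.leaf (.pin (nat_lit 11) (nat_lit 31672) [] [] (nat_lit 31672) (nat_lit 173))) (.leaf (.cyc (nat_lit 1) [(nat_lit 9), (nat_lit 1), (nat_lit 9)] (nat_lit 20) (nat_lit 3)))))) (.node (.node (.node (.leaf (.cyc (nat_lit 3) [(nat_lit 4), (nat_lit 3), (nat_lit 4), (nat_lit 3), (nat_lit 4)] (nat_lit 36) (nat_lit 2))) (.leaf (.cyc (nat_lit 1) [(nat_lit 9), (nat_lit 1), (nat_lit 9)] (nat_lit 20) (nat_lit 3)))) (.node (.leaf (.pin (nat_lit 1) (nat_lit 6) [] [] (nat_lit 6) (nat_lit 109))) (.leaf (.cyc (nat_lit 1) [(nat_lit 9), (nat_lit 1), (nat_lit 9)] (nat_lit 20) (nat_lit 3))))) (.node (.node (.leaf (.cyc (nat_lit 8) [(nat_lit 1), (nat_lit 8), (nat_lit 1)] (nat_lit 19) (nat_lit 2))) (.leaf (.cyc (nat_lit 1) [(nat_lit 9), (nat_lit 1), (nat_lit 9)] (nat_lit 20) (nat_lit 3)))) (.node (.leaf (.cyc (nat_lit 11) [(nat_lit 5), (nat_lit 11), (nat_lit 5)] (nat_lit 60) (nat_lit 0))) (.leaf (.cyc (nat_lit 1) [(nat_lit 9), (nat_lit 1), (nat_lit 9)] (nat_lit 20) (nat_lit 3)))))))) (.node (.node (.node (.node (.node (.leaf (.cyc (nat_lit 4) [(nat_lit 8), (nat_lit 4), (nat_lit 8)] (nat_lit 49) (nat_lit 1))) (.leaf (.cyc (nat_lit 9) [(nat_lit 4), (nat_lit 9), (nat_lit 4)] (nat_lit 50) (nat_lit 0)))) (.node (.leaf (.pin (nat_lit 5) (nat_lit 5) [] [] (nat_lit 5) (nat_lit 27))) (.leaf (.cyc (nat_lit 1) [(nat_lit 9), (nat_lit 1), (nat_lit 9)] (nat_lit 20) (nat_lit 3))))) (.node (.node (.leaf (.cyc (nat_lit 7) [(nat_lit 1), (nat_lit 7), (nat_lit 1)] (nat_lit 18) (nat_lit 2))) (.leaf (.cyc (nat_lit 1) [(nat_lit 9), (nat_lit 1), (nat_lit 9)] (nat_lit 20) (nat_lit 3)))) (.node (.leaf (.pin (nat_lit 6) (nat_lit 31672) [] [] (nat_lit 31672) (nat_lit 157))) (.leaf (.cyc (nat_lit 1) [(nat_lit 9), (nat_lit 1), (nat_lit 9)] (nat_lit 20) (nat_lit 3)))))) (.node (.node (.node (.leaf (.cyc (nat_lit 7) [(nat_lit 12), (nat_lit 7), (nat_lit 12)] (nat_lit 74) (nat_lit 1))) (.leaf (.cyc (nat_lit 1) [(nat_lit 9), (nat_lit 1), (nat_lit 9)] (nat_lit 20) (nat_lit 3)))) (.node (.leaf (.pin (nat_lit 1) (nat_lit 4) [(nat_lit 2), (nat_lit 3), (nat_lit 5), (nat_lit 7), (nat_lit 6), (nat_lit 5)] [(nat_lit 2), (nat_lit 3), (nat_lit 7), (nat_lit 6), (nat_lit 5), (nat_lit 3), (nat_lit 2)] (nat_lit 4) (nat_lit 91))) (.leaf (.cyc (nat_lit 1) [(nat_lit 9), (nat_lit 1), (nat_lit 9)] (nat_lit 20) (nat_lit 3))))) (.node (.node (.leaf (.cyc (nat_lit 13) [(nat_lit 1), (nat_lit 13), (nat_lit 1)] (nat_lit 24) (nat_lit 2))) (.leaf (.cyc (nat_lit 1) [(nat_lit 9), (nat_lit 1), (nat_lit 9)] (nat_lit 20) (nat_lit 3)))) (.node (.leaf (.cyc (nat_lit 0) [(nat_lit 3), (nat_lit 0), (nat_lit 3)] (nat_lit 2) (nat_lit 3))) (.leaf (.cyc (nat_lit 1) [(nat_lit 9), (nat_lit 1), (nat_lit 9)] (nat_lit 20) (nat_lit 3))))))) (.node (.node (.node (.node (.leaf (.cyc (nat_lit 5) [(nat_lit 12), (nat_lit 5), (nat_lit 12)] (nat_lit 61) (nat_lit 1))) (.leaf (.cyc (nat_lit 11) [(nat_lit 4), (nat_lit 11), (nat_lit 4), (nat_lit 11), (nat_lit 4)] (nat_lit 52) (nat_lit 5)))) (.node (.leaf (.pin (nat_lit 10) (nat_lit 8) [] [] (nat_lit 8) (nat_lit 59))) (.leaf (.cyc (nat_lit 1) [(nat_lit 9), (nat_lit 1), (nat_lit 9)] (nat_lit 20) (nat_lit 3))))) (.node (.node (.leaf (.cyc (nat_lit 2) [(nat_lit 4), (nat_lit 2), (nat_lit 4)] (nat_lit 26) (nat_lit 1))) (.leaf (.cyc (nat_lit 1) [(nat_lit 9), (nat_lit 1), (nat_lit 9)] (nat_lit 20) (nat_lit 3)))) (.node (.leaf (.cyc (nat_lit 4) [(nat_lit 0), (nat_lit 4), (nat_lit 0)] (nat_lit 3) (nat_lit 0))) (.leaf (.cyc (nat_lit 1) [(nat_lit 9), (nat_lit 1), (nat_lit 9)] (nat_lit 20) (nat_lit 3)))))) (.node (.node (.node (.leaf (.cyc (nat_lit 11) [(nat_lit 13), (nat_lit 11), (nat_lit 13)] (nat_lit 89) (nat_lit 1))) (.leaf (.cyc (nat_lit 1) [(nat_lit 9), (nat_lit 1), (nat_lit 9)] (nat_lit 20) (nat_lit 3)))) (.node (.leaf (.pin (nat_lit 2) (nat_lit 1) [] [] (nat_lit 1) (nat_lit 125))) (.leaf (.cyc (nat_lit 1) [(nat_lit 9), (nat_lit 1), (nat_lit 9)] (nat_lit 20) (nat_lit 3))))) (.node (.node (.leaf (.cyc (nat_lit 13) [(nat_lit 12), (nat_lit 13), (nat_lit 12), (nat_lit 13), (nat_lit 12)] (nat_lit 90) (nat_lit 1))) (.leaf (.cyc (nat_lit 1) [(nat_lit 9), (nat_lit 1), (nat_lit 9)] (nat_lit 20) (nat_lit 3)))) (.node (.leaf (.cyc (nat_lit 13) [(nat_lit 10), (nat_lit 13), (nat_lit 10)] (nat_lit 87) (nat_lit 0))) (.leaf (.cyc (nat_lit 1) [(nat_lit 9), (nat_lit 1), (nat_lit 9)] (nat_lit 20) (nat_lit 3)))))))))))) (.node (.node (.node (.node (.node (.node (.node (.node (.node (.leaf (.cyc (nat_lit 2) [(nat_lit 5), (nat_lit 2), (nat_lit 5)] (nat_lit 27) (nat_lit 3))) (.leaf (.cyc (nat_lit 12) [(nat_lit 0), (nat_lit 12), (nat_lit 0)] (nat_lit 11) (nat_lit 2)))) (.node (.leaf (.cyc (nat_lit 12) [(nat_lit 1), (nat_lit 12), (nat_lit 1)] (nat_lit 23) (nat_lit 2))) (.leaf (.cyc (nat_lit 1) [(nat_lit 9), (nat_lit 1), (nat_lit 9)] (nat_lit 20) (nat_lit 3))))) (.node (.node (.leaf (.cyc (nat_lit 1) [(nat_lit 11), (nat_lit 1), (nat_lit 11)] (nat_lit 22) (nat_lit 1))) (.leaf (.cyc (nat_lit 1) [(nat_lit 9), (nat_lit 1), (nat_lit 9)] (nat_lit 20) (nat_lit 3)))) (.node (.leaf (.pin (nat_lit 2) (nat_lit 31672) [] [] (nat_lit 31672) (nat_lit 128))) (.leaf (.cyc (nat_lit 1) [(nat_lit 9), (nat_lit 1), (nat_lit 9)] (nat_lit 20) (nat_lit 3)))))) (.node (.node (.node (.leaf (.cyc (nat_lit 9) [(nat_lit 13), (nat_lit 9), (nat_lit 13)] (nat_lit 84) (nat_lit 1))) (.leaf (.cyc (nat_lit 11) [(nat_lit 4), (nat_lit 11), (nat_lit 4), (nat_lit 11), (nat_lit 4)] (nat_lit 52) (nat_lit 1)))) (.node (.leaf (.pin (nat_lit 13) (nat_lit 8) [] [] (nat_lit 8) (nat_lit 62))) (.leaf (.cyc (nat_lit 1) [(nat_lit 9), (nat_lit 1), (nat_lit 9)] (nat_lit 20) (nat_lit 3))))) (.node (.node (.leaf (.cyc (nat_lit 0) [(nat_lit 12), (nat_lit 0), (nat_lit 12)] (nat_lit 11) (nat_lit 3))) (.leaf (.cyc (nat_lit 1) [(nat_lit 9), (nat_lit 1), (nat_lit 9)] (nat_lit 20) (nat_lit 3)))) (.node (.leaf (.cyc (nat_lit 8) [(nat_lit 0), (nat_lit 8), (nat_lit 0)] (nat_lit 7) (nat_lit 0))) (.leaf (.cyc (nat_lit 1) [(nat_lit 9), (nat_lit 1), (nat_lit 9)] (nat_lit 20) (nat_lit 3))))))) (.node (.node (.node (.node (.leaf (.cyc (nat_lit 6) [(nat_lit 12), (nat_lit 6), (nat_lit 12)] (nat_lit 68) (nat_lit 1))) (.leaf (.cyc (nat_lit 4) [(nat_lit 3), (nat_lit 4), (nat_lit 3), (nat_lit 4), (nat_lit 3)] (nat_lit 36) (nat_lit 5)))) (.node (.leaf (.pin (nat_lit 8) (nat_lit 5) [] [] (nat_lit 5) (nat_lit 30))) (.leaf (.cyc (nat_lit 1) [(nat_lit 9), (nat_lit 1), (nat_lit 9)] (nat_lit 20) (nat_lit 3))))) (.node (.node (.leaf (.cyc (nat_lit 6) [(nat_lit 2), (nat_lit 6), (nat_lit 2)] (nat_lit 28) (nat_lit 2))) (.leaf (.cyc (nat_lit 1) [(nat_lit 9), (nat_lit 1), (nat_lit 9)] (nat_lit 20) (nat_lit 3)))) (.node (.leaf (.pin (nat_lit 7) (nat_lit 1) [] [] (nat_lit 1) (nat_lit 160))) (.leaf (.cyc (nat_lit 1) [(nat_lit 9), (nat_lit 1), (nat_lit 9)] (nat_lit 20) (nat_lit 3)))))) (.node (.node (.node (.leaf (.cyc (nat_lit 7) [(nat_lit 11), (nat_lit 7), (nat_lit 11)] (nat_lit 73) (nat_lit 1))) (.leaf (.cyc (nat_lit 1) [(nat_lit 9), (nat_lit 1), (nat_lit 9)] (nat_lit 20) (nat_lit 3)))) (.node (.leaf (.pin (nat_lit 4) (nat_lit 5) [(nat_lit 3), (nat_lit 4), (nat_lit 7), (nat_lit 3), (nat_lit 6), (nat_lit 7), (nat_lit 11)] [(nat_lit 10), (nat_lit 11), (nat_lit 5), (nat_lit 6), (nat_lit 3), (nat_lit 7), (nat_lit 4), (nat_lit 3)] (nat_lit 5) (nat_lit 95))) (.leaf (.cyc (nat_lit 1) [(nat_lit 9), (nat_lit 1), (nat_lit 9)] (nat_lit 20) (nat_lit 3))))) (.node (.node (.leaf (.cyc (nat_lit 7) [(nat_lit 13), (nat_lit 7), (nat_lit 13), (nat_lit 7), (nat_lit 13)] (nat_lit 75) (nat_lit 2))) (.leaf (.cyc (nat_lit 1) [(nat_lit 9), (nat_lit 1), (nat_lit 9)] (nat_lit 20) (nat_lit 3)))) (.node (.leaf (.cyc (nat_lit 8) [(nat_lit 3), (nat_lit 8), (nat_lit 3)] (nat_lit 40) (nat_lit 0))) (.leaf (.cyc (nat_lit 1) [(nat_lit 9), (nat_lit 1), (nat_lit 9)] (nat_lit 20) (nat_lit 3)))))))) (.node (.node (.node (.node (.node (.leaf (.cyc (nat_lit 2) [(nat_lit 9), (nat_lit 2), (nat_lit 9)] (nat_lit 31) (nat_lit 1))) (.leaf (.cyc (nat_lit 3) [(nat_lit 2), (nat_lit 3), (nat_lit 2), (nat_lit 3), (nat_lit 2)] (nat_lit 25) (nat_lit 5)))) (.node (.leaf (.pin (nat_lit 3) (nat_lit 4) [] [] (nat_lit 4) (nat_lit 14))) (.leaf (.cyc (nat_lit 1) [(nat_lit 9), (nat_lit 1), (nat_lit 9)] (nat_lit 20) (nat_lit 3))))) (.node (.node (.leaf (.cyc (nat_lit 0) [(nat_lit 7), (nat_lit 0), (nat_lit 7)] (nat_lit 6) (nat_lit 1))) (.leaf (.cyc (nat_lit 1) [(nat_lit 9), (nat_lit 1), (nat_lit 9)] (nat_lit 20) (nat_lit 3)))) (.node (.leaf (.pin (nat_lit 4) (nat_lit 31672) [] [] (nat_lit 31672) (nat_lit 144))) (.leaf (.cyc (nat_lit 1) [(nat_lit 9), (nat_lit 1), (nat_lit 9)] (nat_lit 20) (nat_lit 3)))))) (.node (.node (.node (.leaf (.cyc (nat_lit 2) [(nat_lit 4), (nat_lit 2), (nat_lit 4)] (nat_lit 26) (nat_lit 3))) (.leaf (.cyc (nat_lit 1) [(nat_lit 9), (nat_lit 1), (nat_lit 9)] (nat_lit 20) (nat_lit 3)))) (.node (.leaf (.pin (nat_lit 11) (nat_lit 2) [] [] (nat_lit 2) (nat_lit 78))) (.leaf (.cyc (nat_lit 1) [(nat_lit 9), (nat_lit 1), (nat_lit 9)] (nat_lit 20) (nat_lit 3))))) (.node (.node (.leaf (.cyc (nat_lit 9) [(nat_lit 11), (nat_lit 9), (nat_lit 11)] (nat_lit 82) (nat_lit 1))) (.leaf (.cyc (nat_lit 1) [(nat_lit 9), (nat_lit 1), (nat_lit 9)] (nat_lit 20) (nat_lit 3)))) (.node (.leaf (.cyc (nat_lit 13) [(nat_lit 1), (nat_lit 13), (nat_lit 1)] (nat_lit 24) (nat_lit 0))) (.leaf (.cyc (nat_lit 1) [(nat_lit 9), (nat_lit 1), (nat_lit 9)] (nat_lit 20) (nat_lit 3))))))) (.node (.node (.node (.node (.leaf (.cyc (nat_lit 6) [(nat_lit 5), (nat_lit 6), (nat_lit 5), (nat_lit 6), (nat_lit 5)] (nat_lit 55) (nat_lit 3))) (.leaf (.cyc (nat_lit 7) [(nat_lit 6), (nat_lit 7), (nat_lit 6), (nat_lit 7), (nat_lit 6)] (nat_lit 63) (nat_lit 5)))) (.node (.leaf (.pin (nat_lit 5) (nat_lit 7) [] [] (nat_lit 7) (nat_lit 46))) (.leaf (.cyc (nat_lit 1) [(nat_lit 9), (nat_lit 1), (nat_lit 9)] (nat_lit 20) (nat_lit 3))))) (.node (.node (.leaf (.cyc (nat_lit 10) [(nat_lit 6), (nat_lit 10), (nat_lit 6)] (nat_lit 66) (nat_lit 2))) (.leaf (.cyc (nat_lit 1) [(nat_lit 9), (nat_lit 1), (nat_lit 9)] (nat_lit 20) (nat_lit 3)))) (.node (.leaf (.pin (nat_lit 2) (nat_lit 5) [] [] (nat_lit 5) (nat_lit 176))) (.leaf (.cyc (nat_lit 1) [(nat_lit 9), (nat_lit 1), (nat_lit 9)] (nat_lit 20) (nat_lit 3)))))) (.node (.node (.node (.leaf (.cyc (nat_lit 7) [(nat_lit 2), (nat_lit 7), (nat_lit 2)] (nat_lit 29) (nat_lit 2))) (.leaf (.cyc (nat_lit 1) [(nat_lit 9), (nat_lit 1), (nat_lit 9)] (nat_lit 20) (nat_lit 3)))) (.node (.leaf (.pin (nat_lit 1) (nat_lit 10) [] [] (nat_lit 10) (nat_lit 112))) (.leaf (.cyc (nat_lit 1) [(nat_lit 9), (nat_lit 1), (nat_lit 9)] (nat_lit 20) (nat_lit 3))))) (.node (.node (.leaf (.cyc (nat_lit 6) [(nat_lit 10), (nat_lit 6), (nat_lit 10)] (nat_lit 66) (nat_lit 3))) (.leaf (.cyc (nat_lit 1) [(nat_lit 9), (nat_lit 1), (nat_lit 9)] (nat_lit 20) (nat_lit 3)))) (.node (.leaf (.cyc (nat_lit 6) [(nat_lit 7), (nat_lit 6), (nat_lit 7), (nat_lit 6), (nat_lit 7)] (nat_lit 63) (nat_lit 4))) (.leaf (.cyc (nat_lit 1) [(nat_lit 9), (nat_lit 1), (nat_lit 9)] (nat_lit 20) (nat_lit 3))))))))) (.node (.node (.node (.node (.node (.node (.leaf (.cyc (nat_lit 7) [(nat_lit 11), (nat_lit 7), (nat_lit 11)] (nat_lit 73) (nat_lit 3))) (.leaf (.cyc (nat_lit 7) [(nat_lit 5), (nat_lit 7), (nat_lit 5)] (nat_lit 56) (nat_lit 0)))) (.node (.leaf (.pin (nat_lit 7) (nat_lit 3) [] [] (nat_lit 3) (nat_lit 6))) (.leaf (.cyc (nat_lit 1) [(nat_lit 9), (nat_lit 1), (nat_lit 9)] (nat_lit 20) (nat_lit 3))))) (.node (.node (.leaf (.cyc (nat_lit 9) [(nat_lit 7), (nat_lit 9), (nat_lit 7)] (nat_lit 71) (nat_lit 2))) (.leaf (.cyc (nat_lit 1) [(nat_lit 9), (nat_lit 1), (nat_lit 9)] (nat_lit 20) (nat_lit 3)))) (.node (.leaf (.pin (nat_lit 3) (nat_lit 31672) [] [] (nat_lit 31672) (nat_lit 136))) (.leaf (.cyc (nat_lit 1) [(nat_lit 9), (nat_lit 1), (nat_lit 9)] (nat_lit 20) (nat_lit 3)))))) (.node (.node (.node (.leaf (.cyc (nat_lit 2) [(nat_lit 12), (nat_lit 2), (nat_lit 12)] (nat_lit 34) (nat_lit 1))) (.leaf (.cyc (nat_lit 1) [(nat_lit 9), (nat_lit 1), (nat_lit 9)] (nat_lit 20) (nat_lit 3)))) (.node (.leaf (.pin (nat_lit 8) (nat_lit 10) [] [] (nat_lit 10) (nat_lit 70))) (.leaf (.cyc (nat_lit 1) [(nat_lit 9), (nat_lit 1), (nat_lit 9)] (nat_lit 20) (nat_lit 3))))) (.node (.node (.leaf (.cyc (nat_lit 5) [(nat_lit 8), (nat_lit 5), (nat_lit 8)] (nat_lit 57) (nat_lit 3))) (.leaf (.cyc (nat_lit 1) [(nat_lit 9), (nat_lit 1), (nat_lit 9)] (nat_lit 20) (nat_lit 3)))) (.node (.leaf (.cyc (nat_lit 4) [(nat_lit 1), (nat_lit 4), (nat_lit 1)] (nat_lit 15) (nat_lit 0))) (.leaf (.cyc (nat_lit 1) [(nat_lit 9), (nat_lit 1), (nat_lit 9)] (nat_lit 20) (nat_lit 3))))))) (.node (.node (.node (.node (.leaf (.cyc (nat_lit 2) [(nat_lit 13), (nat_lit 2), (nat_lit 13)] (nat_lit 35) (nat_lit 1))) (.leaf (.cyc (nat_lit 9) [(nat_lit 0), (nat_lit 9), (nat_lit 0), (nat_lit 9), (nat_lit 0)] (nat_lit 8) (nat_lit 5)))) (.node (.leaf (.pin (nat_lit 6) (nat_lit 6) [] [] (nat_lit 6) (nat_lit 38))) (.leaf (.cyc (nat_lit 1) [(nat_lit 9), (nat_lit 1), (nat_lit 9)] (nat_lit 20) (nat_lit 3))))) (.node (.node (.leaf (.cyc (nat_lit 13) [(nat_lit 6), (nat_lit 13), (nat_lit 6)] (nat_lit 69) (nat_lit 2))) (.leaf (.cyc (nat_lit 1) [(nat_lit 9), (nat_lit 1), (nat_lit 9)] (nat_lit 20) (nat_lit 3)))) (.node (.leaf (.pin (nat_lit 9) (nat_lit 0) [] [] (nat_lit 0) (nat_lit 168))) (.leaf (.cyc (nat_lit 1) [(nat_lit 9), (nat_lit 1), (nat_lit 9)] (nat_lit 20) (nat_lit 3)))))) (.node (.node (.node (.leaf (.cyc (nat_lit 4) [(nat_lit 6), (nat_lit 4), (nat_lit 6)] (nat_lit 47) (nat_lit 3))) (.leaf (.cyc (nat_lit 1) [(nat_lit 9), (nat_lit 1), (nat_lit 9)] (nat_lit 20) (nat_lit 3)))) (.node (.leaf (.pin (nat_lit 0) (nat_lit 2) [] [] (nat_lit 2) (nat_lit 104))) (.leaf (.cyc (nat_lit 1) [(nat_lit 9), (nat_lit 1), (nat_lit 9)] (nat_lit 20) (nat_lit 3))))) (.node (.node (.leaf (.cyc (nat_lit 8) [(nat_lit 3), (nat_lit 8), (nat_lit 3)] (nat_lit 40) (nat_lit 2))) (.leaf (.cyc (nat_lit 1) [(nat_lit 9), (nat_lit 1), (nat_lit 9)] (nat_lit 20) (nat_lit 3)))) (.node (.leaf (.cyc (nat_lit 12) [(nat_lit 4), (nat_lit 12), (nat_lit 4)] (nat_lit 53) (nat_lit 0))) (.leaf (.cyc (nat_lit 1) [(nat_lit 9), (nat_lit 1), (nat_lit 9)] (nat_lit 20) (nat_lit 3)))))))) (.node (.node (.node (.node (.node (.leaf (.cyc (nat_lit 6) [(nat_lit 11), (nat_lit 6), (nat_lit 11)] (nat_lit 67) (nat_lit 3))) (.leaf (.cyc (nat_lit 12) [(nat_lit 7), (nat_lit 12), (nat_lit 7)] (nat_lit 74) (nat_lit 0)))) (.node (.leaf (.pin (nat_lit 11) (nat_lit 4) [] [] (nat_lit 4) (nat_lit 22))) (.leaf (.cyc (nat_lit 1) [(nat_lit 9), (nat_lit 1), (nat_lit 9)] (nat_lit 20) (nat_lit 3))))) (.node (.node (.leaf (.cyc (nat_lit 9) [(nat_lit 4), (nat_lit 9), (nat_lit 4)] (nat_lit 50) (nat_lit 2))) (.leaf (.cyc (nat_lit 1) [(nat_lit 9), (nat_lit 1), (nat_lit 9)] (nat_lit 20) (nat_lit 3)))) (.node (.leaf (.pin (nat_lit 6) (nat_lit 2) [] [] (nat_lit 2) (nat_lit 152))) (.leaf (.cyc (nat_lit 1) [(nat_lit 9), (nat_lit 1), (nat_lit 9)] (nat_lit 20) (nat_lit 3)))))) (.node (.node (.node (.leaf (.cyc (nat_lit 11) [(nat_lit 7), (nat_lit 11), (nat_lit 7)] (nat_lit 73) (nat_lit 2))) (.leaf (.cyc (nat_lit 1) [(nat_lit 9), (nat_lit 1), (nat_lit 9)] (nat_lit 20) (nat_lit 3)))) (.node (.leaf (.pin (nat_lit 12) (nat_lit 1) [] [] (nat_lit 1) (nat_lit 86))) (.leaf (.cyc (nat_lit 1) [(nat_lit 9), (nat_lit 1), (nat_lit 9)] (nat_lit 20) (nat_lit 3))))) (.node (.node (.leaf (.cyc (nat_lit 10) [(nat_lit 0), (nat_lit 10), (nat_lit 0)] (nat_lit 9) (nat_lit 2))) (.leaf (.cyc (nat_lit 1) [(nat_lit 9), (nat_lit 1), (nat_lit 9)] (nat_lit 20) (nat_lit 3)))) (.node (.leaf (.cyc (nat_lit 11) [(nat_lit 2), (nat_lit 11), (nat_lit 2)] (nat_lit 33) (nat_lit 0))) (.leaf (.cyc (nat_lit 1) [(nat_lit 9), (nat_lit 1), (nat_lit 9)] (nat_lit 20) (nat_lit 3))))))) (.node (.node (.node (.node (.leaf (.cyc (nat_lit 6) [(nat_lit 13), (nat_lit 6), (nat_lit 13)] (nat_lit 69) (nat_lit 1))) (.leaf (.cyc (nat_lit 13) [(nat_lit 9), (nat_lit 13), (nat_lit 9)] (nat_lit 84) (nat_lit 0)))) (.node (.leaf (.pin (nat_lit 13) (nat_lit 7) [] [] (nat_lit 7) (nat_lit 54))) (.leaf (.cyc (nat_lit 1) [(nat_lit 9), (nat_lit 1), (nat_lit 9)] (nat_lit 20) (nat_lit 3))))) (.node (.node (.leaf (.cyc (nat_lit 8) [(nat_lit 4), (nat_lit 8), (nat_lit 4)] (nat_lit 49) (nat_lit 2))) (.leaf (.cyc (nat_lit 1) [(nat_lit 9), (nat_lit 1), (nat_lit 9)] (nat_lit 20) (nat_lit 3)))) (.node (.leaf (.pin (nat_lit 10) (nat_lit 1) [] [] (nat_lit 1) (nat_lit 184))) (.leaf (.cyc (nat_lit 1) [(nat_lit 9), (nat_lit 1), (nat_lit 9)] (nat_lit 20) (nat_lit 3)))))) (.node (.node (.node (.leaf (.cyc (nat_lit 0) [(nat_lit 13), (nat_lit 0), (nat_lit 13)] (nat_lit 12) (nat_lit 3))) (.leaf (.cyc (nat_lit 1) [(nat_lit 9), (nat_lit 1), (nat_lit 9)] (nat_lit 20) (nat_lit 3)))) (.node (.leaf (.pin (nat_lit 2) (nat_lit 8) [] [] (nat_lit 8) (nat_lit 120))) (.leaf (.cyc (nat_lit 1) [(nat_lit 9), (nat_lit 1), (nat_lit 9)] (nat_lit 20) (nat_lit 3))))) (.node (.node (.leaf (.cyc (nat_lit 7) [(nat_lit 3), (nat_lit 7), (nat_lit 3), (nat_lit 7), (nat_lit 3)] (nat_lit 39) (nat_lit 1))) (.leaf (.cyc (nat_lit 1) [(nat_lit 9), (nat_lit 1), (nat_lit 9)] (nat_lit 20) (nat_lit 3)))) (.node (.leaf (.cyc (nat_lit 12) [(nat_lit 8), (nat_lit 12), (nat_lit 8)] (nat_lit 79) (nat_lit 0))) (.leaf (.cyc (nat_lit 1) [(nat_lit 9), (nat_lit 1), (nat_lit 9)] (nat_lit 20) (nat_lit 3)))))))))) (.node (.node (.node (.node (.node (.node (.node (.leaf (.cyc (nat_lit 5) [(nat_lit 9), (nat_lit 5), (nat_lit 9)] (nat_lit 58) (nat_lit 3))) (.leaf (.cyc (nat_lit 7) [(nat_lit 4), (nat_lit 7), (nat_lit 4)] (nat_lit 48) (nat_lit 0)))) (.node (.leaf (.pin (nat_lit 3) (nat_lit 3) [] [] (nat_lit 3) (nat_lit 2))) (.leaf (.cyc (nat_lit 1) [(nat_lit 9), (nat_lit 1), (nat_lit 9)] (nat_lit 20) (nat_lit 3))))) (.node (.node (.leaf (.cyc (nat_lit 2) [(nat_lit 5), (nat_lit 2), (nat_lit 5)] (nat_lit 27) (nat_lit 1))) (.leaf (.cyc (nat_lit 1) [(nat_lit 9), (nat_lit 1), (nat_lit 9)] (nat_lit 20) (nat_lit 3)))) (.node (.leaf (.pin (nat_lit 3) (nat_lit 696) [] [] (nat_lit 696) (nat_lit 132))) (.leaf (.cyc (nat_lit 1) [(nat_lit 9), (nat_lit 1), (nat_lit 9)] (nat_lit 20) (nat_lit 3)))))) (.node (.node (.node (.leaf (.cyc (nat_lit 5) [(nat_lit 9), (nat_lit 5), (nat_lit 9)] (nat_lit 58) (nat_lit 1))) (.leaf (.cyc (nat_lit 8) [(nat_lit 9), (nat_lit 8), (nat_lit 9), (nat_lit 8), (nat_lit 9)] (nat_lit 76) (nat_lit 0)))) (.node (.leaf (.pin (nat_lit 10) (nat_lit 9) [] [] (nat_lit 9) (nat_lit 66))) (.leaf (.cyc (nat_lit 1) [(nat_lit 9), (nat_lit 1), (nat_lit 9)] (nat_lit 20) (nat_lit 3))))) (.node (.node (.leaf (.cyc (nat_lit 0) [(nat_lit 4), (nat_lit 0), (nat_lit 4)] (nat_lit 3) (nat_lit 1))) (.leaf (.cyc (nat_lit 1) [(nat_lit 9), (nat_lit 1), (nat_lit 9)] (nat_lit 20) (nat_lit 3)))) (.node (.leaf (.cyc (nat_lit 12) [(nat_lit 0), (nat_lit 12), (nat_lit 0)] (nat_lit 11) (nat_lit 0))) (.leaf (.cyc (nat_lit 1) [(nat_lit 9), (nat_lit 1), (nat_lit 9)] (nat_lit 20) (nat_lit 3))))))) (.node (.node (.node (.node (.leaf (.cyc (nat_lit 3) [(nat_lit 1), (nat_lit 3), (nat_lit 1)] (nat_lit 14) (nat_lit 2))) (.leaf (.cyc (nat_lit 7) [(nat_lit 3), (nat_lit 7), (nat_lit 3), (nat_lit 7), (nat_lit 3)] (nat_lit 39) (nat_lit 5)))) (.node (.leaf (.pin (nat_lit 12) (nat_lit 5) [] [] (nat_lit 5) (nat_lit 34))) (.leaf (.cyc (nat_lit 1) [(nat_lit 9), (nat_lit 1), (nat_lit 9)] (nat_lit 20) (nat_lit 3))))) (.node (.node (.leaf (.cyc (nat_lit 10) [(nat_lit 12), (nat_lit 10), (nat_lit 12)] (nat_lit 86) (nat_lit 3))) (.leaf (.cyc (nat_lit 1) [(nat_lit 9), (nat_lit 1), (nat_lit 9)] (nat_lit 20) (nat_lit 3)))) (.node (.leaf (.pin (nat_lit 8) (nat_lit 3512) [] [] (nat_lit 3512) (nat_lit 164))) (.leaf (.cyc (nat_lit 1) [(nat_lit 9), (nat_lit 1), (nat_lit 9)] (nat_lit 20) (nat_lit 3)))))) (.node (.node (.node (.leaf (.cyc (nat_lit 3) [(nat_lit 0), (nat_lit 3), (nat_lit 0)] (nat_lit 2) (nat_lit 2))) (.leaf (.cyc (nat_lit 1) [(nat_lit 9), (nat_lit 1), (nat_lit 9)] (nat_lit 20) (nat_lit 3)))) (.node (.leaf (.pin (nat_lit 0) (nat_lit 7) [] [] (nat_lit 7) (nat_lit 100))) (.leaf (.cyc (nat_lit 1) [(nat_lit 9), (nat_lit 1), (nat_lit 9)] (nat_lit 20) (nat_lit 3))))) (.node (.node (.leaf (.cyc (nat_lit 0) [(nat_lit 9), (nat_lit 0), (nat_lit 9), (nat_lit 0), (nat_lit 9)] (nat_lit 8) (nat_lit 2))) (.leaf (.cyc (nat_lit 1) [(nat_lit 9), (nat_lit 1), (nat_lit 9)] (nat_lit 20) (nat_lit 3)))) (.node (.leaf (.cyc (nat_lit 13) [(nat_lit 3), (nat_lit 13), (nat_lit 3)] (nat_lit 45) (nat_lit 0))) (.leaf (.cyc (nat_lit 1) [(nat_lit 9), (nat_lit 1), (nat_lit 9)] (nat_lit 20) (nat_lit 3)))))))) (.node (.node (.node (.node (.node (.leaf (.cyc (nat_lit 4) [(nat_lit 5), (nat_lit 4), (nat_lit 5)] (nat_lit 46) (nat_lit 3))) (.leaf (.cyc (nat_lit 1) [(nat_lit 0), (nat_lit 1), (nat_lit 0), (nat_lit 1), (nat_lit 0)] (nat_lit 0) (nat_lit 5)))) (.node (.leaf (.pin (nat_lit 7) (nat_lit 4) [] [] (nat_lit 4) (nat_lit 18))) (.leaf (.cyc (nat_lit 1) [(nat_lit 9), (nat_lit 1), (nat_lit 9)] (nat_lit 20) (nat_lit 3))))) (.node (.node (.leaf (.cyc (nat_lit 10) [(nat_lit 3), (nat_lit 10), (nat_lit 3)] (nat_lit 42) (nat_lit 2))) (.leaf (.cyc (nat_lit 1) [(nat_lit 9), (nat_lit 1), (nat_lit 9)] (nat_lit 20) (nat_lit 3)))) (.node (.leaf (.pin (nat_lit 5) (nat_lit 1) [] [] (nat_lit 1) (nat_lit 148))) (.leaf (.cyc (nat_lit 1) [(nat_lit 9), (nat_lit 1), (nat_lit 9)] (nat_lit 20) (nat_lit 3)))))) (.node (.node (.node (.leaf (.cyc (nat_lit 3) [(nat_lit 5), (nat_lit 3), (nat_lit 5)] (nat_lit 37) (nat_lit 1))) (.leaf (.cyc (nat_lit 1) [(nat_lit 9), (nat_lit 1), (nat_lit 9)] (nat_lit 20) (nat_lit 3)))) (.node (.leaf (.pin (nat_lit 11) (nat_lit 696) [] [] (nat_lit 696) (nat_lit 82))) (.leaf (.cyc (nat_lit 1) [(nat_lit 9), (nat_lit 1), (nat_lit 9)] (nat_lit 20) (nat_lit 3))))) (.node (.node (.leaf (.cyc (nat_lit 13) [(nat_lit 11), (nat_lit 13), (nat_lit 11)] (nat_lit 89) (nat_lit 2))) (.leaf (.cyc (nat_lit 1) [(nat_lit 9), (nat_lit 1), (nat_lit 9)] (nat_lit 20) (nat_lit 3)))) (.node (.leaf (.cyc (nat_lit 6) [(nat_lit 2), (nat_lit 6), (nat_lit 2)] (nat_lit 28) (nat_lit 0))) (.leaf (.cyc (nat_lit 1) [(nat_lit 9), (nat_lit 1), (nat_lit 9)] (nat_lit 20) (nat_lit 3))))))) (.node (.node (.node (.node (.leaf (.cyc (nat_lit 3) [(nat_lit 6), (nat_lit 3), (nat_lit 6)] (nat_lit 38) (nat_lit 3))) (.leaf (.pin (nat_lit 0) (nat_lit 31672) [(nat_lit 7), (nat_lit 3), (nat_lit 4), (nat_lit 11), (nat_lit 6), (nat_lit 5), (nat_lit 1), (nat_lit 2), (nat_lit 3), (nat_lit 7), (nat_lit 6), (nat_lit 1), (nat_lit 5), (nat_lit 4), (nat_lit 3), (nat_lit 2), (nat_lit 1)] [(nat_lit 1), (nat_lit 2), (nat_lit 3), (nat_lit 4), (nat_lit 5), (nat_lit 1), (nat_lit 6), (nat_lit 7), (nat_lit 3), (nat_lit 2), (nat_lit 1), (nat_lit 5), (nat_lit 6), (nat_lit 11), (nat_lit 4), (nat_lit 3), (nat_lit 7)] (nat_lit 31672) (nat_lit 97)))) (.node (.leaf (.pin (nat_lit 9) (nat_lit 7) [] [] (nat_lit 7) (nat_lit 50))) (.leaf (.cyc (nat_lit 1) [(nat_lit 9), (nat_lit 1), (nat_lit 9)] (nat_lit 20) (nat_lit 3))))) (.node (.node (.leaf (.cyc (nat_lit 1) [(nat_lit 8), (nat_lit 1), (nat_lit 8)] (nat_lit 19) (nat_lit 3))) (.leaf (.cyc (nat_lit 1) [(nat_lit 9), (nat_lit 1), (nat_lit 9)] (nat_lit 20) (nat_lit 3)))) (.node (.leaf (.pin (nat_lit 6) (nat_lit 9) [] [] (nat_lit 9) (nat_lit 180))) (.leaf (.cyc (nat_lit 1) [(nat_lit 9), (nat_lit 1), (nat_lit 9)] (nat_lit 20) (nat_lit 3)))))) (.node (.node (.node (.leaf (.cyc (nat_lit 2) [(nat_lit 11), (nat_lit 2), (nat_lit 11)] (nat_lit 33) (nat_lit 1))) (.leaf (.cyc (nat_lit 1) [(nat_lit 9), (nat_lit 1), (nat_lit 9)] (nat_lit 20) (nat_lit 3)))) (.node (.leaf (.pin (nat_lit 1) (nat_lit 3512) [] [] (nat_lit 3512) (nat_lit 116))) (.leaf (.cyc (nat_lit 1) [(nat_lit 9), (nat_lit 1), (nat_lit 9)] (nat_lit 20) (nat_lit 3))))) (.node (.node (.leaf (.cyc (nat_lit 1) [(nat_lit 10), (nat_lit 1), (nat_lit 10)] (nat_lit 21) (nat_lit 3))) (.leaf (.cyc (nat_lit 1) [(nat_lit 9), (nat_lit 1), (nat_lit 9)] (nat_lit 20) (nat_lit 3)))) (.node (.leaf (.cyc (nat_lit 11) [(nat_lit 6), (nat_lit 11), (nat_lit 6)] (nat_lit 67) (nat_lit 0))) (.leaf (.cyc (nat_lit 1) [(nat_lit 9), (nat_lit 1), (nat_lit 9)] (nat_lit 20) (nat_lit 3))))))))) (.node (.node (.node (.node (.node (.node (.leaf (.cyc (nat_lit 8) [(nat_lit 12), (nat_lit 8), (nat_lit 12)] (nat_lit 79) (nat_lit 3))) (.leaf (.cyc (nat_lit 4) [(nat_lit 2), (nat_lit 4), (nat_lit 2)] (nat_lit 26) (nat_lit 0)))) (.node (.leaf (.pin (nat_lit 11) (nat_lit 3) [] [] (nat_lit 3) (nat_lit 10))) (.leaf (.cyc (nat_lit 1) [(nat_lit 9), (nat_lit 1), (nat_lit 9)] (nat_lit 20) (nat_lit 3))))) (.node (.node (.leaf (.cyc (nat_lit 0) [(nat_lit 4), (nat_lit 0), (nat_lit 4)] (nat_lit 3) (nat_lit 3))) (.leaf (.cyc (nat_lit 1) [(nat_lit 9), (nat_lit 1), (nat_lit 9)] (nat_lit 20) (nat_lit 3)))) (.node (.leaf (.pin (nat_lit 4) (nat_lit 2) [] [] (nat_lit 2) (nat_lit 140))) (.leaf (.cyc (nat_lit 1) [(nat_lit 9), (nat_lit 1), (nat_lit 9)] (nat_lit 20) (nat_lit 3)))))) (.node (.node (.node (.leaf (.cyc (nat_lit 6) [(nat_lit 12), (nat_lit 6), (nat_lit 12)] (nat_lit 68) (nat_lit 3))) (.leaf (.cyc (nat_lit 1) [(nat_lit 9), (nat_lit 1), (nat_lit 9)] (nat_lit 20) (nat_lit 3)))) (.node (.leaf (.pin (nat_lit 12) (nat_lit 10) [] [] (nat_lit 10) (nat_lit 74))) (.leaf (.cyc (nat_lit 1) [(nat_lit 9), (nat_lit 1), (nat_lit 9)] (nat_lit 20) (nat_lit 3))))) (.node (.node (.leaf (.cyc (nat_lit 0) [(nat_lit 1), (nat_lit 0), (nat_lit 1), (nat_lit 0), (nat_lit 1)] (nat_lit 0) (nat_lit 2))) (.leaf (.cyc (nat_lit 1) [(nat_lit 9), (nat_lit 1), (nat_lit 9)] (nat_lit 20) (nat_lit 3)))) (.node (.leaf (.cyc (nat_lit 9) [(nat_lit 1), (nat_lit 9), (nat_lit 1)] (nat_lit 20) (nat_lit 0))) (.leaf (.cyc (nat_lit 1) [(nat_lit 9), (nat_lit 1), (nat_lit 9)] (nat_lit 20) (nat_lit 3))))))) (.node (.node (.node (.node (.leaf (.cyc (nat_lit 1) [(nat_lit 12), (nat_lit 1), (nat_lit 12)] (nat_lit 23) (nat_lit 1))) (.leaf (.cyc (nat_lit 13) [(nat_lit 7), (nat_lit 13), (nat_lit 7), (nat_lit 13), (nat_lit 7)] (nat_lit 75) (nat_lit 5)))) (.node (.leaf (.pin (nat_lit 10) (nat_lit 6) [] [] (nat_lit 6) (nat_lit 42))) (.leaf (.cyc (nat_lit 1) [(nat_lit 9), (nat_lit 1), (nat_lit 9)] (nat_lit 20) (nat_lit 3))))) (.node (.node (.leaf (.cyc (nat_lit 8) [(nat_lit 13), (nat_lit 8), (nat_lit 13), (nat_lit 8), (nat_lit 13)] (nat_lit 80) (nat_lit 2))) (.leaf (.cyc (nat_lit 1) [(nat_lit 9), (nat_lit 1), (nat_lit 9)] (nat_lit 20) (nat_lit 3)))) (.node (.leaf (.pin (nat_lit 11) (nat_lit 0) [] [] (nat_lit 0) (nat_lit 172))) (.leaf (.cyc (nat_lit 1) [(nat_lit 9), (nat_lit 1), (nat_lit 9)] (nat_lit 20) (nat_lit 3)))))) (.node (.node (.node (.leaf (.cyc (nat_lit 2) [(nat_lit 11), (nat_lit 2), (nat_lit 11)] (nat_lit 33) (nat_lit 3))) (.leaf (.cyc (nat_lit 1) [(nat_lit 9), (nat_lit 1), (nat_lit 9)] (nat_lit 20) (nat_lit 3)))) (.node (.leaf (.pin (nat_lit 0) (nat_lit 31672) [] [] (nat_lit 31672) (nat_lit 108))) (.leaf (.cyc (nat_lit 1) [(nat_lit 9), (nat_lit 1), (nat_lit 9)] (nat_lit 20) (nat_lit 3))))) (.node (.node (.leaf (.cyc (nat_lit 2) [(nat_lit 10), (nat_lit 2), (nat_lit 10)] (nat_lit 32) (nat_lit 3))) (.leaf (.cyc (nat_lit 1) [(nat_lit 9), (nat_lit 1), (nat_lit 9)] (nat_lit 20) (nat_lit 3)))) (.node (.leaf (.cyc (nat_lit 10) [(nat_lit 5), (nat_lit 10), (nat_lit 5)] (nat_lit 59) (nat_lit 0))) (.leaf (.cyc (nat_lit 1) [(nat_lit 9), (nat_lit 1), (nat_lit 9)] (nat_lit 20) (nat_lit 3)))))))) (.node (.node (.node (.node (.node (.leaf (.cyc (nat_lit 5) [(nat_lit 13), (nat_lit 5), (nat_lit 13)] (nat_lit 62) (nat_lit 3))) (.leaf (.cyc (nat_lit 6) [(nat_lit 5), (nat_lit 6), (nat_lit 5), (nat_lit 6), (nat_lit 5)] (nat_lit 55) (nat_lit 5)))) (.node (.leaf (.pin (nat_lit 4) (nat_lit 5) [] [] (nat_lit 5) (nat_lit 26))) (.leaf (.cyc (nat_lit 1) [(nat_lit 9), (nat_lit 1), (nat_lit 9)] (nat_lit 20) (nat_lit 3))))) (.node (.node (.leaf (.cyc (nat_lit 8) [(nat_lit 9), (nat_lit 8), (nat_lit 9), (nat_lit 8), (nat_lit 9)] (nat_lit 76) (nat_lit 2))) (.leaf (.cyc (nat_lit 1) [(nat_lit 9), (nat_lit 1), (nat_lit 9)] (nat_lit 20) (nat_lit 3)))) (.node (.leaf (.pin (nat_lit 6) (nat_lit 0) [] [] (nat_lit 0) (nat_lit 156))) (.leaf (.cyc (nat_lit 1) [(nat_lit 9), (nat_lit 1), (nat_lit 9)] (nat_lit 20) (nat_lit 3)))))) (.node (.node (.node (.leaf (.cyc (nat_lit 7) [(nat_lit 9), (nat_lit 7), (nat_lit 9)] (nat_lit 71) (nat_lit 1))) (.leaf (.cyc (nat_lit 1) [(nat_lit 9), (nat_lit 1), (nat_lit 9)] (nat_lit 20) (nat_lit 3)))) (.node (.leaf (.pin (nat_lit 12) (nat_lit 0) [(nat_lit 13)] [] (nat_lit 31672) (nat_lit 90))) (.leaf (.cyc (nat_lit 1) [(nat_lit 9), (nat_lit 1), (nat_lit 9)] (nat_lit 20) (nat_lit 3))))) (.node (.node (.leaf (.cyc (nat_lit 3) [(nat_lit 10), (nat_lit 3), (nat_lit 10)] (nat_lit 42) (nat_lit 3))) (.leaf (.cyc (nat_lit 1) [(nat_lit 9), (nat_lit 1), (nat_lit 9)] (nat_lit 20) (nat_lit 3)))) (.node (.leaf (.cyc (nat_lit 3) [(nat_lit 7), (nat_lit 3), (nat_lit 7), (nat_lit 3), (nat_lit 7)] (nat_lit 39) (nat_lit 4))) (.leaf (.cyc (nat_lit 1) [(nat_lit 9), (nat_lit 1), (nat_lit 9)] (nat_lit 20) (nat_lit 3))))))) (.node (.node (.node (.node (.leaf (.cyc (nat_lit 7) [(nat_lit 8), (nat_lit 7), (nat_lit 8)] (nat_lit 70) (nat_lit 3))) (.leaf (.cyc (nat_lit 7) [(nat_lit 13), (nat_lit 7), (nat_lit 13), (nat_lit 7), (nat_lit 13)] (nat_lit 75) (nat_lit 0)))) (.node (.leaf (.pin (nat_lit 9) (nat_lit 8) [] [] (nat_lit 8) (nat_lit 58))) (.leaf (.cyc (nat_lit 1) [(nat_lit 9), (nat_lit 1), (nat_lit 9)] (nat_lit 20) (nat_lit 3))))) (.node (.node (.leaf (.cyc (nat_lit 0) [(nat_lit 5), (nat_lit 0), (nat_lit 5)] (nat_lit 4) (nat_lit 1))) (.leaf (.cyc (nat_lit 1) [(nat_lit 9), (nat_lit 1), (nat_lit 9)] (nat_lit 20) (nat_lit 3)))) (.node (.leaf (.cyc (nat_lit 3) [(nat_lit 0), (nat_lit 3), (nat_lit 0)] (nat_lit 2) (nat_lit 0))) (.leaf (.cyc (nat_lit 1) [(nat_lit 9), (nat_lit 1), (nat_lit 9)] (nat_lit 20) (nat_lit 3)))))) (.node (.node (.node (.leaf (.cyc (nat_lit 10) [(nat_lit 9), (nat_lit 10), (nat_lit 9)] (nat_lit 81) (nat_lit 2))) (.leaf (.cyc (nat_lit 1) [(nat_lit 9), (nat_lit 1), (nat_lit 9)] (nat_lit 20) (nat_lit 3)))) (.node (.leaf (.pin (nat_lit 2) (nat_lit 696) [] [] (nat_lit 696) (nat_lit 124))) (.leaf (.cyc (nat_lit 1) [(nat_lit 9), (nat_lit 1), (nat_lit 9)] (nat_lit 20) (nat_lit 3))))) (.node (.node (.leaf (.cyc (nat_lit 13) [(nat_lit 8), (nat_lit 13), (nat_lit 8), (nat_lit 13), (nat_lit 8)] (nat_lit 80) (nat_lit 1))) (.leaf (.cyc (nat_lit 1) [(nat_lit 9), (nat_lit 1), (nat_lit 9)] (nat_lit 20) (nat_lit 3)))) (.node (.leaf (.cyc (nat_lit 12) [(nat_lit 10), (nat_lit 12), (nat_lit 10)] (nat_lit 86) (nat_lit 0))) (.leaf (.cyc (nat_lit 1) [(nat_lit 9), (nat_lit 1), (nat_lit 9)] (nat_lit 20) (nat_lit 3))))))))))) (.node (.node (.node (.node (.node (.node (.node (.node (.leaf (.cyc (nat_lit 9) [(nat_lit 13), (nat_lit 9), (nat_lit 13)] (nat_lit 84) (nat_lit 3))) (.leaf (.cyc (nat_lit 12) [(nat_lit 13), (nat_lit 12), (nat_lit 13), (nat_lit 12), (nat_lit 13)] (nat_lit 90) (nat_lit 4)))) (.node (.leaf (.pin (nat_lit 0) (nat_lit 3) [(nat_lit 1)] [] (nat_lit 4) (nat_lit 0))) (.leaf (.cyc (nat_lit 1) [(nat_lit 9), (nat_lit 1), (nat_lit 9)] (nat_lit 20) (nat_lit 3))))) (.node (.node (.leaf (.cyc (nat_lit 1) [(nat_lit 10), (nat_lit 1), (nat_lit 10)] (nat_lit 21) (nat_lit 1))) (.leaf (.cyc (nat_lit 1) [(nat_lit 9), (nat_lit 1), (nat_lit 9)] (nat_lit 20) (nat_lit 3)))) (.node (.leaf (.pin (nat_lit 3) (nat_lit 9) [] [] (nat_lit 9) (nat_lit 130))) (.leaf (.cyc (nat_lit 1) [(nat_lit 9), (nat_lit 1), (nat_lit 9)] (nat_lit 20) (nat_lit 3)))))) (.node (.node (.node (.leaf (.cyc (nat_lit 4) [(nat_lit 1), (nat_lit 4), (nat_lit 1)] (nat_lit 15) (nat_lit 2))) (.leaf (.cyc (nat_lit 8) [(nat_lit 12), (nat_lit 13), (nat_lit 7), (nat_lit 6), (nat_lit 5), (nat_lit 6), (nat_lit 7), (nat_lit 13), (nat_lit 12), (nat_lit 8), (nat_lit 13), (nat_lit 7), (nat_lit 6), (nat_lit 1), (nat_lit 5), (nat_lit 2), (nat_lit 1), (nat_lit 0), (nat_lit 1), (nat_lit 2), (nat_lit 5), (nat_lit 1), (nat_lit 6), (nat_lit 7), (nat_lit 13)] (nat_lit 96) (nat_lit 20)))) (.node (.leaf (.pin (nat_lit 8) (nat_lit 9) [] [] (nat_lit 9) (nat_lit 64))) (.leaf (.cyc (nat_lit 1) [(nat_lit 9), (nat_lit 1), (nat_lit 9)] (nat_lit 20) (nat_lit 3))))) (.node (.node (.leaf (.cyc (nat_lit 13) [(nat_lit 2), (nat_lit 13), (nat_lit 2)] (nat_lit 35) (nat_lit 2))) (.leaf (.cyc (nat_lit 1) [(nat_lit 9), (nat_lit 1), (nat_lit 9)] (nat_lit 20) (nat_lit 3)))) (.node (.leaf (.cyc (nat_lit 10) [(nat_lit 0), (nat_lit 10), (nat_lit 0)] (nat_lit 9) (nat_lit 0))) (.leaf (.cyc (nat_lit 1) [(nat_lit 9), (nat_lit 1), (nat_lit 9)] (nat_lit 20) (nat_lit 3))))))) (.node (.node (.node (.node (.leaf (.cyc (nat_lit 4) [(nat_lit 9), (nat_lit 4), (nat_lit 9)] (nat_lit 50) (nat_lit 3))) (.leaf (.cyc (nat_lit 11) [(nat_lit 9), (nat_lit 11), (nat_lit 9)] (nat_lit 82) (nat_lit 0)))) (.node (.leaf (.pin (nat_lit 10) (nat_lit 5) [] [] (nat_lit 5) (nat_lit 32))) (.leaf (.cyc (nat_lit 1) [(nat_lit 9), (nat_lit 1), (nat_lit 9)] (nat_lit 20) (nat_lit 3))))) (.node (.node (.leaf (.cyc (nat_lit 0) [(nat_lit 5), (nat_lit 0), (nat_lit 5)] (nat_lit 4) (nat_lit 3))) (.leaf (.cyc (nat_lit 1) [(nat_lit 9), (nat_lit 1), (nat_lit 9)] (nat_lit 20) (nat_lit 3)))) (.node (.leaf (.pin (nat_lit 7) (nat_lit 0) [] [] (nat_lit 0) (nat_lit 162))) (.leaf (.cyc (nat_lit 1) [(nat_lit 9), (nat_lit 1), (nat_lit 9)] (nat_lit 20) (nat_lit 3)))))) (.node (.node (.node (.leaf (.cyc (nat_lit 4) [(nat_lit 2), (nat_lit 4), (nat_lit 2)] (nat_lit 26) (nat_lit 2))) (.leaf (.cyc (nat_lit 1) [(nat_lit 9), (nat_lit 1), (nat_lit 9)] (nat_lit 20) (nat_lit 3)))) (.node (.leaf (.pin (nat_lit 0) (nat_lit 5) [] [] (nat_lit 5) (nat_lit 98))) (.leaf (.cyc (nat_lit 1) [(nat_lit 9), (nat_lit 1), (nat_lit 9)] (nat_lit 20) (nat_lit 3))))) (.node (.node (.leaf (.cyc (nat_lit 9) [(nat_lit 8), (nat_lit 9), (nat_lit 8), (nat_lit 9), (nat_lit 8)] (nat_lit 76) (nat_lit 1))) (.leaf (.cyc (nat_lit 1) [(nat_lit 9), (nat_lit 1), (nat_lit 9)] (nat_lit 20) (nat_lit 3)))) (.node (.leaf (.cyc (nat_lit 10) [(nat_lit 3), (nat_lit 10), (nat_lit 3)] (nat_lit 42) (nat_lit 0))) (.leaf (.cyc (nat_lit 1) [(nat_lit 9), (nat_lit 1), (nat_lit 9)] (nat_lit 20) (nat_lit 3)))))))) (.node (.node (.node (.node (.node (.leaf (.cyc (nat_lit 5) [(nat_lit 8), (nat_lit 5), (nat_lit 8)] (nat_lit 57) (nat_lit 1))) (.leaf (.cyc (nat_lit 11) [(nat_lit 7), (nat_lit 11), (nat_lit 7)] (nat_lit 73) (nat_lit 0)))) (.node (.leaf (.pin (nat_lit 1) (nat_lit 4) [(nat_lit 5)] [] (nat_lit 8) (nat_lit 16))) (.leaf (.cyc (nat_lit 1) [(nat_lit 9), (nat_lit 1), (nat_lit 9)] (nat_lit 20) (nat_lit 3))))) (.node (.node (.leaf (.cyc (nat_lit 0) [(nat_lit 12), (nat_lit 0), (nat_lit 12)] (nat_lit 11) (nat_lit 1))) (.leaf (.cyc (nat_lit 1) [(nat_lit 9), (nat_lit 1), (nat_lit 9)] (nat_lit 20) (nat_lit 3)))) (.node (.leaf (.pin (nat_lit 5) (nat_lit 2) [] [] (nat_lit 2) (nat_lit 146))) (.leaf (.cyc (nat_lit 1) [(nat_lit 9), (nat_lit 1), (nat_lit 9)] (nat_lit 20) (nat_lit 3)))))) (.node (.node (.node (.leaf (.cyc (nat_lit 4) [(nat_lit 13), (nat_lit 4), (nat_lit 13)] (nat_lit 54) (nat_lit 3))) (.leaf (.cyc (nat_lit 1) [(nat_lit 9), (nat_lit 1), (nat_lit 9)] (nat_lit 20) (nat_lit 3)))) (.node (.leaf (.pin (nat_lit 8) (nat_lit 2) [(nat_lit 13)] [] (nat_lit 31672) (nat_lit 80))) (.leaf (.cyc (nat_lit 1) [(nat_lit 9), (nat_lit 1), (nat_lit 9)] (nat_lit 20) (nat_lit 3))))) (.node (.node (.leaf (.cyc (nat_lit 10) [(nat_lit 11), (nat_lit 10), (nat_lit 11), (nat_lit 10), (nat_lit 11)] (nat_lit 85) (nat_lit 2))) (.leaf (.cyc (nat_lit 1) [(nat_lit 9), (nat_lit 1), (nat_lit 9)] (nat_lit 20) (nat_lit 3)))) (.node (.leaf (.cyc (nat_lit 5) [(nat_lit 6), (nat_lit 5), (nat_lit 6), (nat_lit 5), (nat_lit 6)] (nat_lit 55) (nat_lit 4))) (.leaf (.cyc (nat_lit 1) [(nat_lit 9), (nat_lit 1), (nat_lit 9)] (nat_lit 20) (nat_lit 3))))))) (.node (.node (.node (.node (.leaf (.cyc (nat_lit 3) [(nat_lit 2), (nat_lit 3), (nat_lit 2), (nat_lit 3), (nat_lit 2)] (nat_lit 25) (nat_lit 3))) (.leaf (.cyc (nat_lit 12) [(nat_lit 13), (nat_lit 12), (nat_lit 13), (nat_lit 12), (nat_lit 13)] (nat_lit 90) (nat_lit 0)))) (.node (.leaf (.pin (nat_lit 7) (nat_lit 7) [] [] (nat_lit 7) (nat_lit 48))) (.leaf (.cyc (nat_lit 1) [(nat_lit 9), (nat_lit 1), (nat_lit 9)] (nat_lit 20) (nat_lit 3))))) (.node (.node (.leaf (.cyc (nat_lit 10) [(nat_lit 4), (nat_lit 10), (nat_lit 4)] (nat_lit 51) (nat_lit 2))) (.leaf (.cyc (nat_lit 1) [(nat_lit 9), (nat_lit 1), (nat_lit 9)] (nat_lit 20) (nat_lit 3)))) (.node (.leaf (.pin (nat_lit 4) (nat_lit 7) [] [] (nat_lit 7) (nat_lit 178))) (.leaf (.cyc (nat_lit 1) [(nat_lit 9), (nat_lit 1), (nat_lit 9)] (nat_lit 20) (nat_lit 3)))))) (.node (.node (.node (.leaf (.cyc (nat_lit 1) [(nat_lit 4), (nat_lit 1), (nat_lit 4)] (nat_lit 15) (nat_lit 3))) (.leaf (.cyc (nat_lit 1) [(nat_lit 9), (nat_lit 1), (nat_lit 9)] (nat_lit 20) (nat_lit 3)))) (.node (.leaf (.pin (nat_lit 1) (nat_lit 696) [] [] (nat_lit 696) (nat_lit 114))) (.leaf (.cyc (nat_lit 1) [(nat_lit 9), (nat_lit 1), (nat_lit 9)] (nat_lit 20) (nat_lit 3))))) (.node (.node (.leaf (.cyc (nat_lit 12) [(nat_lit 7), (nat_lit 12), (nat_lit 7)] (nat_lit 74) (nat_lit 2))) (.leaf (.cyc (nat_lit 1) [(nat_lit 9), (nat_lit 1), (nat_lit 9)] (nat_lit 20) (nat_lit 3)))) (.node (.leaf (.cyc (nat_lit 9) [(nat_lit 6), (nat_lit 9), (nat_lit 6)] (nat_lit 65) (nat_lit 0))) (.leaf (.cyc (nat_lit 1) [(nat_lit 9), (nat_lit 1), (nat_lit 9)] (nat_lit 20) (nat_lit 3))))))))) (.node (.node (.node (.node (.node (.node (.leaf (.cyc (nat_lit 6) [(nat_lit 13), (nat_lit 6), (nat_lit 13)] (nat_lit 69) (nat_lit 3))) (.leaf (.cyc (nat_lit 3) [(nat_lit 1), (nat_lit 3), (nat_lit 1)] (nat_lit 14) (nat_lit 0)))) (.node (.leaf (.pin (nat_lit 0) (nat_lit 3) [(nat_lit 9)] [] (nat_lit 696) (nat_lit 8))) (.leaf (.cyc (nat_lit 1) [(nat_lit 9), (nat_lit 1), (nat_lit 9)] (nat_lit 20) (nat_lit 3))))) (.node (.node (.leaf (.cyc (nat_lit 11) [(nat_lit 12), (nat_lit 11), (nat_lit 12)] (nat_lit 88) (nat_lit 3))) (.leaf (.cyc (nat_lit 1) [(nat_lit 9), (nat_lit 1), (nat_lit 9)] (nat_lit 20) (nat_lit 3)))) (.node (.leaf (.pin (nat_lit 4) (nat_lit 9) [] [] (nat_lit 9) (nat_lit 138))) (.leaf (.cyc (nat_lit 1) [(nat_lit 9), (nat_lit 1), (nat_lit 9)] (nat_lit 20) (nat_lit 3)))))) (.node (.node (.node (.leaf (.cyc (nat_lit 3) [(nat_lit 12), (nat_lit 3), (nat_lit 12)] (nat_lit 44) (nat_lit 3))) (.leaf (.cyc (nat_lit 1) [(nat_lit 9), (nat_lit 1), (nat_lit 9)] (nat_lit 20) (nat_lit 3)))) (.node (.leaf (.pin (nat_lit 10) (nat_lit 10) [] [] (nat_lit 10) (nat_lit 72))) (.leaf (.cyc (nat_lit 1) [(nat_lit 9), (nat_lit 1), (nat_lit 9)] (nat_lit 20) (nat_lit 3))))) (.node (.node (.leaf (.cyc (nat_lit 9) [(nat_lit 5), (nat_lit 9), (nat_lit 5)] (nat_lit 58) (nat_lit 2))) (.leaf (.cyc (nat_lit 1) [(nat_lit 9), (nat_lit 1), (nat_lit 9)] (nat_lit 20) (nat_lit 3)))) (.node (.leaf (.cyc (nat_lit 7) [(nat_lit 1), (nat_lit 7), (nat_lit 1)] (nat_lit 18) (nat_lit 0))) (.leaf (.cyc (nat_lit 1) [(nat_lit 9), (nat_lit 1), (nat_lit 9)] (nat_lit 20) (nat_lit 3))))))) (.node (.node (.node (.node (.leaf (.cyc (nat_lit 1) [(nat_lit 7), (nat_lit 1), (nat_lit 7)] (nat_lit 18) (nat_lit 1))) (.leaf (.cyc (nat_lit 13) [(nat_lit 12), (nat_lit 13), (nat_lit 12), (nat_lit 13), (nat_lit 12)] (nat_lit 90) (nat_lit 5)))) (.node (.leaf (.pin (nat_lit 8) (nat_lit 6) [] [] (nat_lit 6) (nat_lit 40))) (.leaf (.cyc (nat_lit 1) [(nat_lit 9), (nat_lit 1), (nat_lit 9)] (nat_lit 20) (nat_lit 3))))) (.node (.node (.leaf (.cyc (nat_lit 0) [(nat_lit 11), (nat_lit 0), (nat_lit 11)] (nat_lit 10) (nat_lit 1))) (.leaf (.cyc (nat_lit 1) [(nat_lit 9), (nat_lit 1), (nat_lit 9)] (nat_lit 20) (nat_lit 3)))) (.node (.leaf (.pin (nat_lit 10) (nat_lit 0) [] [] (nat_lit 0) (nat_lit 170))) (.leaf (.cyc (nat_lit 1) [(nat_lit 9), (nat_lit 1), (nat_lit 9)] (nat_lit 20) (nat_lit 3)))))) (.node (.node (.node (.leaf (.cyc (nat_lit 5) [(nat_lit 12), (nat_lit 5), (nat_lit 12)] (nat_lit 61) (nat_lit 3))) (.leaf (.cyc (nat_lit 1) [(nat_lit 9), (nat_lit 1), (nat_lit 9)] (nat_lit 20) (nat_lit 3)))) (.node (.leaf (.pin (nat_lit 0) (nat_lit 3512) [] [] (nat_lit 3512) (nat_lit 106))) (.leaf (.cyc (nat_lit 1) [(nat_lit 9), (nat_lit 1), (nat_lit 9)] (nat_lit 20) (nat_lit 3))))) (.node (.node (.leaf (.cyc (nat_lit 8) [(nat_lit 5), (nat_lit 8), (nat_lit 5)] (nat_lit 57) (nat_lit 2))) (.leaf (.cyc (nat_lit 1) [(nat_lit 9), (nat_lit 1), (nat_lit 9)] (nat_lit 20) (nat_lit 3)))) (.node (.leaf (.cyc (nat_lit 8) [(nat_lit 5), (nat_lit 8), (nat_lit 5)] (nat_lit 57) (nat_lit 0))) (.leaf (.cyc (nat_lit 1) [(nat_lit 9), (nat_lit 1), (nat_lit 9)] (nat_lit 20) (nat_lit 3)))))))) (.node (.node (.node (.node (.node (.leaf (.cyc (nat_lit 7) [(nat_lit 10), (nat_lit 7), (nat_lit 10)] (nat_lit 72) (nat_lit 1))) (.leaf (.cyc (nat_lit 1) [(nat_lit 0), (nat_lit 1), (nat_lit 0), (nat_lit 1), (nat_lit 0)] (nat_lit 0) (nat_lit 1)))) (.node (.leaf (.pin (nat_lit 13) (nat_lit 4) [] [] (nat_lit 4) (nat_lit 24))) (.leaf (.cyc (nat_lit 1) [(nat_lit 9), (nat_lit 1), (nat_lit 9)] (nat_lit 20) (nat_lit 3))))) (.node (.node (.leaf (.cyc (nat_lit 2) [(nat_lit 1), (nat_lit 2), (nat_lit 1), (nat_lit 2), (nat_lit 1)] (nat_lit 13) (nat_lit 3))) (.leaf (.cyc (nat_lit 1) [(nat_lit 9), (nat_lit 1), (nat_lit 9)] (nat_lit 20) (nat_lit 3)))) (.node (.leaf (.pin (nat_lit 6) (nat_lit 1) [] [] (nat_lit 1) (nat_lit 154))) (.leaf (.cyc (nat_lit 1) [(nat_lit 9), (nat_lit 1), (nat_lit 9)] (nat_lit 20) (nat_lit 3)))))) (.node (.node (.node (.leaf (.cyc (nat_lit 10) [(nat_lit 12), (nat_lit 10), (nat_lit 12)] (nat_lit 86) (nat_lit 1))) (.leaf (.cyc (nat_lit 1) [(nat_lit 9), (nat_lit 1), (nat_lit 9)] (nat_lit 20) (nat_lit 3)))) (.node (.leaf (.pin (nat_lit 12) (nat_lit 3512) [] [] (nat_lit 3512) (nat_lit 88))) (.leaf (.cyc (nat_lit 1) [(nat_lit 9), (nat_lit 1), (nat_lit 9)] (nat_lit 20) (nat_lit 3))))) (.node (.node (.leaf (.cyc (nat_lit 9) [(nat_lit 8), (nat_lit 9), (nat_lit 8), (nat_lit 9), (nat_lit 8)] (nat_lit 76) (nat_lit 3))) (.leaf (.cyc (nat_lit 1) [(nat_lit 9), (nat_lit 1), (nat_lit 9)] (nat_lit 20) (nat_lit 3)))) (.node (.leaf (.cyc (nat_lit 13) [(nat_lit 2), (nat_lit 13), (nat_lit 2)] (nat_lit 35) (nat_lit 0))) (.leaf (.cyc (nat_lit 1) [(nat_lit 9), (nat_lit 1), (nat_lit 9)] (nat_lit 20) (nat_lit 3))))))) (.node (.node (.node (.node (.leaf (.cyc (nat_lit 11) [(nat_lit 12), (nat_lit 11), (nat_lit 12)] (nat_lit 88) (nat_lit 1))) (.leaf (.cyc (nat_lit 3) [(nat_lit 4), (nat_lit 3), (nat_lit 4), (nat_lit 3), (nat_lit 4)] (nat_lit 36) (nat_lit 0)))) (.node (.leaf (.pin (nat_lit 7) (nat_lit 8) [] [] (nat_lit 8) (nat_lit 56))) (.leaf (.cyc (nat_lit 1) [(nat_lit 9), (nat_lit 1), (nat_lit 9)] (nat_lit 20) (nat_lit 3))))) (.node (.node (.leaf (.cyc (nat_lit 0) [(nat_lit 8), (nat_lit 0), (nat_lit 8)] (nat_lit 7) (nat_lit 3))) (.leaf (.cyc (nat_lit 1) [(nat_lit 9), (nat_lit 1), (nat_lit 9)] (nat_lit 20) (nat_lit 3)))) (.node (.leaf (.pin (nat_lit 12) (nat_lit 0) [] [] (nat_lit 0) (nat_lit 186))) (.leaf (.cyc (nat_lit 1) [(nat_lit 9), (nat_lit 1), (nat_lit 9)] (nat_lit 20) (nat_lit 3)))))) (.node (.node (.node (.leaf (.cyc (nat_lit 10) [(nat_lit 7), (nat_lit 10), (nat_lit 7)] (nat_lit 72) (nat_lit 2))) (.leaf (.cyc (nat_lit 1) [(nat_lit 9), (nat_lit 1), (nat_lit 9)] (nat_lit 20) (nat_lit 3)))) (.node (.leaf (.pin (nat_lit 2) (nat_lit 10) [] [] (nat_lit 10) (nat_lit 122))) (.leaf (.cyc (nat_lit 1) [(nat_lit 9), (nat_lit 1), (nat_lit 9)] (nat_lit 20) (nat_lit 3))))) (.node (.node (.leaf (.cyc (nat_lit 0) [(nat_lit 10), (nat_lit 0), (nat_lit 10)] (nat_lit 9) (nat_lit 3))) (.leaf (.cyc (nat_lit 1) [(nat_lit 9), (nat_lit 1), (nat_lit 9)] (nat_lit 20) (nat_lit 3)))) (.node (.leaf (.cyc (nat_lit 8) [(nat_lit 10), (nat_lit 8), (nat_lit 10)] (nat_lit 77) (nat_lit 3))) (.leaf (.cyc (nat_lit 1) [(nat_lit 9), (nat_lit 1), (nat_lit 9)] (nat_lit 20) (nat_lit 3)))))))))) (.node (.node (.node (.node (.node (.node (.node (.leaf (.cyc (nat_lit 3) [(nat_lit 5), (nat_lit 3), (nat_lit 5)] (nat_lit 37) (nat_lit 3))) (.leaf (.cyc (nat_lit 5) [(nat_lit 4), (nat_lit 5), (nat_lit 4)] (nat_lit 46) (nat_lit 0)))) (.node (.leaf (.pin (nat_lit 5) (nat_lit 3) [] [] (nat_lit 3) (nat_lit 4))) (.leaf (.cyc (nat_lit 1) [(nat_lit 9), (nat_lit 1), (nat_lit 9)] (nat_lit 20) (nat_lit 3))))) (.node (.node (.leaf (.cyc (nat_lit 5) [(nat_lit 1), (nat_lit 5), (nat_lit 1), (nat_lit 5), (nat_lit 1)] (nat_lit 16) (nat_lit 3))) (.leaf (.cyc (nat_lit 1) [(nat_lit 9), (nat_lit 1), (nat_lit 9)] (nat_lit 20) (nat_lit 3)))) (.node (.leaf (.pin (nat_lit 3) (nat_lit 3512) [] [] (nat_lit 3512) (nat_lit 134))) (.leaf (.cyc (nat_lit 1) [(nat_lit 9), (nat_lit 1), (nat_lit 9)] (nat_lit 20) (nat_lit 3)))))) (.node (.node (.node (.leaf (.cyc (nat_lit 1) [(nat_lit 9), (nat_lit 1), (nat_lit 9)] (nat_lit 20) (nat_lit 1))) (.leaf (.cyc (nat_lit 0) [(nat_lit 1), (nat_lit 2), (nat_lit 5), (nat_lit 1), (nat_lit 6), (nat_lit 7), (nat_lit 13), (nat_lit 8), (nat_lit 12), (nat_lit 13), (nat_lit 7), (nat_lit 6), (nat_lit 5), (nat_lit 6), (nat_lit 7), (nat_lit 13), (nat_lit 12), (nat_lit 8), (nat_lit 13), (nat_lit 7), (nat_lit 6), (nat_lit 1), (nat_lit 5), (nat_lit 2), (nat_lit 1)] (nat_lit 96) (nat_lit 12)))) (.node (.leaf (.pin (nat_lit 12) (nat_lit 9) [] [] (nat_lit 9) (nat_lit 68))) (.leaf (.cyc (nat_lit 1) [(nat_lit 9), (nat_lit 1), (nat_lit 9)] (nat_lit 20) (nat_lit 3))))) (.node (.node (.leaf (.cyc (nat_lit 10) [(nat_lit 1), (nat_lit 10), (nat_lit 1)] (nat_lit 21) (nat_lit 2))) (.leaf (.cyc (nat_lit 1) [(nat_lit 9), (nat_lit 1), (nat_lit 9)] (nat_lit 20) (nat_lit 3)))) (.node (.leaf (.cyc (nat_lit 1) [(nat_lit 2), (nat_lit 1), (nat_lit 2), (nat_lit 1), (nat_lit 2)] (nat_lit 13) (nat_lit 4))) (.leaf (.cyc (nat_lit 1) [(nat_lit 9), (nat_lit 1), (nat_lit 9)] (nat_lit 20) (nat_lit 3))))))) (.node (.node (.node (.node (.leaf (.cyc (nat_lit 3) [(nat_lit 9), (nat_lit 3), (nat_lit 9)] (nat_lit 41) (nat_lit 1))) (.leaf (.cyc (nat_lit 10) [(nat_lit 11), (nat_lit 10), (nat_lit 11), (nat_lit 10), (nat_lit 11)] (nat_lit 85) (nat_lit 0)))) (.node (.leaf (.pin (nat_lit 3) (nat_lit 6) [(nat_lit 4)] [] (nat_lit 7) (nat_lit 36))) (.leaf (.cyc (nat_lit 1) [(nat_lit 9), (nat_lit 1), (nat_lit 9)] (nat_lit 20) (nat_lit 3))))) (.node (.node (.leaf (.cyc (nat_lit 3) [(nat_lit 7), (nat_lit 3), (nat_lit 7), (nat_lit 3), (nat_lit 7)] (nat_lit 39) (nat_lit 2))) (.leaf (.cyc (nat_lit 1) [(nat_lit 9), (nat_lit 1), (nat_lit 9)] (nat_lit 20) (nat_lit 3)))) (.node (.leaf (.pin (nat_lit 9) (nat_lit 1) [] [] (nat_lit 1) (nat_lit 166))) (.leaf (.cyc (nat_lit 1) [(nat_lit 9), (nat_lit 1), (nat_lit 9)] (nat_lit 20) (nat_lit 3)))))) (.node (.node (.node (.leaf (.cyc (nat_lit 2) [(nat_lit 12), (nat_lit 2), (nat_lit 12)] (nat_lit 34) (nat_lit 3))) (.leaf (.cyc (nat_lit 1) [(nat_lit 9), (nat_lit 1), (nat_lit 9)] (nat_lit 20) (nat_lit 3)))) (.node (.leaf (.pin (nat_lit 0) (nat_lit 9) [] [] (nat_lit 9) (nat_lit 102))) (.leaf (.cyc (nat_lit 1) [(nat_lit 9), (nat_lit 1), (nat_lit 9)] (nat_lit 20) (nat_lit 3))))) (.node (.node (.leaf (.cyc (nat_lit 12) [(nat_lit 9), (nat_lit 12), (nat_lit 9)] (nat_lit 83) (nat_lit 2))) (.leaf (.cyc (nat_lit 1) [(nat_lit 9), (nat_lit 1), (nat_lit 9)] (nat_lit 20) (nat_lit 3)))) (.node (.leaf (.cyc (nat_lit 4) [(nat_lit 11), (nat_lit 4), (nat_lit 11), (nat_lit 4), (nat_lit 11)] (nat_lit 52) (nat_lit 4))) (.leaf (.cyc (nat_lit 1) [(nat_lit 9), (nat_lit 1), (nat_lit 9)] (nat_lit 20) (nat_lit 3)))))))) (.node (.node (.node (.node (.node (.leaf (.cyc (nat_lit 3) [(nat_lit 6), (nat_lit 3), (nat_lit 6)] (nat_lit 38) (nat_lit 1))) (.leaf (.cyc (nat_lit 8) [(nat_lit 7), (nat_lit 8), (nat_lit 7)] (nat_lit 70) (nat_lit 0)))) (.node (.leaf (.pin (nat_lit 9) (nat_lit 4) [] [] (nat_lit 4) (nat_lit 20))) (.leaf (.cyc (nat_lit 1) [(nat_lit 9), (nat_lit 1), (nat_lit 9)] (nat_lit 20) (nat_lit 3))))) (.node (.node (.leaf (.cyc (nat_lit 11) [(nat_lit 2), (nat_lit 11), (nat_lit 2)] (nat_lit 33) (nat_lit 2))) (.leaf (.cyc (nat_lit 1) [(nat_lit 9), (nat_lit 1), (nat_lit 9)] (nat_lit 20) (nat_lit 3)))) (.node (.leaf (.pin (nat_lit 5) (nat_lit 0) [] [] (nat_lit 0) (nat_lit 150))) (.leaf (.cyc (nat_lit 1) [(nat_lit 9), (nat_lit 1), (nat_lit 9)] (nat_lit 20) (nat_lit 3)))))) (.node (.node (.node (.leaf (.cyc (nat_lit 3) [(nat_lit 10), (nat_lit 3), (nat_lit 10)] (nat_lit 42) (nat_lit 1))) (.leaf (.cyc (nat_lit 1) [(nat_lit 9), (nat_lit 1), (nat_lit 9)] (nat_lit 20) (nat_lit 3)))) (.node (.leaf (.pin (nat_lit 13) (nat_lit 696) [] [] (nat_lit 696) (nat_lit 84))) (.leaf (.cyc (nat_lit 1) [(nat_lit 9), (nat_lit 1), (nat_lit 9)] (nat_lit 20) (nat_lit 3))))) (.node (.node (.leaf (.cyc (nat_lit 4) [(nat_lit 10), (nat_lit 4), (nat_lit 10)] (nat_lit 51) (nat_lit 1))) (.leaf (.cyc (nat_lit 1) [(nat_lit 9), (nat_lit 1), (nat_lit 9)] (nat_lit 20) (nat_lit 3)))) (.node (.leaf (.cyc (nat_lit 9) [(nat_lit 2), (nat_lit 9), (nat_lit 2)] (nat_lit 31) (nat_lit 0))) (.leaf (.cyc (nat_lit 1) [(nat_lit 9), (nat_lit 1), (nat_lit 9)] (nat_lit 20) (nat_lit 3))))))) (.node (.node (.node (.node (.leaf (.cyc (nat_lit 6) [(nat_lit 10), (nat_lit 6), (nat_lit 10)] (nat_lit 66) (nat_lit 1))) (.leaf (.cyc (nat_lit 6) [(nat_lit 5), (nat_lit 6), (nat_lit 5), (nat_lit 6), (nat_lit 5)] (nat_lit 55) (nat_lit 1)))) (.node (.leaf (.pin (nat_lit 4) (nat_lit 7) [(nat_lit 11)] [] (nat_lit 3512) (nat_lit 52))) (.leaf (.cyc (nat_lit 1) [(nat_lit 9), (nat_lit 1), (nat_lit 9)] (nat_lit 20) (nat_lit 3))))) (.node (.node (.leaf (.cyc (nat_lit 1) [(nat_lit 12), (nat_lit 1), (nat_lit 12)] (nat_lit 23) (nat_lit 3))) (.leaf (.cyc (nat_lit 1) [(nat_lit 9), (nat_lit 1), (nat_lit 9)] (nat_lit 20) (nat_lit 3)))) (.node (.leaf (.pin (nat_lit 8) (nat_lit 2) [] [] (nat_lit 2) (nat_lit 182))) (.leaf (.cyc (nat_lit 1) [(nat_lit 9), (nat_lit 1), (nat_lit 9)] (nat_lit 20) (nat_lit 3)))))) (.node (.node (.node (.leaf (.cyc (nat_lit 4) [(nat_lit 10), (nat_lit 4), (nat_lit 10)] (nat_lit 51) (nat_lit 3))) (.leaf (.cyc (nat_lit 1) [(nat_lit 9), (nat_lit 1), (nat_lit 9)] (nat_lit 20) (nat_lit 3)))) (.node (.leaf (.pin (nat_lit 1) (nat_lit 31672) [] [] (nat_lit 31672) (nat_lit 118))) (.leaf (.cyc (nat_lit 1) [(nat_lit 9), (nat_lit 1), (nat_lit 9)] (nat_lit 20) (nat_lit 3))))) (.node (.node (.leaf (.cyc (nat_lit 12) [(nat_lit 6), (nat_lit 12), (nat_lit 6)] (nat_lit 68) (nat_lit 2))) (.leaf (.cyc (nat_lit 1) [(nat_lit 9), (nat_lit 1), (nat_lit 9)] (nat_lit 20) (nat_lit 3)))) (.node (.leaf (.cyc (nat_lit 10) [(nat_lit 8), (nat_lit 10), (nat_lit 8)] (nat_lit 77) (nat_lit 0))) (.leaf (.cyc (nat_lit 1) [(nat_lit 9), (nat_lit 1), (nat_lit 9)] (nat_lit 20) (nat_lit 3))))))))) (.node (.node (.node (.node (.node (.node (.leaf (.cyc (nat_lit 3) [(nat_lit 9), (nat_lit 3), (nat_lit 9)] (nat_lit 41) (nat_lit 3))) (.leaf (.cyc (nat_lit 10) [(nat_lit 7), (nat_lit 10), (nat_lit 7)] (nat_lit 72) (nat_lit 0)))) (.node (.leaf (.pin (nat_lit 13) (nat_lit 3) [] [] (nat_lit 3) (nat_lit 12))) (.leaf (.cyc (nat_lit 1) [(nat_lit 9), (nat_lit 1), (nat_lit 9)] (nat_lit 20) (nat_lit 3))))) (.node (.node (.leaf (.cyc (nat_lit 11) [(nat_lit 6), (nat_lit 11), (nat_lit 6)] (nat_lit 67) (nat_lit 2))) (.leaf (.cyc (nat_lit 1) [(nat_lit 9), (nat_lit 1), (nat_lit 9)] (nat_lit 20) (nat_lit 3)))) (.node (.leaf (.pin (nat_lit 4) (nat_lit 1) [] [] (nat_lit 1) (nat_lit 142))) (.leaf (.cyc (nat_lit 1) [(nat_lit 9), (nat_lit 1), (nat_lit 9)] (nat_lit 20) (nat_lit 3)))))) (.node (.node (.node (.leaf (.cyc (nat_lit 5) [(nat_lit 11), (nat_lit 5), (nat_lit 11)] (nat_lit 60) (nat_lit 1))) (.leaf (.cyc (nat_lit 1) [(nat_lit 9), (nat_lit 1), (nat_lit 9)] (nat_lit 20) (nat_lit 3)))) (.node (.leaf (.pin (nat_lit 8) (nat_lit 2) [(nat_lit 9)] [] (nat_lit 696) (nat_lit 76))) (.leaf (.cyc (nat_lit 1) [(nat_lit 9), (nat_lit 1), (nat_lit 9)] (nat_lit 20) (nat_lit 3))))) (.node (.node (.leaf (.cyc (nat_lit 8) [(nat_lit 0), (nat_lit 8), (nat_lit 0)] (nat_lit 7) (nat_lit 2))) (.leaf (.cyc (nat_lit 1) [(nat_lit 9), (nat_lit 1), (nat_lit 9)] (nat_lit 20) (nat_lit 3)))) (.node (.leaf (.cyc (nat_lit 11) [(nat_lit 1), (nat_lit 11), (nat_lit 1)] (nat_lit 22) (nat_lit 0))) (.leaf (.cyc (nat_lit 1) [(nat_lit 9), (nat_lit 1), (nat_lit 9)] (nat_lit 20) (nat_lit 3))))))) (.node (.node (.node (.node (.leaf (.cyc (nat_lit 7) [(nat_lit 6), (nat_lit 7), (nat_lit 6), (nat_lit 7), (nat_lit 6)] (nat_lit 63) (nat_lit 3))) (.leaf (.cyc (nat_lit 12) [(nat_lit 9), (nat_lit 12), (nat_lit 9)] (nat_lit 83) (nat_lit 0)))) (.node (.leaf (.pin (nat_lit 12) (nat_lit 6) [] [] (nat_lit 6) (nat_lit 44))) (.leaf (.cyc (nat_lit 1) [(nat_lit 9), (nat_lit 1), (nat_lit 9)] (nat_lit 20) (nat_lit 3))))) (.node (.node (.leaf (.cyc (nat_lit 4) [(nat_lit 11), (nat_lit 4), (nat_lit 11), (nat_lit 4), (nat_lit 11)] (nat_lit 52) (nat_lit 2))) (.leaf (.cyc (nat_lit 1) [(nat_lit 9), (nat_lit 1), (nat_lit 9)] (nat_lit 20) (nat_lit 3)))) (.node (.leaf (.pin (nat_lit 0) (nat_lit 3) [] [] (nat_lit 3) (nat_lit 174))) (.leaf (.cyc (nat_lit 1) [(nat_lit 9), (nat_lit 1), (nat_lit 9)] (nat_lit 20) (nat_lit 3)))))) (.node (.node (.node (.leaf (.cyc (nat_lit 7) [(nat_lit 5), (nat_lit 7), (nat_lit 5)] (nat_lit 56) (nat_lit 2))) (.leaf (.cyc (nat_lit 1) [(nat_lit 9), (nat_lit 1), (nat_lit 9)] (nat_lit 20) (nat_lit 3)))) (.node (.leaf (.pin (nat_lit 1) (nat_lit 7) [] [] (nat_lit 7) (nat_lit 110))) (.leaf (.cyc (nat_lit 1) [(nat_lit 9), (nat_lit 1), (nat_lit 9)] (nat_lit 20) (nat_lit 3))))) (.node (.node (.leaf (.cyc (nat_lit 4) [(nat_lit 3), (nat_lit 4), (nat_lit 3), (nat_lit 4), (nat_lit 3)] (nat_lit 36) (nat_lit 1))) (.leaf (.cyc (nat_lit 1) [(nat_lit 9), (nat_lit 1), (nat_lit 9)] (nat_lit 20) (nat_lit 3)))) (.node (.leaf (.cyc (nat_lit 12) [(nat_lit 5), (nat_lit 12), (nat_lit 5)] (nat_lit 61) (nat_lit 0))) (.leaf (.cyc (nat_lit 1) [(nat_lit 9), (nat_lit 1), (nat_lit 9)] (nat_lit 20) (nat_lit 3)))))))) (.node (.node (.node (.node (.node (.leaf (.cyc (nat_lit 6) [(nat_lit 8), (nat_lit 6), (nat_lit 8)] (nat_lit 64) (nat_lit 1))) (.leaf (.cyc (nat_lit 12) [(nat_lit 11), (nat_lit 12), (nat_lit 11)] (nat_lit 88) (nat_lit 0)))) (.node (.leaf (.pin (nat_lit 6) (nat_lit 5) [] [] (nat_lit 5) (nat_lit 28))) (.leaf (.cyc (nat_lit 1) [(nat_lit 9), (nat_lit 1), (nat_lit 9)] (nat_lit 20) (nat_lit 3))))) (.node (.node (.leaf (.cyc (nat_lit 0) [(nat_lit 2), (nat_lit 0), (nat_lit 2)] (nat_lit 1) (nat_lit 3))) (.leaf (.cyc (nat_lit 1) [(nat_lit 9), (nat_lit 1), (nat_lit 9)] (nat_lit 20) (nat_lit 3)))) (.node (.leaf (.pin (nat_lit 7) (nat_lit 2) [] [] (nat_lit 2) (nat_lit 158))) (.leaf (.cyc (nat_lit 1) [(nat_lit 9), (nat_lit 1), (nat_lit 9)] (nat_lit 20) (nat_lit 3)))))) (.node (.node (.node (.leaf (.cyc (nat_lit 1) [(nat_lit 11), (nat_lit 1), (nat_lit 11)] (nat_lit 22) (nat_lit 3))) (.leaf (.cyc (nat_lit 1) [(nat_lit 9), (nat_lit 1), (nat_lit 9)] (nat_lit 20) (nat_lit 3)))) (.node (.leaf (.pin (nat_lit 2) (nat_lit 5) [(nat_lit 3), (nat_lit 4), (nat_lit 7), (nat_lit 3), (nat_lit 6), (nat_lit 5), (nat_lit 1)] [(nat_lit 7), (nat_lit 6), (nat_lit 3), (nat_lit 7), (nat_lit 5), (nat_lit 4), (nat_lit 3), (nat_lit 2)] (nat_lit 4) (nat_lit 93))) (.leaf (.cyc (nat_lit 1) [(nat_lit 9), (nat_lit 1), (nat_lit 9)] (nat_lit 20) (nat_lit 3))))) (.node (.node (.leaf (.cyc (nat_lit 12) [(nat_lit 8), (nat_lit 12), (nat_lit 8)] (nat_lit 79) (nat_lit 2))) (.leaf (.cyc (nat_lit 1) [(nat_lit 9), (nat_lit 1), (nat_lit 9)] (nat_lit 20) (nat_lit 3)))) (.node (.leaf (.cyc (nat_lit 5) [(nat_lit 3), (nat_lit 5), (nat_lit 3)] (nat_lit 37) (nat_lit 0))) (.leaf (.cyc (nat_lit 1) [(nat_lit 9), (nat_lit 1), (nat_lit 9)] (nat_lit 20) (nat_lit 3))))))) (.node (.node (.node (.node (.leaf (.cyc (nat_lit 4) [(nat_lit 9), (nat_lit 4), (nat_lit 9)] (nat_lit 50) (nat_lit 1))) (.leaf (.cyc (nat_lit 3) [(nat_lit 7), (nat_lit 3), (nat_lit 7), (nat_lit 3), (nat_lit 7)] (nat_lit 39) (nat_lit 0)))) (.node (.leaf (.pin (nat_lit 11) (nat_lit 8) [] [] (nat_lit 8) (nat_lit 60))) (.leaf (.cyc (nat_lit 1) [(nat_lit 9), (nat_lit 1), (nat_lit 9)] (nat_lit 20) (nat_lit 3))))) (.node (.node (.leaf (.cyc (nat_lit 12) [(nat_lit 13), (nat_lit 12), (nat_lit 13), (nat_lit 12), (nat_lit 13)] (nat_lit 90) (nat_lit 2))) (.leaf (.cyc (nat_lit 1) [(nat_lit 9), (nat_lit 1), (nat_lit 9)] (nat_lit 20) (nat_lit 3)))) (.node (.leaf (.cyc (nat_lit 6) [(nat_lit 0), (nat_lit 6), (nat_lit 0)] (nat_lit 5) (nat_lit 0))) (.leaf (.cyc (nat_lit 1) [(nat_lit 9), (nat_lit 1), (nat_lit 9)] (nat_lit 20) (nat_lit 3)))))) (.node (.node (.node (.leaf (.cyc (nat_lit 6) [(nat_lit 8), (nat_lit 6), (nat_lit 8)] (nat_lit 64) (nat_lit 3))) (.leaf (.cyc (nat_lit 1) [(nat_lit 9), (nat_lit 1), (nat_lit 9)] (nat_lit 20) (nat_lit 3)))) (.node (.leaf (.pin (nat_lit 2) (nat_lit 3512) [] [] (nat_lit 3512) (nat_lit 126))) (.leaf (.cyc (nat_lit 1) [(nat_lit 9), (nat_lit 1), (nat_lit 9)] (nat_lit 20) (nat_lit 3))))) (.node (.node (.leaf (.cyc (nat_lit 5) [(nat_lit 10), (nat_lit 5), (nat_lit 10)] (nat_lit 59) (nat_lit 3))) (.leaf (.cyc (nat_lit 1) [(nat_lit 9), (nat_lit 1), (nat_lit 9)] (nat_lit 20) (nat_lit 3)))) (.node (.leaf (.cyc (nat_lit 7) [(nat_lit 2), (nat_lit 7), (nat_lit 2)] (nat_lit 29) (nat_lit 0))) (.leaf (.cyc (nat_lit 1) [(nat_lit 9), (nat_lit 1), (nat_lit 9)] (nat_lit 20) (nat_lit 3)))))))))))))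
/-- The quandle relations `(s, w, h)`: conjugating the generator `s` successively by the letters of `w` gives `h`. -/
def qs24 : List (Nat × List Nat × Nat) := [
  (0, [1, 0], 1),
  (0, [2], 0),
  (0, [3], 0),
  (0, [4], 0),
  (0, [5], 0),
  (0, [6], 0),
  (0, [7], 0),
  (0, [8], 0),
  (0, [9, 0], 9),
  (0, [10], 0),
  (0, [11], 0),
  (0, [12], 0),
  (0, [13], 0),
  (1, [2, 1], 2),
  (1, [3], 1),
  (1, [4], 1),
  (1, [5, 1], 5),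
  (1, [6], 1),
  (1, [7], 1),
  (1, [8], 1),
  (1, [9], 1),
  (1, [10], 1),
  (1, [11], 1),
  (1, [12], 1),
  (1, [13], 1),
  (2, [3, 2], 3),
  (2, [4], 2),
  (2, [5], 2),
  (2, [6], 2),
  (2, [7], 2),
  (2, [8], 2),
  (2, [9], 2),
  (2, [10], 2),
  (2, [11], 2),
  (2, [12], 2),
  (2, [13], 2),
  (3, [4, 3], 4),
  (3, [5], 3),
  (3, [6], 3),
  (3, [7, 3], 7),
  (3, [8], 3),
  (3, [9], 3),
  (3, [10], 3),
  (3, [11], 3),
  (3, [12], 3),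
  (3, [13], 3),
  (4, [5], 4),
  (4, [6], 4),
  (4, [7], 4),
  (4, [8], 4),
  (4, [9], 4),
  (4, [10], 4),
  (4, [11, 4], 11),
  (4, [12], 4),
  (4, [13], 4),
  (5, [6, 5], 6),
  (5, [7], 5),
  (5, [8], 5),
  (5, [9], 5),
  (5, [10], 5),
  (5, [11], 5),
  (5, [12], 5),
  (5, [13], 5),
  (6, [7, 6], 7),
  (6, [8], 6),
  (6, [9], 6),
  (6, [10], 6),
  (6, [11], 6),
  (6, [12], 6),
  (6, [13], 6),
  (7, [8], 7),
  (7, [9], 7),
  (7, [10], 7),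
  (7, [11], 7),
  (7, [12], 7),
  (7, [13, 7], 13),
  (8, [9, 8], 9),
  (8, [10], 8),
  (8, [11], 8),
  (8, [12], 8),
  (8, [13, 8], 13),
  (9, [10], 9),
  (9, [11], 9),
  (9, [12], 9),
  (9, [13], 9),
  (10, [11, 10], 11),
  (10, [12], 10),
  (10, [13], 10),
  (11, [12], 11),
  (11, [13], 11),
  (12, [13, 12], 13),
  (1, [2, 3, 5, 7, 6, 5, 1, 2, 3, 7, 6, 5, 3, 2], 1),
  (0, [1, 2, 5, 1, 6, 5, 7, 3, 6, 7, 2, 1, 5, 3, 2, 1], 0),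
  (2, [3, 4, 7, 3, 6, 5, 1, 2, 7, 6, 3, 7, 5, 4, 3, 2], 1),
  (0, [1, 2, 5, 1, 6, 5, 9, 0, 8, 9, 7, 6, 1, 5, 2, 1], 0),
  (2, [3, 4, 7, 3, 6, 7, 11, 4, 10, 11, 5, 6, 3, 7, 4, 3], 2),
  (0, [1, 2, 5, 1, 6, 7, 13, 8, 12, 13, 7, 6], 5),
  (13, [7, 3, 4, 11, 6, 5, 1, 2, 3, 7, 6, 1, 5, 4, 3, 2, 1, 0, 1, 2, 3, 4, 5, 1, 6, 7, 3, 2, 1, 5, 6, 11, 4, 3, 7], 13),
  (2, [0], 2),
  (3, [0], 3),
  (4, [0], 4),
  (5, [0], 5),
  (6, [0], 6),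
  (7, [0], 7),
  (8, [0], 8),
  (10, [0], 10),
  (11, [0], 11),
  (12, [0], 12),
  (13, [0], 13),
  (3, [1], 3),
  (4, [1], 4),
  (6, [1], 6),
  (7, [1], 7),
  (8, [1], 8),
  (9, [1], 9),
  (10, [1], 10),
  (11, [1], 11),
  (12, [1], 12),
  (13, [1], 13),
  (4, [2], 4),
  (5, [2], 5),
  (6, [2], 6),
  (7, [2], 7),
  (8, [2], 8),
  (9, [2], 9),
  (10, [2], 10),
  (11, [2], 11),
  (12, [2], 12),
  (13, [2], 13),
  (5, [3], 5),
  (6, [3], 6),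
  (8, [3], 8),
  (9, [3], 9),
  (10, [3], 10),
  (11, [3], 11),
  (12, [3], 12),
  (13, [3], 13),
  (5, [4], 5),
  (6, [4], 6),
  (7, [4], 7),
  (8, [4], 8),
  (9, [4], 9),
  (10, [4], 10),
  (12, [4], 12),
  (13, [4], 13),
  (7, [5], 7),
  (8, [5], 8),
  (9, [5], 9),
  (10, [5], 10),
  (11, [5], 11),
  (12, [5], 12),
  (13, [5], 13),
  (8, [6], 8),
  (9, [6], 9),
  (10, [6], 10),
  (11, [6], 11),
  (12, [6], 12),
  (13, [6], 13),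
  (8, [7], 8),
  (9, [7], 9),
  (10, [7], 10),
  (11, [7], 11),
  (12, [7], 12),
  (10, [8], 10),
  (11, [8], 11),
  (12, [8], 12),
  (10, [9], 10),
  (11, [9], 11),
  (12, [9], 12),
  (13, [9], 13),
  (12, [10], 12),
  (13, [10], 13),
  (12, [11], 12),
  (13, [11], 13),
  (0, [0], 0),
  (1, [1], 1),
  (2, [2], 2),
  (3, [3], 3),
  (4, [4], 4),
  (5, [5], 5),
  (6, [6], 6),
  (7, [7], 7),
  (8, [8], 8),
  (9, [9], 9),
  (10, [10], 10),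
  (11, [11], 11),
  (12, [12], 12),
  (13, [13], 13)]
noncomputable def C24 : Cert := X24.cert rk24 ru24 rules24 qs24
end CA.TC
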