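import Cfsg.Agent.Fi.Real
import Cfsg.Agent.Fi.XU
set_option autoImplicit false
set_option maxRecDepth 100000
namespace CA.TC
noncomputable def uU : BT Nat := (.node (.node (.node (.node (.leaf (nat_lit 0x1118e86171800001040008816485010654608180c70000046160d00500000410000b8709146c50d091860e18041000018313186c60d15185010400008083c39118706010d00500000418d1818301106c6010d18500000002810503011000001065c60104000010c0c200007061515005000000001041c204180860000c852114405010404604140460120c86211440501042c504100450000c860e140410000044010c0450119186110c00017189440106305011a4861110e8517100000104000011c046010654508140c6000004615140460e14041000018313146c40114046010400008083c30414704151404600000418d1418301106c40d140460104000010c0c200007040114046000000001041c204140848714046010654508140c60000285151004500000418d14b86090c044010c0452f18000280c5060c0cb4401065c50104000010c0439114705151004500000000104043040808500000450000d86000004190146052410045210c40301042c504100848818c850e10041000004413106c40d151850e1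00410000183130c6c30d11185010400008140c2000070315110050106544080c0c40000285150d00400000418d10b85090c0440d111840104000010c0439110703150d0040000000010404304080833d10c84000228500000419010603240cac400000418d10b8513141430d0d183851400001041c5010c0820000c83000210500000000106304880e4830106542010c0c4011470401110040e08041000018301100440d11184010400008100c2910c044151100401040000810043910804301110040000c441f1004190080430110ac400000418d08b83130c143010c044211000001041c4010c082870c0440000a4400000000106302010c044451000001041c4041004387080434510d8400009840000041860804301058810808b83130c6c30d0d183000004160041c3040c0830d08c83010400008080435c04702880e4830002503930c0415904602880e48300023c38e0c00001055018808c038b0c00001041c204080435104c828b0e283000224300000414e04c02850e10300020c3820c00001051c181000427901e000109cc06f01ac000020000109dc07501c806e01a8061000007f01d807401c400109a405f017805d01f800109c006d01a0000016c05a000007d000426c019c058015c056015400001f000109980530148000014004f000007b000424d013004b0128049012000001e80))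 (.leaf (nat_lit 0x1480418d4c3d213340541d1d18f010654d08503c5000004e162d085015040201042c5193404e0154050214804301040440148052874405400000410000044090c04e0d451050104000284c0d391340950119085015400001040530408b538844e052358052014c0500130041863405100000410140183093404e010c0442f38000283450320563170104057213800001041c2010c04e00000440000c5300009930104051883804400000418d44b9109346cd0129103213800001041d1015408d015cc82214804301041d0013009287400500000041000018301306cd1d25103115c00001041c2014c0933d265d623600000104058013008d0160c821158052016004109486d32438ac201050c901480d23344044160cc93000004100005121344b520d08043212c00001040430130f960120056232ce91000004101440532408c13452c0003c5405501300579d380412f2c054085a2520c3004601040570000e92172494c0106312154e48f012805a0104059043408d3d1eb59012a552b250041b05871324080580128d93016a0d82c34f8d9d3804101040488d48052134c283015100f0e400418d44b82134c143014d18f00000418d4804313346c2010d18f012800001200410000602010cacf012800000000000c34b450104000212c40c01041cd04589c58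74ce05ae5004101580521308043011805601280001f34052120c04100010120e2c0410000b8d010c0440d35105112c000173400001040008834d050e2c0410000b8d82581430d38044010400008340cd0000702010c0440000a4c000050d0c30b4d01065cc014c0418d3c053010c0461d0d18f11280000110052010408c1e0cc8f0104000082c053000070c15090132150c53015050f0c2c0530104ad1113c0540144994010630d8830054a24840b010405204349cd0150c9301400410840044015c14d0d490150e44041014cb91133414d0d48048230d0d93c30041903060c2a2cad20e340410000183010c04c1d2d10711080001730000010470c1e2d00e010400008500c2015804cac5c053010400008300d1913804c1538046010e29117240000106310012a4900104000395c997000070c012805701666129a640419030b51012805a016004f01543d8010630c0144044233264c01500410000602242cace00000418d2cb921308043014918e22300000118692122c0410000c0e0e3c0410144b8d19481430111191010400001200cd0000702152cc90))) (.node (.leaf (nat_lit 0x21400419b34b82092c04d012918b9628d8b282804d2c30048010404b9f300418d2418d012c08b013918b213404c011018d010630a013248b010628e08243cda130709150804e8538d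88392498d2c24f899d280410000e8917240000104dc78828d03222e10f1f2404c00000410140c0245380418d20b8a1328147ac2c04b0104d8c08240ca0c28043150804c0000c491f2468a000004135140438530d89392494b01200009d240411124e89170c00001063091e1404b010400008080ca0000046010c04b0000a49280c50a0c2800001040000106549010c0ca0000709011100b0000a4f01041ca04280890000c8b453c0488e3804c0000041243404f0130048391e0ca2c1c04fa9300410104d8e08080ca2c38f8b010c04b0000048281c94d01180000104000452c04801041ca0428044000004b0118a4a281c04c0c1460f010404e0106549393c98f0114f8b162404b453c40a010404e01109c3000004b453c0413938b8201281431d2404b4530041000004313286c2010c04b23280003c2c0410000602010c04b2f2800000000000c28b4701040002f14a48011804c0c1404e01040000106549010c0ca3310b4c012100b0000408010494b011230c0000c8b0110403010404c190c04c0000c8b000004100000431308043012118b2328000013c04101280430120acb22280001f1400012140410000c0b0e1c041000004c133c1470d2918b112804f011094d0104000882a48b0e08041083004c010c046243518b110c000170c0000104000882a48b0104000080804c000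0046010d00b0000a48282404c0c14b4901040000104e91010c0c9000070a152900b000040801041c9011008a0000c8b0134d8c013c94d010404c01280440104050173404c912c709883900a013004e012494b012004c0128041111ce8801402d00106308882a48a010404a08080c90138046353100a013804a28245090c22989010518a010404e080868a0138088010d00a0000048282494b011804c010648ca22004801040ca04200448720c8a01065481f3468d011404a882500a013c409010404c01109c30130c8a013c0419a30b820134143883d18a9628041000004313206c2013118a23240003c280410000602010caca2f2628c00000000c20b49010404e010400008283cb91247091615009212804d01041c2010c0882424e030000e8a000094b01040000110d03212804f010404301340888734c822328a4e000004100006080124ac2)) (.leaf (nat_lit 0x0)))) (.node (.node (.leaf (nat_lit 0x452628b0000000822cf879d1c04123266493c240410000602010c0492f24a491f1c0000128047010404b23266493c2c041902404b0120ac92224c471f1c68900000418620043452610a391c989a1240009d1c0412f140462814509a030000010404a011040801042c92c300890000049112004139300431308f891d1c04901200003c24041201c0432a1c0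490120d891f2400012200410000049222440601042c9121c0460000c890e080411f24189010c1450119189012000008200000104000011a4890104e8a08083c901282851521009010c0411710189010c04488211890e165038d20b8a01063080d224890104000010c3c900000441521009000040601042c9041c0440000c892f24a45281c0480c1400001040000106547010c0c891202831520049000040501041c801109c3000004900000410000b8813206c2010c0492f2000028345080c20b4701065c9210c0440104048190c089000004900000410000b8813080431d140492220000011868812200410d300490e080410000048010c6c91d140491120000172400001040001e14049010c0410000048010c14301111891120000171c94801046cd01124890104000010c048000028301110090000406010404804249c38720c890104000081c0481330702152100900000410000048010c6c20d211891134000171c947010630888224894520d88012004a2c1c04c9d20041010404708080c7041c708151500901165480120507011994201040000000e88171c94901063061e0e488231cc4a013404100000492408043451cc4a013400001340490120041012e6483c200410000602012cac8452004a011c989192004a0120041011040701042c90c28b4b0128c88111c041013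068913080463d351880120c4b3c20041201c04b2420ac80120a44281c5091218041010cc082f20a45011c0480c1400001040000106546010c0c7911c283151d008000040501041c701109c30000c8800000410000b8713186c20d21188210c0440104048190c0870000c8800000410000b8713080430d21188221c00001181c712180410000c080e080410000048010c6c70d21188111c00017200000104000882248823226483c200410000602010cac72f20a4800000000c24b460104000231e6483c2004190200432a1cac7221cc481f2000001200410000c07111ce88011400001049c5011a488010404408080c96408707151d0082f20a4528185070c200000104000)) (.leaf (nat_lit 0x10654d175405c01540440174063010654d8e880dd913405a156804a968040f010405f011231ea97c04a010654f08486969080044016d00f010654f9a8051e01887190110ca2017040e01041db017405f8740059010654f396851e827470f8770046013805a015819a010415a886d11a010655308080d29150714154805e01040580164056016c05b013005d0e5c40201041d3014c6d687480560e50041014c044014c055013005611380538d50b9401046d401565d6114c0418d4cb8e13086d40d4d194010404c8d500d301586d4011005601580580104056043c058874c05801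4c0418d50b82015005501100578558041a4620d7133c05c0d411820e58041016005920640480d0805a2f34a4e283850f017cb540104d20010654c01702de9130283153d089227040e010405e01100583574e090184041018cb8213386d60d3cc1c0000041175405601186c201600582f34a4e283c50f0c60b6101065d4213440e01041cf190c04688800480000041000005d13086d801680480e340418d70b8f13686cf011118e0e740418d34b8f13386cf0d3918e217440c010405f048408e01465dd456c0410184b951308057011805b0154041085c3d513087170139195010654d08340570c78044017901001740411f6c69c133405b0d0805d015c04101542d513089da0d35195016004141603d813086d40d3d1950140041016c054133c6d5013118f010654e08440560164283011100e00000411f44b93016c6c20d6518e213005401041d112540461d511942154041015405813086d40d40e160e300410148b92134c04401500461134e8e015805f01063170174e18010654e01500460178050014cc142250402010404613486d2014d1940e48041016405413380570120ad7015c0418d4805401100558750c1c010654e084c0552070050160c0460000041000005b015c0590d09197214c041014c044196805001700462f3ce9928380440154b5101065d1010665701540569138711153c0464556657010405704080910154046)))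 (.node (.leaf (nat_lit 0x51172c051010404a01380440104051411c0cc000070201200500000e8d171c000010630b0120d03014a10d1f1c68c0000041863cc02232e64b2848041902c0430120acd222cc4b1f1400012280418628c0d0e400418d28b8c010c6cb1d0d18d112c00001100520104000874248d010400001180cc04400431508050000040f011868c00000418628043854040e011898c2c300009d30041010400008400ce0144289153c0510104a52412c0d300007020135083000004c01402d001040481e1c0510104050412c0cd91300439d39002000004c1f2c68d123c0419d40c02453404c28389530000041011804d2244c4c1f2c04e01440412a380504538043010499104309cb014c04e00000410000183133014b0d311032f400412840b820c3c14b0110051213000001041c2010c9cb2430e03453ca4f000094b0104000011004f2130000010404304309cb0000c8223300510000041823cfcba93cac20e240418d28b8d091c6ce1d0d18d010400001280ce331c04315080430000c4a012868e123804186340430000d8a012894f01200009d3004101040000808051011804e010d00d0000d90012804e01180000104050010654b0144044044c285014500d010654b01483c31234044013500d00000410144b8201400441d0d18d0002510014469101040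4d1e0e48d45380410000043092404a0d0804e21300000104043192404a3d1c04323300000000041000004a2408043453210e00000002c2404a9d300412f30051000050f0c24b4b01040002340041014068e01206c2010d18d231c0503c1c0410940602010cacd2f1c00000000000120b4b0104000000004101400501308043014918d231c0500118041013c0430144acd221c000011800001200410000c0d111e292172c05001040000112b50011a5503c1404191440431544acd011a5511f14000122c0410000c0d0e240418d48b8b010c6cc1d0d18d0118000011000001040001e0e48d0104000082c0cb000004315080430000c4a1f2c68b1228041862c0430000d8a392c98b01200009d300410104000080804f042c283152cc8d010404f010c3cf00007021528c0d0002651010405104240820000e07013c053010494d04080438744046013cc4e000068d122404186300460104e90014404e0134043011aad00000c4c173c04e013c0418628c0f01040000828043912c289152d085000260ea8400410130fc90d400510000051172894f0104dc98840044)) (.leaf (nat_lit 0x0))))) (.node (.node (.node (.leaf (nat_lit 0x210c04401042c704200880000c870e080410000187010c6c81d151870118000172000001040001e16487010c0410000187132014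301111880104000010c3c700002830111008000040501042c701209c3871cc88010400008183c70000702151d0080000041000018713186c20d1d18821204030104046190c0880000c8700000410000b8713080430d1d187221c0001f14687121c0410000c07010c0410000046010c6c81d0d187111c000011094701040001e0e487010400008200460000708160d00701040000818046000004315090080000041000004613200430d0918800000001f180460000041861cc08451cd8739189892c18f889d1c0412f1ca4728180480c1460801040000106544010c0c691187070121008000040701041c601100870000c88231a6473c180410000602010c0482f1a3c9172c000012cb470104000231e6473c1c041901c043241c048221cc471f1c000012004115240482f1c0452814507041c1450104000210c04401042c7041c08663080480e080410000187010c6c60d1c0480118000171c0000104000881c048211c4030104046190c086000004800000410000b861308043011c04822180001f146861214041861c048010c0410000046010c6c60d1c048111800001101c60104000881c0480104000081c0460000706151c048231e6473c1c041901c0432418047221cc471f1c000121c04100000471114e87171c00001040001e140470106547010c0c8000070601110070000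40401041c8191c0868718c87211c40301042c5041c0870000047010c0410000185131c6c71d0c0470104000081c3c50000707160c047010400008143c5911c04315090070000041000018501180430d0918700000001f1468512140418618c070e1c0410000044010c6c70d180471118000170c94601040008818047010400008080440000707010c04700000418d1c044131c6c7010c047000000028140440c1c00001065c72f18a4601185070c14048010400021184060104046190c0850000c8700000410000b8513086c60d1918723166463c140419014043241cac62214c461f14000121c0410000c061114e8617180000104000881a486211840301042c504180850000c86010c041000018513186c50d19186010400008183c5000070515190060e180410000044010c6c50d151861114000170c94501040008816486010400008080440000705151900600000418d1804413186c50d19186)) (.leaf (nat_lit 0x10654e0168053916c70e013108500000413c7005301686ce0d5c0440106298010c0d9000070e162eadd0000402010405201386d301491900164041014804419480931d2c05823700418d4005c01386ce016c04401050cb284805401580540110c94015c04301062520c48056014a5d400000410000183013871b0128c99015000001041c20444dd3012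a49401580410158054014c6140d3d1820104e9208440cd0148dd3014cc93010404a8d4c0530000044160d1940e440418d48b82010c0441d0d1900144000012894d0104093014d0130000041000004313381470d08043013005601041d40438096012101601300000150041914871324080550130000015c0d52c380579d3c0410e4c0410154b9209146c2010d01501300000158054a3500460104ad5213040d01041ce190c0460000e070000041000004313080430d3910723300003c3804190340562438ed622300001f3895401100412458ad6213040d01041ce01609c500000460e300410000b8e010c0441d0c0461130000173869801040583560046010400017680ce016870e150900d017000001041ce043408e8734c8d01780410144b9213086cd1d1405101740410000b93010c6cd011005e112c00017300550104fd50110052015040c01041d4017004e1670055af60041b26405a13086cd1d3405001100593c340412c5070dac500540e480410150044135804e9d6805601540411f4c053014004e0140048015a6153950041903405501300520e3c041017495b010c6cd013119711080008e56c5601040520130055216ce8d016c94b010630c883248f010654c08305159144283154d00f00000418d3005413306c2010d18f2f34000282c0590c3005201040570e400418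d44b8e010c0440d30055455400001289950104052883005501380418d48b92010c04c1d2c055110800008400d30104054013c055af4c052934c055010404e8840046010400008480d2013c714012804f010654d0848046915028f1538054014c41301041cd2c540828748051010654d01442d1045c28f160c0460000041284005313380430d0918d22380001f4c0530c640410164c0d014c0418d44044014c14f0d44046212e71001041d0014c9c5872c0520e2c0410000b90010c0440d3d105014000001380560104054883d0140e2c0418d40b9101481430d38044010400001380d1014c702154804401480419b44b92012805301100521140e8d014894e01040948846492))) (.node (.leaf (nat_lit 0x10404e08280cb0000702161cc0c0000e8b172800001040481e1cd030138c4b1f2868c00000418630c02232a64a9a40041902860a2a1c052013c0418d24b8b013c048013c04d11280510110050010408a014248e010628f41140cb0140043150aace0000c4b1f1468b00000410118043014004d391498b2c2c00001300411128e8a170c0000104000011a48c010400008080cb000070a010d00c000040e011050b0c2c0000104000000004a014004e0104dc7883a48f010405041240ce01400431508043000004a1f269d200000413514043000004a392494c012000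00138041013404a393450b0c2c00001065cb0144a4b282494c0118000010648e014040b0104050042c0441640c8b01400410140b82013c0441d0d18b013c04f173094a010404a1e0e48b01380410000043132c1490d0a5cc212c0000104043042c9c9872c043232c00000000410000fc92408043452c04e00000002c2cf891d380410140d89012004e2c1c0509d2c041010400008080cc331470d010d00c0000a49012094d01180000104000011805001200cc0c1460e0104ace010654a010c3c30114283012900c000270f010494f0110dcc0000c8c00000419b3cb820130143012918c00000411740043091c6c2010d18c232c0009a3c0410000602010cacc2f2c00000000000c1c04801040002120044010404e20386cc863cc8c222e64f011804f121c0410000c0c233c0413c3804e1308043243d18c231660e3c1404101400430d40acc22140001f1400001180410000c0c233c041013804e010c048873d18c1114000011000001040001e0e48c0104051082804e000070a1509111014cd89392804e2c1cf8a9d2c0410112550170c0000104000882e48c010400008080ca000070b010d00c0000a49282850a01180000104000010654928240cc013004a1508ecc233840a010404e1234044863404c21380410138b82a034044013c04c96363cd1f34948010630b013404c212a70e0104051042408a872ab51232a28fa43c041a13460a240804f0e2804101460cf13286ca013d18d0104d8d010c3cd9128043011804d000004f010494d04080438828e050000c4b000068d12200418624ec5212ca5001041c2010c0890140044853628d000004d010400088240440106110082c04c2c3870a161404b0000e8b173c04c0104000011004f454a64c8d38041202c60a24280524538d8d172c9490104dc9883404d852cd88a42898d2c2694b9d28041))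 (.leaf (nat_lit 0x0)))) (.node (.node (.leaf (nat_lit 0xe8a172804a01063091e0e489aa2e64a013c041000060d2408acd013c04c8d340000106309882648d222804c1f2068b0134041862cc020130048012068b19280418830c0a0118a49012c50b013004c01065ca2324041013cb82092404f1d2518d012804d3c2804100006020134acb012804b012c04b0c24b4701065c9012ca47011850b0c20b46010400021340410128043130804b012118a01280000134041202470b0120aca012a3cb01283cb19280410000c0a0e08041012418b3324046882d18a0e3004b170c18b010404c0d3248a010400008083cb0000046010d00a0000a47282050b0c20b4801040002228c471f2004a000004186240434528d87392004a2c1c0000124041010400008080c90424285010d0090000a472820509011800001040000106548010c0c90000044160d009000040701041c904240440000c8900000410000b8913246c80d0918a2f14046281404a0c1400001040000106548010c0c9331004b161d009000004601041c901109c30000c89012c0410000b8913246c29d2d1890110409010404a190c08a0000c890000041000004313080431d1d18923240003c2804101200432a1cac922240001f2800012240410000c09210c407010404a190c60a0000c8a00000410000b891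30a30c011918a0e08041000004a010c145011918a1124000170c0000104000011a48a0104000080804a0000285152500a010c041013004a902c044242d18a0104000010c04a0000044152500a0000407010404a190c0440000c8a00000410000b8813086c90d2518a8528d893920988012294a9d24041010404d08203cb911c707152c04a012cc4b013494b0104dc90110d0323223cda438041000060b2420ac20000e89172404a0106308882c04a232c04c3c3004a09300419e3804e452610c391c04a2c1e94e9d200410104a4908080c80420285012404a0124a47281c949011804901040000106547010c0c80000044152404a000040701041c8041c044000004a2328046282004a0c14fca010404c0106547010c0c83310043862004a000004601041c801109c3000004a96100410000b88131c6c2011804a2f222868d205080c1cb48010518a0110408010404a190c60c242804a0000041000004313080430d2404a23200003c240410120043242404a22200001f24000121c041000004a0000e89172494901063081e0c0492124e8b0104043012c08787200432326649000004100006072408043)) (.leaf (nat_lit 0x0))) (.node (.leaf (nat_lit 0x15c4120120059010630c882e497214a70f012068d015c0410150c0201300410148050134414b0d41191010ca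51173405301063128834d0501040000840052000004a1624c130104a5041340ce00007020140044000004e28440520104fd3012248d010654c08543c5015c28d15350850154402010405304349cd0d4d18e00000410148044194814d0d35105014405101041cc04080438834c8f8b44053000068c122c0410144c0f00000418d38183133414d010c0442f34000014e2510c3400001065cc213400001041c201449cd01440440e280410000b8f09241430111103010400001300cf00007021539083010400001300d0914004315350020000c4b013069012400410148c0201440418d2c3d101202931d0d18e0104000014405201209d11509010014ce90013068e01400410138c10010654c08440440000046013ead101040000844053913070d161500e014004301042c3192c04c0148c8e00000410000183092c04c1d2510301480410000b82904004c0110c11213400001041c2010c04c0144e030000052000005301040000110d0321340000104043192c04c0000c822334c510000041000004c2434ac221340000104051192c08c01200434534d9100000512c2cf8c9d340412344041000005001286110d0a48e21240000104043012808c3d1c0432326610000004101486d22408043452405000000000128f8c9d3404101050c708400d0a348283154900e00000418d40052014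46c2010d18e23240510120041903c602010cace2f2400000000000128b45010400022240531f30690122c041000005201225513c1c0410000602010cace012255200000000c30b4c010400000000418d4404313080431d1518e0120000011804104480431544ace0120000011800012300410000c0e0e280410000b8c010c1430111103012000017300d001040000110052010400008300cc00007021531083010400008300cc914c04315350020000c4b1f3068c122c0410000c020e3c041013cb8f13301450d3004f1124d8f170c990010630b882c04f010400008080d10000044010c04f000005328285110c28b4b0104053853e652010404f04280820000048010405201440500000702152c0520e2c0410000183133014b0d31107010400008440c2015028b15450110104000082c051913028b0148046010cd8e172c000010630b1e2404e0104000082c043000004a162508500000529b4c041902c04a2a24c11)) (.leaf (nat_lit 0x0))))))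
noncomputable def vU (p : Nat) : Nat :=
  Nat.land (Nat.shiftRight (frc (Nat.shiftRight p (nat_lit 6)) (BT.sel uU)) (Nat.mul (nat_lit 112) (Nat.land p (nat_lit 63)))) (nat_lit 0xffffffffffffffffffffffffffff)
noncomputable def rkU (g p : Nat) : Nat := Nat.land (Nat.shiftRight (vU p) (Nat.mul (nat_lit 14) g)) (nat_lit 63)
noncomputable def ruU (g p : Nat) : Nat := Nat.land (Nat.shiftRight (vU p) (Nat.add (Nat.mul (nat_lit 14) g) (nat_lit 6))) (nat_lit 255)
noncomputable def rulesU : BT Rule := (.node (.node (.node (.node (.node (.node (.node (.node (.leaf (.cyc (nat_lit 2) [(nat_lit 5), (nat_lit 2), (nat_lit 5)] (nat_lit 15) (nat_lit 3))) (.leaf (.cyc (nat_lit 3) [(nat_lit 0), (nat_lit 3), (nat_lit 0)] (nat_lit 2) (nat_lit 0)))) (.node (.leaf (.cyc (nat_lit 0) [(nat_lit 7), (nat_lit 0), (nat_lit 7)] (nat_lit 6) (nat_lit 1))) (.leaf (.cyc (nat_lit 2) [(nat_lit 5), (nat_lit 2), (nat_lit 5)] (nat_lit 15) (nat_lit 3))))) (.node (.node (.leaf (.cyc (nat_lit 7) [(nat_lit 2), (nat_lit 7),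 (nat_lit 2)] (nat_lit 17) (nat_lit 2))) (.leaf (.cyc (nat_lit 7) [(nat_lit 5), (nat_lit 7), (nat_lit 5)] (nat_lit 26) (nat_lit 0)))) (.node (.leaf (.pin (nat_lit 6) (nat_lit 6) [(nat_lit 7)] [] (nat_lit 7) (nat_lit 27))) (.leaf (.cyc (nat_lit 2) [(nat_lit 5), (nat_lit 2), (nat_lit 5)] (nat_lit 15) (nat_lit 3)))))) (.node (.node (.node (.leaf (.cyc (nat_lit 3) [(nat_lit 2), (nat_lit 3), (nat_lit 2), (nat_lit 3), (nat_lit 2)] (nat_lit 13) (nat_lit 3))) (.leaf (.cyc (nat_lit 0) [(nat_lit 3), (nat_lit 0), (nat_lit 3)] (nat_lit 2) (nat_lit 3)))) (.node (.leaf (.pin (nat_lit 6) (nat_lit 1) [] [] (nat_lit 1) (nat_lit 11))) (.leaf (.cyc (nat_lit 2) [(nat_lit 5), (nat_lit 2), (nat_lit 5)] (nat_lit 15) (nat_lit 3))))) (.node (.node (.leaf (.cyc (nat_lit 0) [(nat_lit 5), (nat_lit 0), (nat_lit 5)] (nat_lit 4) (nat_lit 3))) (.leaf (.cyc (nat_lit 5) [(nat_lit 1), (nat_lit 5), (nat_lit 1), (nat_lit 5), (nat_lit 1)] (nat_lit 10) (nat_lit 5)))) (.node (.leaf (.pin (nat_lit 2) (nat_lit 6) [] []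 (nat_lit 6) (nat_lit 43))) (.leaf (.cyc (nat_lit 2) [(nat_lit 5), (nat_lit 2), (nat_lit 5)] (nat_lit 15) (nat_lit 3))))))) (.node (.node (.node (.node (.leaf (.cyc (nat_lit 2) [(nat_lit 7), (nat_lit 2), (nat_lit 7)] (nat_lit 17) (nat_lit 1))) (.leaf (.cyc (nat_lit 6) [(nat_lit 1), (nat_lit 6), (nat_lit 1)] (nat_lit 11) (nat_lit 0)))) (.node (.leaf (.pin (nat_lit 4) (nat_lit 0) [] [] (nat_lit 0) (nat_lit 3))) (.leaf (.cyc (nat_lit 2) [(nat_lit 5), (nat_lit 2), (nat_lit 5)] (nat_lit 15) (nat_lit 3))))) (.node (.node (.leaf (.cyc (nat_lit 1) [(nat_lit 4), (nat_lit 1), (nat_lit 4)] (nat_lit 9) (nat_lit 1))) (.leaf (.cyc (nat_lit 7) [(nat_lit 4), (nat_lit 7), (nat_lit 4)] (nat_lit 24) (nat_lit 0)))) (.node (.leaf (.pin (nat_lit 0) (nat_lit 6) [] [] (nat_lit 6) (nat_lit 35))) (.leaf (.cyc (nat_lit 2) [(nat_lit 5), (nat_lit 2), (nat_lit 5)] (nat_lit 15) (nat_lit 3)))))) (.node (.node (.node (.leaf (.cyc (nat_lit 4) [(nat_lit 2), (nat_lit 4), (nat_lit 2)] (nat_lit 14) (nat_lit 2))) (.leaf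 (.cyc (nat_lit 5) [(nat_lit 4), (nat_lit 5), (nat_lit 4)] (nat_lit 22) (nat_lit 0)))) (.node (.leaf (.pin (nat_lit 5) (nat_lit 3) [] [] (nat_lit 3) (nat_lit 19))) (.leaf (.cyc (nat_lit 2) [(nat_lit 5), (nat_lit 2), (nat_lit 5)] (nat_lit 15) (nat_lit 3))))) (.node (.node (.leaf (.cyc (nat_lit 6) [(nat_lit 3), (nat_lit 6), (nat_lit 3)] (nat_lit 20) (nat_lit 2))) (.leaf (.cyc (nat_lit 2) [(nat_lit 5), (nat_lit 2), (nat_lit 5)] (nat_lit 15) (nat_lit 3)))) (.node (.leaf (.pin (nat_lit 0) (nat_lit 0) [] [] (nat_lit 0) (nat_lit 51))) (.leaf (.cyc (nat_lit 2) [(nat_lit 5), (nat_lit 2), (nat_lit 5)] (nat_lit 15) (nat_lit 3)))))))) (.node (.node (.node (.node (.node (.leaf (.cyc (nat_lit 4) [(nat_lit 6), (nat_lit 4), (nat_lit 6)] (nat_lit 23) (nat_lit 1))) (.leaf (.cyc (nat_lit 1) [(nat_lit 2), (nat_lit 1), (nat_lit 2), (nat_lit 1), (nat_lit 2)] (nat_lit 7) (nat_lit 4)))) (.node (.leaf (.cyc (nat_lit 0) [(nat_lit 6), (nat_lit 0), (nat_lit 6)] (nat_lit 5) (nat_lit 3))) (.leaf (.cyc (nat_lit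 2) [(nat_lit 5), (nat_lit 2), (nat_lit 5)] (nat_lit 15) (nat_lit 3))))) (.node (.node (.leaf (.cyc (nat_lit 4) [(nat_lit 0), (nat_lit 4), (nat_lit 0)] (nat_lit 3) (nat_lit 2))) (.leaf (.cyc (nat_lit 2) [(nat_lit 1), (nat_lit 2), (nat_lit 1), (nat_lit 2), (nat_lit 1)] (nat_lit 7) (nat_lit 5)))) (.node (.leaf (.pin (nat_lit 0) (nat_lit 2) [] [] (nat_lit 2) (nat_lit 31))) (.leaf (.cyc (nat_lit 2) [(nat_lit 5), (nat_lit 2), (nat_lit 5)] (nat_lit 15) (nat_lit 3)))))) (.node (.node (.node (.leaf (.cyc (nat_lit 1) [(nat_lit 7), (nat_lit 1), (nat_lit 7)] (nat_lit 12) (nat_lit 1))) (.leaf (.cyc (nat_lit 7) [(nat_lit 2), (nat_lit 7), (nat_lit 2)] (nat_lit 17) (nat_lit 0)))) (.node (.leaf (.pin (nat_lit 5) (nat_lit 2) [] [] (nat_lit 2) (nat_lit 15))) (.leaf (.cyc (nat_lit 2) [(nat_lit 5), (nat_lit 2), (nat_lit 5)] (nat_lit 15) (nat_lit 3))))) (.node (.node (.leaf (.cyc (nat_lit 6) [(nat_lit 0), (nat_lit 6), (nat_lit 0)] (nat_lit 5) (nat_lit 2))) (.leaf (.cyc (nat_lit 2) [(nat_lit 5), (nat_lit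 2), (nat_lit 5)] (nat_lit 15) (nat_lit 3)))) (.node (.leaf (.pin (nat_lit 4) (nat_lit 5) [] [] (nat_lit 5) (nat_lit 47))) (.leaf (.cyc (nat_lit 2) [(nat_lit 5), (nat_lit 2), (nat_lit 5)] (nat_lit 15) (nat_lit 3))))))) (.node (.node (.node (.node (.leaf (.cyc (nat_lit 7) [(nat_lit 6), (nat_lit 7), (nat_lit 6), (nat_lit 7), (nat_lit 6)] (nat_lit 27) (nat_lit 3))) (.leaf (.cyc (nat_lit 5) [(nat_lit 2), (nat_lit 5), (nat_lit 2)] (nat_lit 15) (nat_lit 0)))) (.node (.leaf (.pin (nat_lit 1) (nat_lit 1) [(nat_lit 2)] [] (nat_lit 2) (nat_lit 7))) (.leaf (.cyc (nat_lit 2) [(nat_lit 5), (nat_lit 2), (nat_lit 5)] (nat_lit 15) (nat_lit 3))))) (.node (.node (.leaf (.cyc (nat_lit 4) [(nat_lit 6), (nat_lit 4), (nat_lit 6)] (nat_lit 23) (nat_lit 3))) (.leaf (.cyc (nat_lit 7) [(nat_lit 6), (nat_lit 7), (nat_lit 6), (nat_lit 7), (nat_lit 6)] (nat_lit 27) (nat_lit 5)))) (.node (.leaf (.pin (nat_lit 1) (nat_lit 6) [] [] (nat_lit 6) (nat_lit 39))) (.leaf (.cyc (nat_lit 2) [(nat_lit 5), (nat_lit 2),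 (nat_lit 5)] (nat_lit 15) (nat_lit 3)))))) (.node (.node (.node (.leaf (.cyc (nat_lit 1) [(nat_lit 3), (nat_lit 1), (nat_lit 3)] (nat_lit 8) (nat_lit 1))) (.leaf (.cyc (nat_lit 1) [(nat_lit 5), (nat_lit 1), (nat_lit 5), (nat_lit 1), (nat_lit 5)] (nat_lit 10) (nat_lit 0)))) (.node (.leaf (.pin (nat_lit 6) (nat_lit 4) [] [] (nat_lit 4) (nat_lit 23))) (.leaf (.cyc (nat_lit 2) [(nat_lit 5), (nat_lit 2), (nat_lit 5)] (nat_lit 15) (nat_lit 3))))) (.node (.node (.leaf (.cyc (nat_lit 2) [(nat_lit 0), (nat_lit 2), (nat_lit 0)] (nat_lit 1) (nat_lit 2))) (.leaf (.cyc (nat_lit 2) [(nat_lit 5), (nat_lit 2), (nat_lit 5)] (nat_lit 15) (nat_lit 3)))) (.node (.leaf (.pin (nat_lit 4) (nat_lit 4) [] [] (nat_lit 4) (nat_lit 55))) (.leaf (.cyc (nat_lit 2) [(nat_lit 5), (nat_lit 2), (nat_lit 5)] (nat_lit 15) (nat_lit 3))))))))) (.node (.node (.node (.node (.node (.node (.leaf (.cyc (nat_lit 3) [(nat_lit 5), (nat_lit 3), (nat_lit 5)] (nat_lit 19) (nat_lit 3))) (.leaf (.cyc (nat_lit 6) [(nat_lit 0), (nat_lit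 6), (nat_lit 0)] (nat_lit 5) (nat_lit 0)))) (.node (.leaf (.cyc (nat_lit 0) [(nat_lit 6), (nat_lit 0), (nat_lit 6)] (nat_lit 5) (nat_lit 1))) (.leaf (.cyc (nat_lit 2) [(nat_lit 5), (nat_lit 2), (nat_lit 5)] (nat_lit 15) (nat_lit 3))))) (.node (.node (.leaf (.cyc (nat_lit 1) [(nat_lit 4), (nat_lit 1), (nat_lit 4)] (nat_lit 9) (nat_lit 3))) (.leaf (.cyc (nat_lit 5) [(nat_lit 0), (nat_lit 5), (nat_lit 0)] (nat_lit 4) (nat_lit 0)))) (.node (.leaf (.pin (nat_lit 3) (nat_lit 0) [(nat_lit 1), (nat_lit 2), (nat_lit 5), (nat_lit 1), (nat_lit 6), (nat_lit 5), (nat_lit 7)] [(nat_lit 6), (nat_lit 7), (nat_lit 2), (nat_lit 1), (nat_lit 5), (nat_lit 3), (nat_lit 2), (nat_lit 1)] (nat_lit 0) (nat_lit 29))) (.leaf (.cyc (nat_lit 2) [(nat_lit 5), (nat_lit 2), (nat_lit 5)] (nat_lit 15) (nat_lit 3)))))) (.node (.node (.node (.leaf (.cyc (nat_lit 4) [(nat_lit 1), (nat_lit 4), (nat_lit 1)] (nat_lit 9) (nat_lit 2))) (.leaf (.cyc (nat_lit 6) [(nat_lit 3), (nat_lit 6), (nat_lit 3)] (nat_lit 20) (nat_lit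 0)))) (.node (.leaf (.pin (nat_lit 2) (nat_lit 2) [(nat_lit 3)] [] (nat_lit 3) (nat_lit 13))) (.leaf (.cyc (nat_lit 2) [(nat_lit 5), (nat_lit 2), (nat_lit 5)] (nat_lit 15) (nat_lit 3))))) (.node (.node (.leaf (.cyc (nat_lit 0) [(nat_lit 3), (nat_lit 0), (nat_lit 3)] (nat_lit 2) (nat_lit 1))) (.leaf (.cyc (nat_lit 2) [(nat_lit 5), (nat_lit 2), (nat_lit 5)] (nat_lit 15) (nat_lit 3)))) (.node (.leaf (.pin (nat_lit 3) (nat_lit 5) [] [] (nat_lit 5) (nat_lit 45))) (.leaf (.cyc (nat_lit 2) [(nat_lit 5), (nat_lit 2), (nat_lit 5)] (nat_lit 15) (nat_lit 3))))))) (.node (.node (.node (.node (.leaf (.cyc (nat_lit 3) [(nat_lit 1), (nat_lit 3), (nat_lit 1)] (nat_lit 8) (nat_lit 2))) (.leaf (.cyc (nat_lit 2) [(nat_lit 3), (nat_lit 2), (nat_lit 3), (nat_lit 2), (nat_lit 3)] (nat_lit 13) (nat_lit 4)))) (.node (.leaf (.pin (nat_lit 6) (nat_lit 0) [] [] (nat_lit 0) (nat_lit 5))) (.leaf (.cyc (nat_lit 2) [(nat_lit 5), (nat_lit 2), (nat_lit 5)] (nat_lit 15) (nat_lit 3))))) (.node (.node (.leaf (.cyc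 (nat_lit 3) [(nat_lit 0), (nat_lit 3), (nat_lit 0)] (nat_lit 2) (nat_lit 2))) (.leaf (.cyc (nat_lit 1) [(nat_lit 0), (nat_lit 1), (nat_lit 0), (nat_lit 1), (nat_lit 0)] (nat_lit 0) (nat_lit 1)))) (.node (.leaf (.pin (nat_lit 1) (nat_lit 3) [] [] (nat_lit 3) (nat_lit 37))) (.leaf (.cyc (nat_lit 2) [(nat_lit 5), (nat_lit 2), (nat_lit 5)] (nat_lit 15) (nat_lit 3)))))) (.node (.node (.node (.leaf (.cyc (nat_lit 2) [(nat_lit 7), (nat_lit 2), (nat_lit 7)] (nat_lit 17) (nat_lit 3))) (.leaf (.cyc (nat_lit 6) [(nat_lit 5), (nat_lit 6), (nat_lit 5), (nat_lit 6), (nat_lit 5)] (nat_lit 25) (nat_lit 5)))) (.node (.leaf (.pin (nat_lit 3) (nat_lit 3) [(nat_lit 7)] [] (nat_lit 7) (nat_lit 21))) (.leaf (.cyc (nat_lit 2) [(nat_lit 5), (nat_lit 2), (nat_lit 5)] (nat_lit 15) (nat_lit 3))))) (.node (.node (.leaf (.cyc (nat_lit 5) [(nat_lit 4), (nat_lit 5), (nat_lit 4)] (nat_lit 22) (nat_lit 2))) (.leaf (.cyc (nat_lit 2) [(nat_lit 5), (nat_lit 2), (nat_lit 5)] (nat_lit 15) (nat_lit 3)))) (.node (.leaf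 (.pin (nat_lit 2) (nat_lit 2) [] [] (nat_lit 2) (nat_lit 53))) (.leaf (.cyc (nat_lit 2) [(nat_lit 5), (nat_lit 2), (nat_lit 5)] (nat_lit 15) (nat_lit 3)))))))) (.node (.node (.node (.node (.node (.leaf (.cyc (nat_lit 5) [(nat_lit 7), (nat_lit 5), (nat_lit 7)] (nat_lit 26) (nat_lit 3))) (.leaf (.cyc (nat_lit 1) [(nat_lit 3), (nat_lit 1), (nat_lit 3)] (nat_lit 8) (nat_lit 3)))) (.node (.leaf (.pin (nat_lit 2) (nat_lit 0) [] [] (nat_lit 0) (nat_lit 1))) (.leaf (.cyc (nat_lit 2) [(nat_lit 5), (nat_lit 2), (nat_lit 5)] (nat_lit 15) (nat_lit 3))))) (.node (.node (.leaf (.cyc (nat_lit 5) [(nat_lit 1), (nat_lit 5), (nat_lit 1), (nat_lit 5), (nat_lit 1)] (nat_lit 10) (nat_lit 3))) (.leaf (.cyc (nat_lit 5) [(nat_lit 6), (nat_lit 5), (nat_lit 6), (nat_lit 5), (nat_lit 6)] (nat_lit 25) (nat_lit 0)))) (.node (.leaf (.pin (nat_lit 0) (nat_lit 4) [] [] (nat_lit 4) (nat_lit 33))) (.leaf (.cyc (nat_lit 2) [(nat_lit 5), (nat_lit 2), (nat_lit 5)] (nat_lit 15) (nat_lit 3)))))) (.node (.node (.node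 (.leaf (.cyc (nat_lit 2) [(nat_lit 4), (nat_lit 2), (nat_lit 4)] (nat_lit 14) (nat_lit 3))) (.leaf (.cyc (nat_lit 6) [(nat_lit 4), (nat_lit 6), (nat_lit 4)] (nat_lit 23) (nat_lit 0)))) (.node (.leaf (.pin (nat_lit 7) (nat_lit 2) [] [] (nat_lit 2) (nat_lit 17))) (.leaf (.cyc (nat_lit 2) [(nat_lit 5), (nat_lit 2), (nat_lit 5)] (nat_lit 15) (nat_lit 3))))) (.node (.node (.leaf (.cyc (nat_lit 0) [(nat_lit 5), (nat_lit 0), (nat_lit 5)] (nat_lit 4) (nat_lit 1))) (.leaf (.cyc (nat_lit 2) [(nat_lit 5), (nat_lit 2), (nat_lit 5)] (nat_lit 15) (nat_lit 3)))) (.node (.leaf (.pin (nat_lit 4) (nat_lit 7) [] [] (nat_lit 7) (nat_lit 49))) (.leaf (.cyc (nat_lit 2) [(nat_lit 5), (nat_lit 2), (nat_lit 5)] (nat_lit 15) (nat_lit 3))))))) (.node (.node (.node (.node (.leaf (.cyc (nat_lit 6) [(nat_lit 5), (nat_lit 6), (nat_lit 5), (nat_lit 6), (nat_lit 5)] (nat_lit 25) (nat_lit 3))) (.leaf (.cyc (nat_lit 3) [(nat_lit 4), (nat_lit 3), (nat_lit 4), (nat_lit 3), (nat_lit 4)] (nat_lit 18) (nat_lit 4))))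 (.node (.leaf (.pin (nat_lit 4) (nat_lit 1) [] [] (nat_lit 1) (nat_lit 9))) (.leaf (.cyc (nat_lit 2) [(nat_lit 5), (nat_lit 2), (nat_lit 5)] (nat_lit 15) (nat_lit 3))))) (.node (.node (.leaf (.cyc (nat_lit 0) [(nat_lit 2), (nat_lit 0), (nat_lit 2)] (nat_lit 1) (nat_lit 3))) (.leaf (.cyc (nat_lit 3) [(nat_lit 7), (nat_lit 3), (nat_lit 7), (nat_lit 3), (nat_lit 7)] (nat_lit 21) (nat_lit 0)))) (.node (.leaf (.pin (nat_lit 2) (nat_lit 4) [] [] (nat_lit 4) (nat_lit 41))) (.leaf (.cyc (nat_lit 2) [(nat_lit 5), (nat_lit 2), (nat_lit 5)] (nat_lit 15) (nat_lit 3)))))) (.node (.node (.node (.leaf (.cyc (nat_lit 3) [(nat_lit 4), (nat_lit 3), (nat_lit 4), (nat_lit 3), (nat_lit 4)] (nat_lit 18) (nat_lit 2))) (.leaf (.cyc (nat_lit 3) [(nat_lit 2), (nat_lit 3), (nat_lit 2), (nat_lit 3), (nat_lit 2)] (nat_lit 13) (nat_lit 5)))) (.node (.leaf (.pin (nat_lit 5) (nat_lit 5) [(nat_lit 6)] [] (nat_lit 6) (nat_lit 25))) (.leaf (.cyc (nat_lit 2) [(nat_lit 5), (nat_lit 2), (nat_lit 5)] (nat_lit 15) (nat_lit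 3))))) (.node (.node (.leaf (.cyc (nat_lit 0) [(nat_lit 7), (nat_lit 0), (nat_lit 7)] (nat_lit 6) (nat_lit 3))) (.leaf (.cyc (nat_lit 2) [(nat_lit 5), (nat_lit 2), (nat_lit 5)] (nat_lit 15) (nat_lit 3)))) (.node (.leaf (.pin (nat_lit 6) (nat_lit 6) [] [] (nat_lit 6) (nat_lit 57))) (.leaf (.cyc (nat_lit 2) [(nat_lit 5), (nat_lit 2), (nat_lit 5)] (nat_lit 15) (nat_lit 3)))))))))) (.node (.node (.node (.node (.node (.node (.node (.leaf (.cyc (nat_lit 4) [(nat_lit 7), (nat_lit 4), (nat_lit 7)] (nat_lit 24) (nat_lit 3))) (.leaf (.cyc (nat_lit 4) [(nat_lit 0), (nat_lit 4), (nat_lit 0)] (nat_lit 3) (nat_lit 0)))) (.node (.leaf (.cyc (nat_lit 6) [(nat_lit 7), (nat_lit 6), (nat_lit 7), (nat_lit 6), (nat_lit 7)] (nat_lit 27) (nat_lit 2))) (.leaf (.cyc (nat_lit 2) [(nat_lit 5), (nat_lit 2), (nat_lit 5)] (nat_lit 15) (nat_lit 3))))) (.node (.node (.leaf (.cyc (nat_lit 7) [(nat_lit 4), (nat_lit 7), (nat_lit 4)] (nat_lit 24) (nat_lit 2))) (.leaf (.cyc (nat_lit 3) [(nat_lit 4), (nat_lit 3), (nat_lit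 4), (nat_lit 3), (nat_lit 4)] (nat_lit 18) (nat_lit 0)))) (.node (.leaf (.pin (nat_lit 1) (nat_lit 1) [(nat_lit 2), (nat_lit 3), (nat_lit 5), (nat_lit 7), (nat_lit 6), (nat_lit 5)] [(nat_lit 2), (nat_lit 3), (nat_lit 7), (nat_lit 6), (nat_lit 5), (nat_lit 3), (nat_lit 2)] (nat_lit 1) (nat_lit 28))) (.leaf (.cyc (nat_lit 2) [(nat_lit 5), (nat_lit 2), (nat_lit 5)] (nat_lit 15) (nat_lit 3)))))) (.node (.node (.node (.leaf (.cyc (nat_lit 3) [(nat_lit 6), (nat_lit 3), (nat_lit 6)] (nat_lit 20) (nat_lit 3))) (.leaf (.cyc (nat_lit 5) [(nat_lit 3), (nat_lit 5), (nat_lit 3)] (nat_lit 19) (nat_lit 0)))) (.node (.leaf (.pin (nat_lit 7) (nat_lit 1) [] [] (nat_lit 1) (nat_lit 12))) (.leaf (.cyc (nat_lit 2) [(nat_lit 5), (nat_lit 2), (nat_lit 5)] (nat_lit 15) (nat_lit 3))))) (.node (.node (.leaf (.cyc (nat_lit 3) [(nat_lit 7), (nat_lit 3), (nat_lit 7), (nat_lit 3), (nat_lit 7)] (nat_lit 21) (nat_lit 2))) (.leaf (.cyc (nat_lit 2) [(nat_lit 5), (nat_lit 2), (nat_lit 5)] (nat_lit 15) (nat_lit 3))))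 (.node (.leaf (.pin (nat_lit 2) (nat_lit 7) [] [] (nat_lit 7) (nat_lit 44))) (.leaf (.cyc (nat_lit 2) [(nat_lit 5), (nat_lit 2), (nat_lit 5)] (nat_lit 15) (nat_lit 3))))))) (.node (.node (.node (.node (.leaf (.cyc (nat_lit 4) [(nat_lit 5), (nat_lit 4), (nat_lit 5)] (nat_lit 22) (nat_lit 1))) (.leaf (.cyc (nat_lit 7) [(nat_lit 1), (nat_lit 7), (nat_lit 1)] (nat_lit 12) (nat_lit 0)))) (.node (.leaf (.pin (nat_lit 5) (nat_lit 0) [] [] (nat_lit 0) (nat_lit 4))) (.leaf (.cyc (nat_lit 2) [(nat_lit 5), (nat_lit 2), (nat_lit 5)] (nat_lit 15) (nat_lit 3))))) (.node (.node (.leaf (.cyc (nat_lit 0) [(nat_lit 4), (nat_lit 0), (nat_lit 4)] (nat_lit 3) (nat_lit 3))) (.leaf (.cyc (nat_lit 0) [(nat_lit 1), (nat_lit 0), (nat_lit 1), (nat_lit 0), (nat_lit 1)] (nat_lit 0) (nat_lit 2)))) (.node (.leaf (.pin (nat_lit 0) (nat_lit 7) [] [] (nat_lit 7) (nat_lit 36))) (.leaf (.cyc (nat_lit 2) [(nat_lit 5), (nat_lit 2), (nat_lit 5)] (nat_lit 15) (nat_lit 3)))))) (.node (.node (.node (.leaf (.cyc (nat_lit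 2) [(nat_lit 6), (nat_lit 2), (nat_lit 6)] (nat_lit 16) (nat_lit 3))) (.leaf (.cyc (nat_lit 5) [(nat_lit 6), (nat_lit 5), (nat_lit 6), (nat_lit 5), (nat_lit 6)] (nat_lit 25) (nat_lit 2)))) (.node (.leaf (.pin (nat_lit 6) (nat_lit 3) [] [] (nat_lit 3) (nat_lit 20))) (.leaf (.cyc (nat_lit 2) [(nat_lit 5), (nat_lit 2), (nat_lit 5)] (nat_lit 15) (nat_lit 3))))) (.node (.node (.leaf (.cyc (nat_lit 0) [(nat_lit 2), (nat_lit 0), (nat_lit 2)] (nat_lit 1) (nat_lit 1))) (.leaf (.cyc (nat_lit 2) [(nat_lit 5), (nat_lit 2), (nat_lit 5)] (nat_lit 15) (nat_lit 3)))) (.node (.leaf (.pin (nat_lit 1) (nat_lit 1) [] [] (nat_lit 1) (nat_lit 52))) (.leaf (.cyc (nat_lit 2) [(nat_lit 5), (nat_lit 2), (nat_lit 5)] (nat_lit 15) (nat_lit 3)))))))) (.node (.node (.node (.node (.node (.leaf (.cyc (nat_lit 4) [(nat_lit 5), (nat_lit 4), (nat_lit 5)] (nat_lit 22) (nat_lit 3))) (.leaf (.cyc (nat_lit 1) [(nat_lit 5), (nat_lit 1), (nat_lit 5), (nat_lit 1), (nat_lit 5)] (nat_lit 10) (nat_lit 4)))) (.node (.leaf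 (.pin (nat_lit 0) (nat_lit 0) [(nat_lit 1)] [] (nat_lit 1) (nat_lit 0))) (.leaf (.cyc (nat_lit 2) [(nat_lit 5), (nat_lit 2), (nat_lit 5)] (nat_lit 15) (nat_lit 3))))) (.node (.node (.leaf (.cyc (nat_lit 2) [(nat_lit 5), (nat_lit 2), (nat_lit 5)] (nat_lit 15) (nat_lit 1))) (.leaf (.cyc (nat_lit 4) [(nat_lit 3), (nat_lit 4), (nat_lit 3), (nat_lit 4), (nat_lit 3)] (nat_lit 18) (nat_lit 5)))) (.node (.leaf (.pin (nat_lit 0) (nat_lit 3) [] [] (nat_lit 3) (nat_lit 32))) (.leaf (.cyc (nat_lit 2) [(nat_lit 5), (nat_lit 2), (nat_lit 5)] (nat_lit 15) (nat_lit 3)))))) (.node (.node (.node (.leaf (.cyc (nat_lit 5) [(nat_lit 3), (nat_lit 5), (nat_lit 3)] (nat_lit 19) (nat_lit 2))) (.leaf (.cyc (nat_lit 0) [(nat_lit 1), (nat_lit 0), (nat_lit 1), (nat_lit 0), (nat_lit 1)] (nat_lit 0) (nat_lit 4)))) (.node (.leaf (.pin (nat_lit 6) (nat_lit 2) [] [] (nat_lit 2) (nat_lit 16))) (.leaf (.cyc (nat_lit 2) [(nat_lit 5), (nat_lit 2), (nat_lit 5)] (nat_lit 15) (nat_lit 3))))) (.node (.node (.leaf (.cyc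 (nat_lit 2) [(nat_lit 3), (nat_lit 2), (nat_lit 3), (nat_lit 2), (nat_lit 3)] (nat_lit 13) (nat_lit 2))) (.leaf (.cyc (nat_lit 2) [(nat_lit 5), (nat_lit 2), (nat_lit 5)] (nat_lit 15) (nat_lit 3)))) (.node (.leaf (.pin (nat_lit 4) (nat_lit 6) [] [] (nat_lit 6) (nat_lit 48))) (.leaf (.cyc (nat_lit 2) [(nat_lit 5), (nat_lit 2), (nat_lit 5)] (nat_lit 15) (nat_lit 3))))))) (.node (.node (.node (.node (.leaf (.cyc (nat_lit 4) [(nat_lit 7), (nat_lit 4), (nat_lit 7)] (nat_lit 24) (nat_lit 1))) (.leaf (.cyc (nat_lit 6) [(nat_lit 2), (nat_lit 6), (nat_lit 2)] (nat_lit 16) (nat_lit 0)))) (.node (.leaf (.pin (nat_lit 3) (nat_lit 1) [] [] (nat_lit 1) (nat_lit 8))) (.leaf (.cyc (nat_lit 2) [(nat_lit 5), (nat_lit 2), (nat_lit 5)] (nat_lit 15) (nat_lit 3))))) (.node (.node (.leaf (.cyc (nat_lit 7) [(nat_lit 1), (nat_lit 7), (nat_lit 1)] (nat_lit 12) (nat_lit 2))) (.leaf (.cyc (nat_lit 7) [(nat_lit 3), (nat_lit 7), (nat_lit 3), (nat_lit 7), (nat_lit 3)] (nat_lit 21) (nat_lit 5)))) (.node (.leaf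 (.pin (nat_lit 1) (nat_lit 7) [] [] (nat_lit 7) (nat_lit 40))) (.leaf (.cyc (nat_lit 2) [(nat_lit 5), (nat_lit 2), (nat_lit 5)] (nat_lit 15) (nat_lit 3)))))) (.node (.node (.node (.leaf (.cyc (nat_lit 5) [(nat_lit 2), (nat_lit 5), (nat_lit 2)] (nat_lit 15) (nat_lit 2))) (.leaf (.cyc (nat_lit 7) [(nat_lit 3), (nat_lit 7), (nat_lit 3), (nat_lit 7), (nat_lit 3)] (nat_lit 21) (nat_lit 1)))) (.node (.leaf (.pin (nat_lit 7) (nat_lit 4) [] [] (nat_lit 4) (nat_lit 24))) (.leaf (.cyc (nat_lit 2) [(nat_lit 5), (nat_lit 2), (nat_lit 5)] (nat_lit 15) (nat_lit 3))))) (.node (.node (.leaf (.cyc (nat_lit 2) [(nat_lit 4), (nat_lit 2), (nat_lit 4)] (nat_lit 14) (nat_lit 1))) (.leaf (.cyc (nat_lit 2) [(nat_lit 5), (nat_lit 2), (nat_lit 5)] (nat_lit 15) (nat_lit 3)))) (.node (.leaf (.pin (nat_lit 5) (nat_lit 5) [] [] (nat_lit 5) (nat_lit 56))) (.leaf (.cyc (nat_lit 2) [(nat_lit 5), (nat_lit 2), (nat_lit 5)] (nat_lit 15) (nat_lit 3))))))))) (.node (.node (.node (.node (.node (.node (.leaf (.cyc (nat_lit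 2) [(nat_lit 6), (nat_lit 2), (nat_lit 6)] (nat_lit 16) (nat_lit 1))) (.leaf (.cyc (nat_lit 7) [(nat_lit 0), (nat_lit 7), (nat_lit 0)] (nat_lit 6) (nat_lit 0)))) (.node (.leaf (.cyc (nat_lit 7) [(nat_lit 0), (nat_lit 7), (nat_lit 0)] (nat_lit 6) (nat_lit 2))) (.leaf (.cyc (nat_lit 2) [(nat_lit 5), (nat_lit 2), (nat_lit 5)] (nat_lit 15) (nat_lit 3))))) (.node (.node (.leaf (.cyc (nat_lit 4) [(nat_lit 3), (nat_lit 4), (nat_lit 3), (nat_lit 4), (nat_lit 3)] (nat_lit 18) (nat_lit 3))) (.leaf (.cyc (nat_lit 2) [(nat_lit 0), (nat_lit 2), (nat_lit 0)] (nat_lit 1) (nat_lit 0)))) (.node (.leaf (.pin (nat_lit 2) (nat_lit 2) [(nat_lit 3), (nat_lit 4), (nat_lit 7), (nat_lit 3), (nat_lit 6), (nat_lit 5), (nat_lit 1)] [(nat_lit 7), (nat_lit 6), (nat_lit 3), (nat_lit 7), (nat_lit 5), (nat_lit 4), (nat_lit 3), (nat_lit 2)] (nat_lit 1) (nat_lit 30))) (.leaf (.cyc (nat_lit 2) [(nat_lit 5), (nat_lit 2), (nat_lit 5)] (nat_lit 15) (nat_lit 3)))))) (.node (.node (.node (.leaf (.cyc (nat_lit 1) [(nat_lit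 7), (nat_lit 1), (nat_lit 7)] (nat_lit 12) (nat_lit 3))) (.leaf (.cyc (nat_lit 6) [(nat_lit 7), (nat_lit 6), (nat_lit 7), (nat_lit 6), (nat_lit 7)] (nat_lit 27) (nat_lit 4)))) (.node (.leaf (.pin (nat_lit 4) (nat_lit 2) [] [] (nat_lit 2) (nat_lit 14))) (.leaf (.cyc (nat_lit 2) [(nat_lit 5), (nat_lit 2), (nat_lit 5)] (nat_lit 15) (nat_lit 3))))) (.node (.node (.leaf (.cyc (nat_lit 1) [(nat_lit 2), (nat_lit 1), (nat_lit 2), (nat_lit 1), (nat_lit 2)] (nat_lit 7) (nat_lit 2))) (.leaf (.cyc (nat_lit 2) [(nat_lit 5), (nat_lit 2), (nat_lit 5)] (nat_lit 15) (nat_lit 3)))) (.node (.leaf (.pin (nat_lit 3) (nat_lit 6) [] [] (nat_lit 6) (nat_lit 46))) (.leaf (.cyc (nat_lit 2) [(nat_lit 5), (nat_lit 2), (nat_lit 5)] (nat_lit 15) (nat_lit 3))))))) (.node (.node (.node (.node (.leaf (.cyc (nat_lit 1) [(nat_lit 6), (nat_lit 1), (nat_lit 6)] (nat_lit 11) (nat_lit 3))) (.leaf (.cyc (nat_lit 5) [(nat_lit 6), (nat_lit 5), (nat_lit 6), (nat_lit 5), (nat_lit 6)] (nat_lit 25) (nat_lit 4)))) (.node (.leaf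 (.pin (nat_lit 7) (nat_lit 0) [] [] (nat_lit 0) (nat_lit 6))) (.leaf (.cyc (nat_lit 2) [(nat_lit 5), (nat_lit 2), (nat_lit 5)] (nat_lit 15) (nat_lit 3))))) (.node (.node (.leaf (.cyc (nat_lit 2) [(nat_lit 1), (nat_lit 2), (nat_lit 1), (nat_lit 2), (nat_lit 1)] (nat_lit 7) (nat_lit 3))) (.leaf (.cyc (nat_lit 0) [(nat_lit 4), (nat_lit 0), (nat_lit 4)] (nat_lit 3) (nat_lit 1)))) (.node (.leaf (.pin (nat_lit 1) (nat_lit 4) [] [] (nat_lit 4) (nat_lit 38))) (.leaf (.cyc (nat_lit 2) [(nat_lit 5), (nat_lit 2), (nat_lit 5)] (nat_lit 15) (nat_lit 3)))))) (.node (.node (.node (.leaf (.cyc (nat_lit 1) [(nat_lit 6), (nat_lit 1), (nat_lit 6)] (nat_lit 11) (nat_lit 1))) (.leaf (.cyc (nat_lit 1) [(nat_lit 0), (nat_lit 1), (nat_lit 0), (nat_lit 1), (nat_lit 0)] (nat_lit 0) (nat_lit 3)))) (.node (.leaf (.pin (nat_lit 5) (nat_lit 4) [] [] (nat_lit 4) (nat_lit 22))) (.leaf (.cyc (nat_lit 2) [(nat_lit 5), (nat_lit 2), (nat_lit 5)] (nat_lit 15) (nat_lit 3))))) (.node (.node (.leaf (.cyc (nat_lit 1)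 [(nat_lit 5), (nat_lit 1), (nat_lit 5), (nat_lit 1), (nat_lit 5)] (nat_lit 10) (nat_lit 2))) (.leaf (.cyc (nat_lit 2) [(nat_lit 5), (nat_lit 2), (nat_lit 5)] (nat_lit 15) (nat_lit 3)))) (.node (.leaf (.pin (nat_lit 3) (nat_lit 3) [] [] (nat_lit 3) (nat_lit 54))) (.leaf (.cyc (nat_lit 2) [(nat_lit 5), (nat_lit 2), (nat_lit 5)] (nat_lit 15) (nat_lit 3)))))))) (.node (.node (.node (.node (.node (.leaf (.cyc (nat_lit 3) [(nat_lit 6), (nat_lit 3), (nat_lit 6)] (nat_lit 20) (nat_lit 1))) (.leaf (.cyc (nat_lit 4) [(nat_lit 1), (nat_lit 4), (nat_lit 1)] (nat_lit 9) (nat_lit 0)))) (.node (.leaf (.pin (nat_lit 3) (nat_lit 0) [] [] (nat_lit 0) (nat_lit 2))) (.leaf (.cyc (nat_lit 2) [(nat_lit 5), (nat_lit 2), (nat_lit 5)] (nat_lit 15) (nat_lit 3))))) (.node (.node (.leaf (.cyc (nat_lit 6) [(nat_lit 1), (nat_lit 6), (nat_lit 1)] (nat_lit 11) (nat_lit 2))) (.leaf (.cyc (nat_lit 1) [(nat_lit 0), (nat_lit 1), (nat_lit 0), (nat_lit 1), (nat_lit 0)] (nat_lit 0) (nat_lit 5)))) (.node (.leaf (.pin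 (nat_lit 0) (nat_lit 5) [] [] (nat_lit 5) (nat_lit 34))) (.leaf (.cyc (nat_lit 2) [(nat_lit 5), (nat_lit 2), (nat_lit 5)] (nat_lit 15) (nat_lit 3)))))) (.node (.node (.node (.leaf (.cyc (nat_lit 3) [(nat_lit 5), (nat_lit 3), (nat_lit 5)] (nat_lit 19) (nat_lit 1))) (.leaf (.cyc (nat_lit 6) [(nat_lit 4), (nat_lit 6), (nat_lit 4)] (nat_lit 23) (nat_lit 2)))) (.node (.leaf (.pin (nat_lit 3) (nat_lit 3) [(nat_lit 4)] [] (nat_lit 4) (nat_lit 18))) (.leaf (.cyc (nat_lit 2) [(nat_lit 5), (nat_lit 2), (nat_lit 5)] (nat_lit 15) (nat_lit 3))))) (.node (.node (.leaf (.cyc (nat_lit 5) [(nat_lit 0), (nat_lit 5), (nat_lit 0)] (nat_lit 4) (nat_lit 2))) (.leaf (.cyc (nat_lit 2) [(nat_lit 5), (nat_lit 2), (nat_lit 5)] (nat_lit 15) (nat_lit 3)))) (.node (.leaf (.pin (nat_lit 5) (nat_lit 7) [] [] (nat_lit 7) (nat_lit 50))) (.leaf (.cyc (nat_lit 2) [(nat_lit 5), (nat_lit 2), (nat_lit 5)] (nat_lit 15) (nat_lit 3))))))) (.node (.node (.node (.node (.leaf (.cyc (nat_lit 7) [(nat_lit 3), (nat_lit 7), (nat_lit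 3), (nat_lit 7), (nat_lit 3)] (nat_lit 21) (nat_lit 3))) (.leaf (.cyc (nat_lit 3) [(nat_lit 7), (nat_lit 3), (nat_lit 7), (nat_lit 3), (nat_lit 7)] (nat_lit 21) (nat_lit 4)))) (.node (.leaf (.pin (nat_lit 1) (nat_lit 1) [(nat_lit 5)] [] (nat_lit 5) (nat_lit 10))) (.leaf (.cyc (nat_lit 2) [(nat_lit 5), (nat_lit 2), (nat_lit 5)] (nat_lit 15) (nat_lit 3))))) (.node (.node (.leaf (.cyc (nat_lit 6) [(nat_lit 2), (nat_lit 6), (nat_lit 2)] (nat_lit 16) (nat_lit 2))) (.leaf (.cyc (nat_lit 4) [(nat_lit 2), (nat_lit 4), (nat_lit 2)] (nat_lit 14) (nat_lit 0)))) (.node (.leaf (.pin (nat_lit 2) (nat_lit 5) [] [] (nat_lit 5) (nat_lit 42))) (.leaf (.cyc (nat_lit 2) [(nat_lit 5), (nat_lit 2), (nat_lit 5)] (nat_lit 15) (nat_lit 3)))))) (.node (.node (.node (.leaf (.cyc (nat_lit 7) [(nat_lit 5), (nat_lit 7), (nat_lit 5)] (nat_lit 26) (nat_lit 2))) (.leaf (.cyc (nat_lit 3) [(nat_lit 1), (nat_lit 3), (nat_lit 1)] (nat_lit 8) (nat_lit 0)))) (.node (.leaf (.pin (nat_lit 7) (nat_lit 5) [] [] (nat_lit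 5) (nat_lit 26))) (.leaf (.cyc (nat_lit 2) [(nat_lit 5), (nat_lit 2), (nat_lit 5)] (nat_lit 15) (nat_lit 3))))) (.node (.node (.leaf (.cyc (nat_lit 5) [(nat_lit 7), (nat_lit 5), (nat_lit 7)] (nat_lit 26) (nat_lit 1))) (.leaf (.cyc (nat_lit 2) [(nat_lit 5), (nat_lit 2), (nat_lit 5)] (nat_lit 15) (nat_lit 3)))) (.node (.leaf (.pin (nat_lit 7) (nat_lit 7) [] [] (nat_lit 7) (nat_lit 58))) (.leaf (.cyc (nat_lit 2) [(nat_lit 5), (nat_lit 2), (nat_lit 5)] (nat_lit 15) (nat_lit 3)))))))))))
/-- The quandle relations `(s, w, h)`: conjugating the generator `s` successively by the letters of `w` gives `h`. -/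
def qsU : List (Nat × List Nat × Nat) := [
  (0, [1, 0], 1),
  (0, [2], 0),
  (0, [3], 0),
  (0, [4], 0),
  (0, [5], 0),
  (0, [6], 0),
  (0, [7], 0),
  (1, [2, 1], 2),
  (1, [3], 1),
  (1, [4], 1),
  (1, [5, 1], 5),
  (1, [6], 1),
  (1, [7], 1),
  (2, [3, 2], 3),
  (2, [4], 2),
  (2, [5], 2),
  (2, [6], 2),
  (2, [7], 2),
  (3, [4, 3], 4),
  (3, [5], 3),
  (3, [6], 3),
  (3, [7, 3], 7),
  (4, [5], 4),
  (4, [6], 4),
  (4, [7], 4),
  (5, [6, 5], 6),
  (5, [7], 5),
  (6, [7, 6], 7),
  (1, [2, 3, 5, 7, 6, 5, 1, 2, 3, 7, 6, 5, 3, 2], 1),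
  (0, [1, 2, 5, 1, 6, 5, 7, 3, 6, 7, 2, 1, 5, 3, 2, 1], 0),
  (2, [3, 4, 7, 3, 6, 5, 1, 2, 7, 6, 3, 7, 5, 4, 3, 2], 1),
  (2, [0], 2),
  (3, [0], 3),
  (4, [0], 4),
  (5, [0], 5),
  (6, [0], 6),
  (7, [0], 7),
  (3, [1], 3),
  (4, [1], 4),
  (6, [1], 6),
  (7, [1], 7),
  (4, [2], 4),
  (5, [2], 5),
  (6, [2], 6),
  (7, [2], 7),
  (5, [3], 5),
  (6, [3], 6),
  (5, [4], 5),
  (6, [4], 6),
  (7, [4], 7),
  (7, [5], 7),
  (0, [0], 0),
  (1, [1], 1),
  (2, [2], 2),
  (3, [3], 3),
  (4, [4], 4),
  (5, [5], 5),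
  (6, [6], 6),
  (7, [7], 7)]
noncomputable def CU : Cert := XU.cert rkU ruU rulesU qsU
end CA.TC
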