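import Cfsg.Agent.Fi.ExD
import Cfsg.Agent.Fi.C22
set_option autoImplicit false
set_option maxRecDepth 100000
namespace CA.TC
noncomputable def rl22 : RL :=
  (.cons (nat_lit 320) [(nat_lit 6), (nat_lit 8)] [(nat_lit 8), (nat_lit 6)]
  (.cons (nat_lit 66) [(nat_lit 1), (nat_lit 6)] [(nat_lit 6), (nat_lit 1)]
  (.cons (nat_lit 322) [(nat_lit 1), (nat_lit 8)] [(nat_lit 8), (nat_lit 1)]
  (.cons (nat_lit 65) [(nat_lit 0), (nat_lit 6)] [(nat_lit 6), (nat_lit 0)]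
  (.cons (nat_lit 321) [(nat_lit 0), (nat_lit 8)] [(nat_lit 8), (nat_lit 0)]
  (.cons (nat_lit 33) [(nat_lit 0), (nat_lit 5)] [(nat_lit 5), (nat_lit 0)]
  (.cons (nat_lit 289) [(nat_lit 5), (nat_lit 8)] [(nat_lit 8), (nat_lit 5)]
  (.cons (nat_lit 384) [(nat_lit 7), (nat_lit 8)] [(nat_lit 8), (nat_lit 7)]
  (.cons (nat_lit 386) [(nat_lit 1), (nat_lit 7)] [(nat_lit 7), (nat_lit 1)]
  (.cons (nat_lit 416) [(nat_lit 5), (nat_lit 7)] [(nat_lit 7), (nat_lit 5)]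
  (.cons (nat_lit 417) [(nat_lit 0), (nat_lit 7)] [(nat_lit 7), (nat_lit 0)]
  (.cons (nat_lit 68) [(nat_lit 2), (nat_lit 6)] [(nat_lit 6), (nat_lit 2)]
  (.cons (nat_lit 69) [(nat_lit 0), (nat_lit 2)] [(nat_lit 2), (nat_lit 0)]
  (.cons (nat_lit 325) [(nat_lit 2), (nat_lit 8)] [(nat_lit 8), (nat_lit 2)]
  (.cons (nat_lit 389) [(nat_lit 2), (nat_lit 7)] [(nat_lit 7), (nat_lit 2)]
  (.cons (nat_lit 421) [(nat_lit 2), (nat_lit 5)] [(nat_lit 5), (nat_lit 2)]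
  (.cons (nat_lit 264) [(nat_lit 3), (nat_lit 8)] [(nat_lit 8), (nat_lit 3)]
  (.cons (nat_lit 328) [(nat_lit 3), (nat_lit 6)] [(nat_lit 6), (nat_lit 3)]
  (.cons (nat_lit 330) [(nat_lit 1), (nat_lit 3)] [(nat_lit 3), (nat_lit 1)]
  (.cons (nat_lit 329) [(nat_lit 0), (nat_lit 3)] [(nat_lit 3), (nat_lit 0)]
  (.cons (nat_lit 297) [(nat_lit 3), (nat_lit 5)] [(nat_lit 5), (nat_lit 3)]
  (.cons (nat_lit 576) [(nat_lit 6), (nat_lit 9)] [(nat_lit 9), (nat_lit 6)]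
  (.cons (nat_lit 578) [(nat_lit 1), (nat_lit 9)] [(nat_lit 9), (nat_lit 1)]
  (.cons (nat_lit 586) [(nat_lit 3), (nat_lit 9)] [(nat_lit 9), (nat_lit 3)]
  (.cons (nat_lit 580) [(nat_lit 2), (nat_lit 9)] [(nat_lit 9), (nat_lit 2)]
  (.cons (nat_lit 556) [(nat_lit 5), (nat_lit 9)] [(nat_lit 9), (nat_lit 5)]
  (.cons (nat_lit 678) [(nat_lit 7), (nat_lit 9)] [(nat_lit 9), (nat_lit 7)]
  (.cons (nat_lit 18) [(nat_lit 1), (nat_lit 4)] [(nat_lit 4), (nat_lit 1)]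
  (.cons (nat_lit 82) [(nat_lit 4), (nat_lit 6)] [(nat_lit 6), (nat_lit 4)]
  (.cons (nat_lit 338) [(nat_lit 4), (nat_lit 8)] [(nat_lit 8), (nat_lit 4)]
  (.cons (nat_lit 337) [(nat_lit 0), (nat_lit 4)] [(nat_lit 4), (nat_lit 0)]
  (.cons (nat_lit 403) [(nat_lit 4), (nat_lit 7)] [(nat_lit 7), (nat_lit 4)]
  (.cons (nat_lit 469) [(nat_lit 2), (nat_lit 4)] [(nat_lit 4), (nat_lit 2)]
  (.cons (nat_lit 726) [(nat_lit 4), (nat_lit 9)] [(nat_lit 9), (nat_lit 4)]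
  (.cons (nat_lit 949) [(nat_lit 4), (nat_lit 5)] [(nat_lit 5), (nat_lit 4)]
  (.cons (nat_lit 475) [(nat_lit 0), (nat_lit 1), (nat_lit 0)] [(nat_lit 1), (nat_lit 0), (nat_lit 1)]
  (.cons (nat_lit 765) [(nat_lit 0), (nat_lit 9), (nat_lit 0)] [(nat_lit 9), (nat_lit 0), (nat_lit 9)]
  (.cons (nat_lit 982) [(nat_lit 1), (nat_lit 2), (nat_lit 1)] [(nat_lit 2), (nat_lit 1), (nat_lit 2)]
  (.cons (nat_lit 954) [(nat_lit 1), (nat_lit 5), (nat_lit 1)] [(nat_lit 5), (nat_lit 1), (nat_lit 5)]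
  (.cons (nat_lit 877) [(nat_lit 2), (nat_lit 3), (nat_lit 2)] [(nat_lit 3), (nat_lit 2), (nat_lit 3)]
  (.cons (nat_lit 891) [(nat_lit 3), (nat_lit 4), (nat_lit 3)] [(nat_lit 4), (nat_lit 3), (nat_lit 4)]
  (.cons (nat_lit 939) [(nat_lit 3), (nat_lit 7), (nat_lit 3)] [(nat_lit 7), (nat_lit 3), (nat_lit 7)]
  (.cons (nat_lit 893) [(nat_lit 5), (nat_lit 6), (nat_lit 5)] [(nat_lit 6), (nat_lit 5), (nat_lit 6)]
  (.cons (nat_lit 983) [(nat_lit 6), (nat_lit 7), (nat_lit 6)] [(nat_lit 7), (nat_lit 6), (nat_lit 7)]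
  (.cons (nat_lit 1022) [(nat_lit 8), (nat_lit 9), (nat_lit 8)] [(nat_lit 9), (nat_lit 8), (nat_lit 9)]
  (.cons (nat_lit 770) [(nat_lit 1), (nat_lit 2), (nat_lit 3), (nat_lit 5), (nat_lit 7), (nat_lit 6), (nat_lit 5), (nat_lit 1), (nat_lit 2), (nat_lit 3), (nat_lit 7), (nat_lit 6), (nat_lit 5), (nat_lit 3), (nat_lit 2)] [(nat_lit 2), (nat_lit 3), (nat_lit 5), (nat_lit 7), (nat_lit 6), (nat_lit 5), (nat_lit 1), (nat_lit 2), (nat_lit 3), (nat_lit 7), (nat_lit 6), (nat_lit 5), (nat_lit 3), (nat_lit 2), (nat_lit 1)]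
  (.cons (nat_lit 257) [(nat_lit 0), (nat_lit 1), (nat_lit 2), (nat_lit 5), (nat_lit 1), (nat_lit 6), (nat_lit 5), (nat_lit 7), (nat_lit 3), (nat_lit 6), (nat_lit 7), (nat_lit 2), (nat_lit 1), (nat_lit 5), (nat_lit 3), (nat_lit 2), (nat_lit 1)] [(nat_lit 1), (nat_lit 2), (nat_lit 5), (nat_lit 1), (nat_lit 6), (nat_lit 5), (nat_lit 7), (nat_lit 3), (nat_lit 6), (nat_lit 7), (nat_lit 2), (nat_lit 1), (nat_lit 5), (nat_lit 3), (nat_lit 2), (nat_lit 1), (nat_lit 0)]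
  (.cons (nat_lit 772) [(nat_lit 2), (nat_lit 3), (nat_lit 4), (nat_lit 7), (nat_lit 3), (nat_lit 6), (nat_lit 5), (nat_lit 1), (nat_lit 2), (nat_lit 7), (nat_lit 6), (nat_lit 3), (nat_lit 7), (nat_lit 5), (nat_lit 4), (nat_lit 3), (nat_lit 2)] [(nat_lit 3), (nat_lit 4), (nat_lit 7), (nat_lit 3), (nat_lit 6), (nat_lit 5), (nat_lit 1), (nat_lit 2), (nat_lit 7), (nat_lit 6), (nat_lit 3), (nat_lit 7), (nat_lit 5), (nat_lit 4), (nat_lit 3), (nat_lit 2), (nat_lit 1)]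
  (.cons (nat_lit 17) [(nat_lit 0), (nat_lit 1), (nat_lit 2), (nat_lit 5), (nat_lit 1), (nat_lit 6), (nat_lit 5), (nat_lit 9), (nat_lit 0), (nat_lit 8), (nat_lit 9), (nat_lit 7), (nat_lit 6), (nat_lit 1), (nat_lit 5), (nat_lit 2), (nat_lit 1)] [(nat_lit 1), (nat_lit 2), (nat_lit 5), (nat_lit 1), (nat_lit 6), (nat_lit 5), (nat_lit 9), (nat_lit 0), (nat_lit 8), (nat_lit 9), (nat_lit 7), (nat_lit 6), (nat_lit 1), (nat_lit 5), (nat_lit 2), (nat_lit 1), (nat_lit 0)]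
  RL.nil)))))))))))))))))))))))))))))))))))))))))))))))))
theorem rl22_s : RL.stg 10 rl22 [] = true := by decide +kernel
theorem rl22_q : ∀ q ∈ qs22, q.1 :: q.2.1 = q.2.1 ++ [q.2.2] ∨ rl22.has (q.1 :: q.2.1) (q.2.1 ++ [q.2.2]) = true := by decide +kernel
theorem rl22_c0 : rng (chkRel X22 rl22) 0 3510 6 = true := by decide +kernel
theorem rl22_c : ∀ p < 3510, chkRel X22 rl22 p = true := by
  intro p hp
  exact rng_spec rl22_c0 p (by omega) hp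
end CA.TC
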