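import Cfsg.Agent.Fi.ExD
import Cfsg.Agent.Fi.C23
set_option autoImplicit false
set_option maxRecDepth 100000
namespace CA.TC
noncomputable def rl23 : RL :=
  (.cons (nat_lit 384) [(nat_lit 7), (nat_lit 8)] [(nat_lit 8), (nat_lit 7)]
  (.cons (nat_lit 1056) [(nat_lit 5), (nat_lit 10)] [(nat_lit 10), (nat_lit 5)]
  (.cons (nat_lit 1088) [(nat_lit 6), (nat_lit 10)] [(nat_lit 10), (nat_lit 6)]
  (.cons (nat_lit 80) [(nat_lit 4), (nat_lit 6)] [(nat_lit 6), (nat_lit 4)]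
  (.cons (nat_lit 1104) [(nat_lit 4), (nat_lit 10)] [(nat_lit 10), (nat_lit 4)]
  (.cons (nat_lit 1072) [(nat_lit 4), (nat_lit 5)] [(nat_lit 5), (nat_lit 4)]
  (.cons (nat_lit 65) [(nat_lit 0), (nat_lit 6)] [(nat_lit 6), (nat_lit 0)]
  (.cons (nat_lit 1089) [(nat_lit 0), (nat_lit 10)] [(nat_lit 10), (nat_lit 0)]
  (.cons (nat_lit 1105) [(nat_lit 0), (nat_lit 4)] [(nat_lit 4), (nat_lit 0)]
  (.cons (nat_lit 1073) [(nat_lit 0), (nat_lit 5)] [(nat_lit 5), (nat_lit 0)]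
  (.cons (nat_lit 1152) [(nat_lit 7), (nat_lit 10)] [(nat_lit 10), (nat_lit 7)]
  (.cons (nat_lit 1408) [(nat_lit 8), (nat_lit 10)] [(nat_lit 10), (nat_lit 8)]
  (.cons (nat_lit 1344) [(nat_lit 6), (nat_lit 8)] [(nat_lit 8), (nat_lit 6)]
  (.cons (nat_lit 1345) [(nat_lit 0), (nat_lit 8)] [(nat_lit 8), (nat_lit 0)]
  (.cons (nat_lit 1361) [(nat_lit 4), (nat_lit 8)] [(nat_lit 8), (nat_lit 4)]
  (.cons (nat_lit 1329) [(nat_lit 5), (nat_lit 8)] [(nat_lit 8), (nat_lit 5)]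
  (.cons (nat_lit 1440) [(nat_lit 5), (nat_lit 7)] [(nat_lit 7), (nat_lit 5)]
  (.cons (nat_lit 1441) [(nat_lit 0), (nat_lit 7)] [(nat_lit 7), (nat_lit 0)]
  (.cons (nat_lit 1457) [(nat_lit 4), (nat_lit 7)] [(nat_lit 7), (nat_lit 4)]
  (.cons (nat_lit 72) [(nat_lit 3), (nat_lit 6)] [(nat_lit 6), (nat_lit 3)]
  (.cons (nat_lit 1096) [(nat_lit 3), (nat_lit 10)] [(nat_lit 10), (nat_lit 3)]
  (.cons (nat_lit 1352) [(nat_lit 3), (nat_lit 8)] [(nat_lit 8), (nat_lit 3)]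
  (.cons (nat_lit 1353) [(nat_lit 0), (nat_lit 3)] [(nat_lit 3), (nat_lit 0)]
  (.cons (nat_lit 1321) [(nat_lit 3), (nat_lit 5)] [(nat_lit 5), (nat_lit 3)]
  (.cons (nat_lit 20) [(nat_lit 2), (nat_lit 4)] [(nat_lit 4), (nat_lit 2)]
  (.cons (nat_lit 84) [(nat_lit 2), (nat_lit 6)] [(nat_lit 6), (nat_lit 2)]
  (.cons (nat_lit 85) [(nat_lit 0), (nat_lit 2)] [(nat_lit 2), (nat_lit 0)]
  (.cons (nat_lit 1109) [(nat_lit 2), (nat_lit 10)] [(nat_lit 10), (nat_lit 2)]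
  (.cons (nat_lit 1365) [(nat_lit 2), (nat_lit 8)] [(nat_lit 8), (nat_lit 2)]
  (.cons (nat_lit 1333) [(nat_lit 2), (nat_lit 5)] [(nat_lit 5), (nat_lit 2)]
  (.cons (nat_lit 1461) [(nat_lit 2), (nat_lit 7)] [(nat_lit 7), (nat_lit 2)]
  (.cons (nat_lit 66) [(nat_lit 1), (nat_lit 6)] [(nat_lit 6), (nat_lit 1)]
  (.cons (nat_lit 1090) [(nat_lit 1), (nat_lit 10)] [(nat_lit 10), (nat_lit 1)]
  (.cons (nat_lit 1346) [(nat_lit 1), (nat_lit 8)] [(nat_lit 8), (nat_lit 1)]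
  (.cons (nat_lit 1354) [(nat_lit 1), (nat_lit 3)] [(nat_lit 3), (nat_lit 1)]
  (.cons (nat_lit 1362) [(nat_lit 1), (nat_lit 4)] [(nat_lit 4), (nat_lit 1)]
  (.cons (nat_lit 1426) [(nat_lit 1), (nat_lit 7)] [(nat_lit 7), (nat_lit 1)]
  (.cons (nat_lit 576) [(nat_lit 6), (nat_lit 9)] [(nat_lit 9), (nat_lit 6)]
  (.cons (nat_lit 584) [(nat_lit 3), (nat_lit 9)] [(nat_lit 9), (nat_lit 3)]
  (.cons (nat_lit 586) [(nat_lit 1), (nat_lit 9)] [(nat_lit 9), (nat_lit 1)]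
  (.cons (nat_lit 1610) [(nat_lit 9), (nat_lit 10)] [(nat_lit 10), (nat_lit 9)]
  (.cons (nat_lit 1618) [(nat_lit 4), (nat_lit 9)] [(nat_lit 9), (nat_lit 4)]
  (.cons (nat_lit 1592) [(nat_lit 5), (nat_lit 9)] [(nat_lit 9), (nat_lit 5)]
  (.cons (nat_lit 1652) [(nat_lit 2), (nat_lit 9)] [(nat_lit 9), (nat_lit 2)]
  (.cons (nat_lit 1718) [(nat_lit 7), (nat_lit 9)] [(nat_lit 9), (nat_lit 7)]
  (.cons (nat_lit 2112) [(nat_lit 6), (nat_lit 11)] [(nat_lit 11), (nat_lit 6)]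
  (.cons (nat_lit 2116) [(nat_lit 2), (nat_lit 11)] [(nat_lit 11), (nat_lit 2)]
  (.cons (nat_lit 2117) [(nat_lit 0), (nat_lit 11)] [(nat_lit 11), (nat_lit 0)]
  (.cons (nat_lit 2373) [(nat_lit 8), (nat_lit 11)] [(nat_lit 11), (nat_lit 8)]
  (.cons (nat_lit 2377) [(nat_lit 3), (nat_lit 11)] [(nat_lit 11), (nat_lit 3)]
  (.cons (nat_lit 2349) [(nat_lit 5), (nat_lit 11)] [(nat_lit 11), (nat_lit 5)]
  (.cons (nat_lit 2668) [(nat_lit 9), (nat_lit 11)] [(nat_lit 11), (nat_lit 9)]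
  (.cons (nat_lit 2981) [(nat_lit 7), (nat_lit 11)] [(nat_lit 11), (nat_lit 7)]
  (.cons (nat_lit 3018) [(nat_lit 1), (nat_lit 11)] [(nat_lit 11), (nat_lit 1)]
  (.cons (nat_lit 3547) [(nat_lit 0), (nat_lit 1), (nat_lit 0)] [(nat_lit 1), (nat_lit 0), (nat_lit 1)]
  (.cons (nat_lit 3837) [(nat_lit 0), (nat_lit 9), (nat_lit 0)] [(nat_lit 9), (nat_lit 0), (nat_lit 9)]
  (.cons (nat_lit 4054) [(nat_lit 1), (nat_lit 2), (nat_lit 1)] [(nat_lit 2), (nat_lit 1), (nat_lit 2)]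
  (.cons (nat_lit 4026) [(nat_lit 1), (nat_lit 5), (nat_lit 1)] [(nat_lit 5), (nat_lit 1), (nat_lit 5)]
  (.cons (nat_lit 3949) [(nat_lit 2), (nat_lit 3), (nat_lit 2)] [(nat_lit 3), (nat_lit 2), (nat_lit 3)]
  (.cons (nat_lit 1915) [(nat_lit 3), (nat_lit 4), (nat_lit 3)] [(nat_lit 4), (nat_lit 3), (nat_lit 4)]
  (.cons (nat_lit 4011) [(nat_lit 3), (nat_lit 7), (nat_lit 3)] [(nat_lit 7), (nat_lit 3), (nat_lit 7)]
  (.cons (nat_lit 3063) [(nat_lit 4), (nat_lit 11), (nat_lit 4)] [(nat_lit 11), (nat_lit 4), (nat_lit 11)]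
  (.cons (nat_lit 3965) [(nat_lit 5), (nat_lit 6), (nat_lit 5)] [(nat_lit 6), (nat_lit 5), (nat_lit 6)]
  (.cons (nat_lit 4055) [(nat_lit 6), (nat_lit 7), (nat_lit 6)] [(nat_lit 7), (nat_lit 6), (nat_lit 7)]
  (.cons (nat_lit 4094) [(nat_lit 8), (nat_lit 9), (nat_lit 8)] [(nat_lit 9), (nat_lit 8), (nat_lit 9)]
  (.cons (nat_lit 4079) [(nat_lit 10), (nat_lit 11), (nat_lit 10)] [(nat_lit 11), (nat_lit 10), (nat_lit 11)]
  (.cons (nat_lit 3842) [(nat_lit 1), (nat_lit 2), (nat_lit 3), (nat_lit 5), (nat_lit 7), (nat_lit 6), (nat_lit 5), (nat_lit 1), (nat_lit 2), (nat_lit 3), (nat_lit 7), (nat_lit 6), (nat_lit 5), (nat_lit 3), (nat_lit 2)] [(nat_lit 2), (nat_lit 3), (nat_lit 5), (nat_lit 7), (nat_lit 6), (nat_lit 5), (nat_lit 1), (nat_lit 2), (nat_lit 3), (nat_lit 7), (nat_lit 6), (nat_lit 5), (nat_lit 3), (nat_lit 2), (nat_lit 1)]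
  (.cons (nat_lit 3329) [(nat_lit 0), (nat_lit 1), (nat_lit 2), (nat_lit 5), (nat_lit 1), (nat_lit 6), (nat_lit 5), (nat_lit 7), (nat_lit 3), (nat_lit 6), (nat_lit 7), (nat_lit 2), (nat_lit 1), (nat_lit 5), (nat_lit 3), (nat_lit 2), (nat_lit 1)] [(nat_lit 1), (nat_lit 2), (nat_lit 5), (nat_lit 1), (nat_lit 6), (nat_lit 5), (nat_lit 7), (nat_lit 3), (nat_lit 6), (nat_lit 7), (nat_lit 2), (nat_lit 1), (nat_lit 5), (nat_lit 3), (nat_lit 2), (nat_lit 1), (nat_lit 0)]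
  (.cons (nat_lit 1796) [(nat_lit 2), (nat_lit 3), (nat_lit 4), (nat_lit 7), (nat_lit 3), (nat_lit 6), (nat_lit 5), (nat_lit 1), (nat_lit 2), (nat_lit 7), (nat_lit 6), (nat_lit 3), (nat_lit 7), (nat_lit 5), (nat_lit 4), (nat_lit 3), (nat_lit 2)] [(nat_lit 3), (nat_lit 4), (nat_lit 7), (nat_lit 3), (nat_lit 6), (nat_lit 5), (nat_lit 1), (nat_lit 2), (nat_lit 7), (nat_lit 6), (nat_lit 3), (nat_lit 7), (nat_lit 5), (nat_lit 4), (nat_lit 3), (nat_lit 2), (nat_lit 1)]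
  (.cons (nat_lit 3089) [(nat_lit 0), (nat_lit 1), (nat_lit 2), (nat_lit 5), (nat_lit 1), (nat_lit 6), (nat_lit 5), (nat_lit 9), (nat_lit 0), (nat_lit 8), (nat_lit 9), (nat_lit 7), (nat_lit 6), (nat_lit 1), (nat_lit 5), (nat_lit 2), (nat_lit 1)] [(nat_lit 1), (nat_lit 2), (nat_lit 5), (nat_lit 1), (nat_lit 6), (nat_lit 5), (nat_lit 9), (nat_lit 0), (nat_lit 8), (nat_lit 9), (nat_lit 7), (nat_lit 6), (nat_lit 1), (nat_lit 5), (nat_lit 2), (nat_lit 1), (nat_lit 0)]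
  (.cons (nat_lit 773) [(nat_lit 2), (nat_lit 3), (nat_lit 4), (nat_lit 7), (nat_lit 3), (nat_lit 6), (nat_lit 7), (nat_lit 11), (nat_lit 4), (nat_lit 10), (nat_lit 11), (nat_lit 5), (nat_lit 6), (nat_lit 3), (nat_lit 7), (nat_lit 4), (nat_lit 3)] [(nat_lit 3), (nat_lit 4), (nat_lit 7), (nat_lit 3), (nat_lit 6), (nat_lit 7), (nat_lit 11), (nat_lit 4), (nat_lit 10), (nat_lit 11), (nat_lit 5), (nat_lit 6), (nat_lit 3), (nat_lit 7), (nat_lit 4), (nat_lit 3), (nat_lit 2)]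
  RL.nil)))))))))))))))))))))))))))))))))))))))))))))))))))))))))))))))))))))))
theorem rl23_s : RL.stg 12 rl23 [] = true := by decide +kernel
theorem rl23_q : ∀ q ∈ qs23, q.1 :: q.2.1 = q.2.1 ++ [q.2.2] ∨ rl23.has (q.1 :: q.2.1) (q.2.1 ++ [q.2.2]) = true := by decide +kernel
theorem rl23_c0 : rng (chkRel X23 rl23) 0 6400 7 = true := by decide +kernel
theorem rl23_c1 : rng (chkRel X23 rl23) 6400 12800 7 = true := by decide +kernel
theorem rl23_c2 : rng (chkRel X23 rl23) 12800 19200 7 = true := by decide +kernel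
theorem rl23_c3 : rng (chkRel X23 rl23) 19200 25600 7 = true := by decide +kernel
theorem rl23_c4 : rng (chkRel X23 rl23) 25600 31671 7 = true := by decide +kernel
theorem rl23_c : ∀ p < 31671, chkRel X23 rl23 p = true := by
  intro p hp
  by_cases h0 : p < 6400
  · exact rng_spec rl23_c0 p (by omega) h0
  by_cases h1 : p < 12800
  · exact rng_spec rl23_c1 p (by omega) h1
  by_cases h2 : p < 19200
  · exact rng_spec rl23_c2 p (by omega) h2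
  by_cases h3 : p < 25600
  · exact rng_spec rl23_c3 p (by omega) h3
  exact rng_spec rl23_c4 p (by omega) hp
end CA.TC
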