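import Cfsg.Agent.Fi.ExD
import Cfsg.Agent.Fi.C24
set_option autoImplicit false
set_option maxRecDepth 100000
namespace CA.TC
noncomputable def rl24 : RL :=
  (.cons (nat_lit 80) [(nat_lit 4), (nat_lit 6)] [(nat_lit 6), (nat_lit 4)]
  (.cons (nat_lit 72) [(nat_lit 3), (nat_lit 6)] [(nat_lit 6), (nat_lit 3)]
  (.cons (nat_lit 8256) [(nat_lit 6), (nat_lit 13)] [(nat_lit 13), (nat_lit 6)]
  (.cons (nat_lit 8264) [(nat_lit 3), (nat_lit 13)] [(nat_lit 13), (nat_lit 3)]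
  (.cons (nat_lit 8272) [(nat_lit 4), (nat_lit 13)] [(nat_lit 13), (nat_lit 4)]
  (.cons (nat_lit 144) [(nat_lit 4), (nat_lit 7)] [(nat_lit 7), (nat_lit 4)]
  (.cons (nat_lit 10) [(nat_lit 1), (nat_lit 3)] [(nat_lit 3), (nat_lit 1)]
  (.cons (nat_lit 74) [(nat_lit 1), (nat_lit 6)] [(nat_lit 6), (nat_lit 1)]
  (.cons (nat_lit 8266) [(nat_lit 1), (nat_lit 13)] [(nat_lit 13), (nat_lit 1)]
  (.cons (nat_lit 8274) [(nat_lit 1), (nat_lit 4)] [(nat_lit 4), (nat_lit 1)]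
  (.cons (nat_lit 146) [(nat_lit 1), (nat_lit 7)] [(nat_lit 7), (nat_lit 1)]
  (.cons (nat_lit 65) [(nat_lit 0), (nat_lit 6)] [(nat_lit 6), (nat_lit 0)]
  (.cons (nat_lit 73) [(nat_lit 0), (nat_lit 3)] [(nat_lit 3), (nat_lit 0)]
  (.cons (nat_lit 8265) [(nat_lit 0), (nat_lit 13)] [(nat_lit 13), (nat_lit 0)]
  (.cons (nat_lit 8273) [(nat_lit 0), (nat_lit 4)] [(nat_lit 4), (nat_lit 0)]
  (.cons (nat_lit 145) [(nat_lit 0), (nat_lit 7)] [(nat_lit 7), (nat_lit 0)]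
  (.cons (nat_lit 20) [(nat_lit 2), (nat_lit 4)] [(nat_lit 4), (nat_lit 2)]
  (.cons (nat_lit 84) [(nat_lit 2), (nat_lit 6)] [(nat_lit 6), (nat_lit 2)]
  (.cons (nat_lit 8276) [(nat_lit 2), (nat_lit 13)] [(nat_lit 13), (nat_lit 2)]
  (.cons (nat_lit 8277) [(nat_lit 0), (nat_lit 2)] [(nat_lit 2), (nat_lit 0)]
  (.cons (nat_lit 149) [(nat_lit 2), (nat_lit 7)] [(nat_lit 7), (nat_lit 2)]
  (.cons (nat_lit 40) [(nat_lit 3), (nat_lit 5)] [(nat_lit 5), (nat_lit 3)]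
  (.cons (nat_lit 8232) [(nat_lit 5), (nat_lit 13)] [(nat_lit 13), (nat_lit 5)]
  (.cons (nat_lit 8233) [(nat_lit 0), (nat_lit 5)] [(nat_lit 5), (nat_lit 0)]
  (.cons (nat_lit 8229) [(nat_lit 2), (nat_lit 5)] [(nat_lit 5), (nat_lit 2)]
  (.cons (nat_lit 8245) [(nat_lit 4), (nat_lit 5)] [(nat_lit 5), (nat_lit 4)]
  (.cons (nat_lit 181) [(nat_lit 5), (nat_lit 7)] [(nat_lit 7), (nat_lit 5)]
  (.cons (nat_lit 576) [(nat_lit 6), (nat_lit 9)] [(nat_lit 9), (nat_lit 6)]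
  (.cons (nat_lit 578) [(nat_lit 1), (nat_lit 9)] [(nat_lit 9), (nat_lit 1)]
  (.cons (nat_lit 586) [(nat_lit 3), (nat_lit 9)] [(nat_lit 9), (nat_lit 3)]
  (.cons (nat_lit 8778) [(nat_lit 9), (nat_lit 13)] [(nat_lit 13), (nat_lit 9)]
  (.cons (nat_lit 8786) [(nat_lit 4), (nat_lit 9)] [(nat_lit 9), (nat_lit 4)]
  (.cons (nat_lit 8760) [(nat_lit 5), (nat_lit 9)] [(nat_lit 9), (nat_lit 5)]
  (.cons (nat_lit 8820) [(nat_lit 2), (nat_lit 9)] [(nat_lit 9), (nat_lit 2)]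
  (.cons (nat_lit 694) [(nat_lit 7), (nat_lit 9)] [(nat_lit 9), (nat_lit 7)]
  (.cons (nat_lit 1088) [(nat_lit 6), (nat_lit 10)] [(nat_lit 10), (nat_lit 6)]
  (.cons (nat_lit 1096) [(nat_lit 3), (nat_lit 10)] [(nat_lit 10), (nat_lit 3)]
  (.cons (nat_lit 1098) [(nat_lit 1), (nat_lit 10)] [(nat_lit 10), (nat_lit 1)]
  (.cons (nat_lit 9290) [(nat_lit 10), (nat_lit 13)] [(nat_lit 13), (nat_lit 10)]
  (.cons (nat_lit 9802) [(nat_lit 9), (nat_lit 10)] [(nat_lit 10), (nat_lit 9)]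
  (.cons (nat_lit 9810) [(nat_lit 4), (nat_lit 10)] [(nat_lit 10), (nat_lit 4)]
  (.cons (nat_lit 9305) [(nat_lit 0), (nat_lit 10)] [(nat_lit 10), (nat_lit 0)]
  (.cons (nat_lit 9785) [(nat_lit 5), (nat_lit 10)] [(nat_lit 10), (nat_lit 5)]
  (.cons (nat_lit 9845) [(nat_lit 2), (nat_lit 10)] [(nat_lit 10), (nat_lit 2)]
  (.cons (nat_lit 1719) [(nat_lit 7), (nat_lit 10)] [(nat_lit 10), (nat_lit 7)]
  (.cons (nat_lit 2112) [(nat_lit 6), (nat_lit 11)] [(nat_lit 11), (nat_lit 6)]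
  (.cons (nat_lit 2120) [(nat_lit 3), (nat_lit 11)] [(nat_lit 11), (nat_lit 3)]
  (.cons (nat_lit 2122) [(nat_lit 1), (nat_lit 11)] [(nat_lit 11), (nat_lit 1)]
  (.cons (nat_lit 10314) [(nat_lit 11), (nat_lit 13)] [(nat_lit 13), (nat_lit 11)]
  (.cons (nat_lit 10826) [(nat_lit 9), (nat_lit 11)] [(nat_lit 11), (nat_lit 9)]
  (.cons (nat_lit 10313) [(nat_lit 0), (nat_lit 11)] [(nat_lit 11), (nat_lit 0)]
  (.cons (nat_lit 10821) [(nat_lit 2), (nat_lit 11)] [(nat_lit 11), (nat_lit 2)]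
  (.cons (nat_lit 10797) [(nat_lit 5), (nat_lit 11)] [(nat_lit 11), (nat_lit 5)]
  (.cons (nat_lit 2727) [(nat_lit 7), (nat_lit 11)] [(nat_lit 11), (nat_lit 7)]
  (.cons (nat_lit 264) [(nat_lit 3), (nat_lit 8)] [(nat_lit 8), (nat_lit 3)]
  (.cons (nat_lit 328) [(nat_lit 6), (nat_lit 8)] [(nat_lit 8), (nat_lit 6)]
  (.cons (nat_lit 330) [(nat_lit 1), (nat_lit 8)] [(nat_lit 8), (nat_lit 1)]
  (.cons (nat_lit 1354) [(nat_lit 8), (nat_lit 10)] [(nat_lit 10), (nat_lit 8)]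
  (.cons (nat_lit 2378) [(nat_lit 8), (nat_lit 11)] [(nat_lit 11), (nat_lit 8)]
  (.cons (nat_lit 3401) [(nat_lit 0), (nat_lit 8)] [(nat_lit 8), (nat_lit 0)]
  (.cons (nat_lit 3459) [(nat_lit 7), (nat_lit 8)] [(nat_lit 8), (nat_lit 7)]
  (.cons (nat_lit 1491) [(nat_lit 4), (nat_lit 8)] [(nat_lit 8), (nat_lit 4)]
  (.cons (nat_lit 3513) [(nat_lit 5), (nat_lit 8)] [(nat_lit 8), (nat_lit 5)]
  (.cons (nat_lit 3573) [(nat_lit 2), (nat_lit 8)] [(nat_lit 8), (nat_lit 2)]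
  (.cons (nat_lit 4104) [(nat_lit 3), (nat_lit 12)] [(nat_lit 12), (nat_lit 3)]
  (.cons (nat_lit 4168) [(nat_lit 6), (nat_lit 12)] [(nat_lit 12), (nat_lit 6)]
  (.cons (nat_lit 4170) [(nat_lit 1), (nat_lit 12)] [(nat_lit 12), (nat_lit 1)]
  (.cons (nat_lit 4682) [(nat_lit 9), (nat_lit 12)] [(nat_lit 12), (nat_lit 9)]
  (.cons (nat_lit 5706) [(nat_lit 10), (nat_lit 12)] [(nat_lit 12), (nat_lit 10)]
  (.cons (nat_lit 6730) [(nat_lit 11), (nat_lit 12)] [(nat_lit 12), (nat_lit 11)]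
  (.cons (nat_lit 7498) [(nat_lit 8), (nat_lit 12)] [(nat_lit 12), (nat_lit 8)]
  (.cons (nat_lit 8004) [(nat_lit 2), (nat_lit 12)] [(nat_lit 12), (nat_lit 2)]
  (.cons (nat_lit 8070) [(nat_lit 7), (nat_lit 12)] [(nat_lit 12), (nat_lit 7)]
  (.cons (nat_lit 7629) [(nat_lit 0), (nat_lit 12)] [(nat_lit 12), (nat_lit 0)]
  (.cons (nat_lit 6103) [(nat_lit 4), (nat_lit 12)] [(nat_lit 12), (nat_lit 4)]
  (.cons (nat_lit 8125) [(nat_lit 5), (nat_lit 12)] [(nat_lit 12), (nat_lit 5)]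
  (.cons (nat_lit 15835) [(nat_lit 0), (nat_lit 1), (nat_lit 0)] [(nat_lit 1), (nat_lit 0), (nat_lit 1)]
  (.cons (nat_lit 16125) [(nat_lit 0), (nat_lit 9), (nat_lit 0)] [(nat_lit 9), (nat_lit 0), (nat_lit 9)]
  (.cons (nat_lit 16342) [(nat_lit 1), (nat_lit 2), (nat_lit 1)] [(nat_lit 2), (nat_lit 1), (nat_lit 2)]
  (.cons (nat_lit 16314) [(nat_lit 1), (nat_lit 5), (nat_lit 1)] [(nat_lit 5), (nat_lit 1), (nat_lit 5)]
  (.cons (nat_lit 16237) [(nat_lit 2), (nat_lit 3), (nat_lit 2)] [(nat_lit 3), (nat_lit 2), (nat_lit 3)]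
  (.cons (nat_lit 14203) [(nat_lit 3), (nat_lit 4), (nat_lit 3)] [(nat_lit 4), (nat_lit 3), (nat_lit 4)]
  (.cons (nat_lit 8107) [(nat_lit 3), (nat_lit 7), (nat_lit 3)] [(nat_lit 7), (nat_lit 3), (nat_lit 7)]
  (.cons (nat_lit 15351) [(nat_lit 4), (nat_lit 11), (nat_lit 4)] [(nat_lit 11), (nat_lit 4), (nat_lit 11)]
  (.cons (nat_lit 16253) [(nat_lit 5), (nat_lit 6), (nat_lit 5)] [(nat_lit 6), (nat_lit 5), (nat_lit 6)]
  (.cons (nat_lit 8151) [(nat_lit 6), (nat_lit 7), (nat_lit 6)] [(nat_lit 7), (nat_lit 6), (nat_lit 7)]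
  (.cons (nat_lit 11959) [(nat_lit 7), (nat_lit 13), (nat_lit 7)] [(nat_lit 13), (nat_lit 7), (nat_lit 13)]
  (.cons (nat_lit 8190) [(nat_lit 8), (nat_lit 9), (nat_lit 8)] [(nat_lit 9), (nat_lit 8), (nat_lit 9)]
  (.cons (nat_lit 11647) [(nat_lit 8), (nat_lit 13), (nat_lit 8)] [(nat_lit 13), (nat_lit 8), (nat_lit 13)]
  (.cons (nat_lit 16367) [(nat_lit 10), (nat_lit 11), (nat_lit 10)] [(nat_lit 11), (nat_lit 10), (nat_lit 11)]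
  (.cons (nat_lit 15999) [(nat_lit 12), (nat_lit 13), (nat_lit 12)] [(nat_lit 13), (nat_lit 12), (nat_lit 13)]
  (.cons (nat_lit 7938) [(nat_lit 1), (nat_lit 2), (nat_lit 3), (nat_lit 5), (nat_lit 7), (nat_lit 6), (nat_lit 5), (nat_lit 1), (nat_lit 2), (nat_lit 3), (nat_lit 7), (nat_lit 6), (nat_lit 5), (nat_lit 3), (nat_lit 2)] [(nat_lit 2), (nat_lit 3), (nat_lit 5), (nat_lit 7), (nat_lit 6), (nat_lit 5), (nat_lit 1), (nat_lit 2), (nat_lit 3), (nat_lit 7), (nat_lit 6), (nat_lit 5), (nat_lit 3), (nat_lit 2), (nat_lit 1)]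
  (.cons (nat_lit 7425) [(nat_lit 0), (nat_lit 1), (nat_lit 2), (nat_lit 5), (nat_lit 1), (nat_lit 6), (nat_lit 5), (nat_lit 7), (nat_lit 3), (nat_lit 6), (nat_lit 7), (nat_lit 2), (nat_lit 1), (nat_lit 5), (nat_lit 3), (nat_lit 2), (nat_lit 1)] [(nat_lit 1), (nat_lit 2), (nat_lit 5), (nat_lit 1), (nat_lit 6), (nat_lit 5), (nat_lit 7), (nat_lit 3), (nat_lit 6), (nat_lit 7), (nat_lit 2), (nat_lit 1), (nat_lit 5), (nat_lit 3), (nat_lit 2), (nat_lit 1), (nat_lit 0)]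
  (.cons (nat_lit 5892) [(nat_lit 2), (nat_lit 3), (nat_lit 4), (nat_lit 7), (nat_lit 3), (nat_lit 6), (nat_lit 5), (nat_lit 1), (nat_lit 2), (nat_lit 7), (nat_lit 6), (nat_lit 3), (nat_lit 7), (nat_lit 5), (nat_lit 4), (nat_lit 3), (nat_lit 2)] [(nat_lit 3), (nat_lit 4), (nat_lit 7), (nat_lit 3), (nat_lit 6), (nat_lit 5), (nat_lit 1), (nat_lit 2), (nat_lit 7), (nat_lit 6), (nat_lit 3), (nat_lit 7), (nat_lit 5), (nat_lit 4), (nat_lit 3), (nat_lit 2), (nat_lit 1)]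
  (.cons (nat_lit 7185) [(nat_lit 0), (nat_lit 1), (nat_lit 2), (nat_lit 5), (nat_lit 1), (nat_lit 6), (nat_lit 5), (nat_lit 9), (nat_lit 0), (nat_lit 8), (nat_lit 9), (nat_lit 7), (nat_lit 6), (nat_lit 1), (nat_lit 5), (nat_lit 2), (nat_lit 1)] [(nat_lit 1), (nat_lit 2), (nat_lit 5), (nat_lit 1), (nat_lit 6), (nat_lit 5), (nat_lit 9), (nat_lit 0), (nat_lit 8), (nat_lit 9), (nat_lit 7), (nat_lit 6), (nat_lit 1), (nat_lit 5), (nat_lit 2), (nat_lit 1), (nat_lit 0)]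
  (.cons (nat_lit 4869) [(nat_lit 2), (nat_lit 3), (nat_lit 4), (nat_lit 7), (nat_lit 3), (nat_lit 6), (nat_lit 7), (nat_lit 11), (nat_lit 4), (nat_lit 10), (nat_lit 11), (nat_lit 5), (nat_lit 6), (nat_lit 3), (nat_lit 7), (nat_lit 4), (nat_lit 3)] [(nat_lit 3), (nat_lit 4), (nat_lit 7), (nat_lit 3), (nat_lit 6), (nat_lit 7), (nat_lit 11), (nat_lit 4), (nat_lit 10), (nat_lit 11), (nat_lit 5), (nat_lit 6), (nat_lit 3), (nat_lit 7), (nat_lit 4), (nat_lit 3), (nat_lit 2)]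
  (.cons (nat_lit 3089) [(nat_lit 0), (nat_lit 1), (nat_lit 2), (nat_lit 5), (nat_lit 1), (nat_lit 6), (nat_lit 7), (nat_lit 13), (nat_lit 8), (nat_lit 12), (nat_lit 13), (nat_lit 7), (nat_lit 6)] [(nat_lit 1), (nat_lit 2), (nat_lit 5), (nat_lit 1), (nat_lit 6), (nat_lit 7), (nat_lit 13), (nat_lit 8), (nat_lit 12), (nat_lit 13), (nat_lit 7), (nat_lit 6), (nat_lit 5)]
  (.cons (nat_lit 8192) [(nat_lit 13), (nat_lit 7), (nat_lit 3), (nat_lit 4), (nat_lit 11), (nat_lit 6), (nat_lit 5), (nat_lit 1), (nat_lit 2), (nat_lit 3), (nat_lit 7), (nat_lit 6), (nat_lit 1), (nat_lit 5), (nat_lit 4), (nat_lit 3), (nat_lit 2), (nat_lit 1), (nat_lit 0), (nat_lit 1), (nat_lit 2), (nat_lit 3), (nat_lit 4), (nat_lit 5), (nat_lit 1), (nat_lit 6), (nat_lit 7), (nat_lit 3), (nat_lit 2), (nat_lit 1), (nat_lit 5), (nat_lit 6), (nat_lit 11), (nat_lit 4), (nat_lit 3), (nat_lit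 7)] [(nat_lit 7), (nat_lit 3), (nat_lit 4), (nat_lit 11), (nat_lit 6), (nat_lit 5), (nat_lit 1), (nat_lit 2), (nat_lit 3), (nat_lit 7), (nat_lit 6), (nat_lit 1), (nat_lit 5), (nat_lit 4), (nat_lit 3), (nat_lit 2), (nat_lit 1), (nat_lit 0), (nat_lit 1), (nat_lit 2), (nat_lit 3), (nat_lit 4), (nat_lit 5), (nat_lit 1), (nat_lit 6), (nat_lit 7), (nat_lit 3), (nat_lit 2), (nat_lit 1), (nat_lit 5), (nat_lit 6), (nat_lit 11), (nat_lit 4), (nat_lit 3), (nat_lit 7), (nat_lit 13)]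
  RL.nil))))))))))))))))))))))))))))))))))))))))))))))))))))))))))))))))))))))))))))))))))))))))))))))))))
theorem rl24_s : RL.stg 14 rl24 [] = true := by decide +kernel
theorem rl24_q : ∀ q ∈ qs24, q.1 :: q.2.1 = q.2.1 ++ [q.2.2] ∨ rl24.has (q.1 :: q.2.1) (q.2.1 ++ [q.2.2]) = true := by decide +kernel
end CA.TC
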