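import Cfsg.Agent.Fi.Rl24_00
import Cfsg.Agent.Fi.Rl24_01
import Cfsg.Agent.Fi.Rl24_02
import Cfsg.Agent.Fi.Rl24_03
import Cfsg.Agent.Fi.Rl24_04
import Cfsg.Agent.Fi.Rl24_05
import Cfsg.Agent.Fi.Rl24_06
import Cfsg.Agent.Fi.Rl24_07
import Cfsg.Agent.Fi.Rl24_08
import Cfsg.Agent.Fi.Rl24_09
import Cfsg.Agent.Fi.Rl24_10
import Cfsg.Agent.Fi.Rl24_11
import Cfsg.Agent.Fi.Rl24_12
import Cfsg.Agent.Fi.Rl24_13
import Cfsg.Agent.Fi.Rl24_14
set_option autoImplicit false
set_option maxRecDepth 100000
namespace CA.TC
theorem rl24_c : ∀ p < 306936, chkRel X24 rl24 p = true := by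
  intro p hp
  by_cases h0 : p < 5120
  · exact rng_spec rl24_c0 p (by omega) h0
  by_cases h1 : p < 10240
  · exact rng_spec rl24_c1 p (by omega) h1
  by_cases h2 : p < 15360
  · exact rng_spec rl24_c2 p (by omega) h2
  by_cases h3 : p < 20480
  · exact rng_spec rl24_c3 p (by omega) h3
  by_cases h4 : p < 25600
  · exact rng_spec rl24_c4 p (by omega) h4
  by_cases h5 : p < 30720
  · exact rng_spec rl24_c5 p (by omega) h5
  by_cases h6 : p < 35840
  · exact rng_spec rl24_c6 p (by omega) h6
  by_cases h7 : p < 40960
  · exact rng_spec rl24_c7 p (by omega) h7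
  by_cases h8 : p < 46080
  · exact rng_spec rl24_c8 p (by omega) h8
  by_cases h9 : p < 51200
  · exact rng_spec rl24_c9 p (by omega) h9
  by_cases h10 : p < 56320
  · exact rng_spec rl24_c10 p (by omega) h10
  by_cases h11 : p < 61440
  · exact rng_spec rl24_c11 p (by omega) h11
  by_cases h12 : p < 66560
  · exact rng_spec rl24_c12 p (by omega) h12
  by_cases h13 : p < 71680
  · exact rng_spec rl24_c13 p (by omega) h13
  by_cases h14 : p < 76800
  · exact rng_spec rl24_c14 p (by omega) h14
  by_cases h15 : p < 81920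
  · exact rng_spec rl24_c15 p (by omega) h15
  by_cases h16 : p < 87040
  · exact rng_spec rl24_c16 p (by omega) h16
  by_cases h17 : p < 92160
  · exact rng_spec rl24_c17 p (by omega) h17
  by_cases h18 : p < 97280
  · exact rng_spec rl24_c18 p (by omega) h18
  by_cases h19 : p < 102400
  · exact rng_spec rl24_c19 p (by omega) h19
  by_cases h20 : p < 107520
  · exact rng_spec rl24_c20 p (by omega) h20
  by_cases h21 : p < 112640
  · exact rng_spec rl24_c21 p (by omega) h21
  by_cases h22 : p < 117760
  · exact rng_spec rl24_c22 p (by omega) h22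
  by_cases h23 : p < 122880
  · exact rng_spec rl24_c23 p (by omega) h23
  by_cases h24 : p < 128000
  · exact rng_spec rl24_c24 p (by omega) h24
  by_cases h25 : p < 133120
  · exact rng_spec rl24_c25 p (by omega) h25
  by_cases h26 : p < 138240
  · exact rng_spec rl24_c26 p (by omega) h26
  by_cases h27 : p < 143360
  · exact rng_spec rl24_c27 p (by omega) h27
  by_cases h28 : p < 148480
  · exact rng_spec rl24_c28 p (by omega) h28
  by_cases h29 : p < 153600
  · exact rng_spec rl24_c29 p (by omega) h29
  by_cases h30 : p < 158720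
  · exact rng_spec rl24_c30 p (by omega) h30
  by_cases h31 : p < 163840
  · exact rng_spec rl24_c31 p (by omega) h31
  by_cases h32 : p < 168960
  · exact rng_spec rl24_c32 p (by omega) h32
  by_cases h33 : p < 174080
  · exact rng_spec rl24_c33 p (by omega) h33
  by_cases h34 : p < 179200
  · exact rng_spec rl24_c34 p (by omega) h34
  by_cases h35 : p < 184320
  · exact rng_spec rl24_c35 p (by omega) h35
  by_cases h36 : p < 189440
  · exact rng_spec rl24_c36 p (by omega) h36
  by_cases h37 : p < 194560
  · exact rng_spec rl24_c37 p (by omega) h37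
  by_cases h38 : p < 199680
  · exact rng_spec rl24_c38 p (by omega) h38
  by_cases h39 : p < 204800
  · exact rng_spec rl24_c39 p (by omega) h39
  by_cases h40 : p < 209920
  · exact rng_spec rl24_c40 p (by omega) h40
  by_cases h41 : p < 215040
  · exact rng_spec rl24_c41 p (by omega) h41
  by_cases h42 : p < 220160
  · exact rng_spec rl24_c42 p (by omega) h42
  by_cases h43 : p < 225280
  · exact rng_spec rl24_c43 p (by omega) h43
  by_cases h44 : p < 230400
  · exact rng_spec rl24_c44 p (by omega) h44
  by_cases h45 : p < 235520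
  · exact rng_spec rl24_c45 p (by omega) h45
  by_cases h46 : p < 240640
  · exact rng_spec rl24_c46 p (by omega) h46
  by_cases h47 : p < 245760
  · exact rng_spec rl24_c47 p (by omega) h47
  by_cases h48 : p < 250880
  · exact rng_spec rl24_c48 p (by omega) h48
  by_cases h49 : p < 256000
  · exact rng_spec rl24_c49 p (by omega) h49
  by_cases h50 : p < 261120
  · exact rng_spec rl24_c50 p (by omega) h50
  by_cases h51 : p < 266240
  · exact rng_spec rl24_c51 p (by omega) h51
  by_cases h52 : p < 271360
  · exact rng_spec rl24_c52 p (by omega) h52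
  by_cases h53 : p < 276480
  · exact rng_spec rl24_c53 p (by omega) h53
  by_cases h54 : p < 281600
  · exact rng_spec rl24_c54 p (by omega) h54
  by_cases h55 : p < 286720
  · exact rng_spec rl24_c55 p (by omega) h55
  by_cases h56 : p < 291840
  · exact rng_spec rl24_c56 p (by omega) h56
  by_cases h57 : p < 296960
  · exact rng_spec rl24_c57 p (by omega) h57
  by_cases h58 : p < 302080
  · exact rng_spec rl24_c58 p (by omega) h58
  exact rng_spec rl24_c59 p (by omega) hp
end CA.TC
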